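import Groth.Agent.L08.Cube.Fibrewise

/-!
# The set of trivial fibres of an invertible module is closed
-/

set_option autoImplicit false
set_option linter.style.haveILetI false
set_option linter.unusedSectionVars false
set_option backward.isDefEq.respectTransparency false

universe u

open CategoryTheory CategoryTheory.Limits AlgebraicGeometry TopologicalSpace Opposite

noncomputable section

namespace Groth.L08.Cube

variable {P B : Scheme.{u}} (f : P ⟶ B) [IsProper f] [Flat f] [LocallyOfFinitePresentation f]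
  [GeometricallyIntegral f] [IsLocallyNoetherian B]

/-- The fibres over the closure of a set of trivial fibres are trivial. -/
theorem trivial_on_fibres_of_mem_closure (L : P.Modules) (hL : PicF.IsInvertible L) {S : Set B}
    (htriv : ∀ w ∈ S, Nonempty (CohIII.fiberMod f L w ≅ Coh.structureModule (f.fiber w))) (w : B) (hS : w ∈ closure S) :
    Nonempty (CohIII.fiberMod f L w ≅ Coh.structureModule (f.fiber w)) := by
  obtain ⟨N, hN, ⟨ε⟩⟩ := exists_inverse hL
  have hflat : ∀ {M : P.Modules}, PicF.IsInvertible M → FlatMod.IsFlatOver f M := fun hM =>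
    Groth.L29.DC.RelTor.isFlatOver_of_isFlat f (Groth.L21.RR.isFlat_of_isInvertible hM)
  haveI := Groth.L21.Extend.isQCoh_of_isInvertible hL
  haveI := Groth.L21.Extend.isQCoh_of_isInvertible hN
  let εw : ∀ w : B, CohB1.tensorMod (CohIII.fiberMod f L w) (CohIII.fiberMod f N w) ≅ Coh.structureModule (f.fiber w) :=
    fun w => Groth.L29.DC.PullTensor.pullTensor (f.fiberι w) L N ≪≫ (Scheme.Modules.pullback (f.fiberι w)).mapIso ε ≪≫
      Groth.L29.LocFree.pullbackUnitIso (f.fiberι w)
  have hN' : ∀ w ∈ S, Nonempty (CohIII.fiberMod f N w ≅ Coh.structureModule (f.fiber w)) := fun w hw => by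
    obtain ⟨e⟩ := htriv w hw
    exact ⟨(Groth.L00.Tensor.tensorUnitLeft _).symm ≪≫ Groth.L00.Tensor.tensorIso e.symm (Iso.refl _) ≪≫ εw w⟩
  have key : ∀ (M : P.Modules), PicF.IsInvertible M → (∀ w ∈ S, Nonempty (CohIII.fiberMod f M w ≅ Coh.structureModule (f.fiber w))) →
      ∃ σ : Γ(CohIII.fiberMod f M w, ⊤), σ ≠ 0 := fun M hM hMS => by
    haveI := Groth.L21.Extend.isQCoh_of_isInvertible hM
    refine exists_ne_zero_of_fiberRank f M w ?_
    have hcl : IsClosed {w : B | ¬ CohIII.fiberRank f M 0 w < 1} :=
      isClosed_not_fiberRank_lt f M (Groth.L18.Ample.isCoh_of_isInvertible hM) (hflat hM) 0 1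
    refine hcl.closure_subset_iff.2 (fun v hv => ?_) hS
    obtain ⟨e⟩ := hMS v hv
    show ¬ CohIII.fiberRank f M 0 v < 1
    rw [fiberRank_of_trivial f M v e]
    exact lt_irrefl 1
  obtain ⟨σ, hσ⟩ := key L hL htriv
  obtain ⟨τ, hτ⟩ := key N hN hN'
  have hLw := Groth.L18.Ample.isInvertible_pullback (f.fiberι w) hL
  obtain ⟨t, ht⟩ := exists_cosec (εw w) hLw (Groth.L18.Ample.isInvertible_pullback (f.fiberι w) hN) hτ
  let q : f.fiber w ⟶ Spec (CommRingCat.of (B.residueField w)) := f.fiberToSpecResidueField w
  haveI : UniversallyClosed q := MorphismProperty.of_isPullback (IsPullback.of_hasPullback f (B.fromSpecResidueField w)) (inferInstance : UniversallyClosed f)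
  exact nonempty_iso_of_sec_cosec (isField_of_universallyClosed (B.residueField w) q) hLw σ hσ t ht

theorem isClosed_trivial_fibres (L : P.Modules) (hL : PicF.IsInvertible L) :
    IsClosed {w : B | Nonempty (CohIII.fiberMod f L w ≅ Coh.structureModule (f.fiber w))} :=
  isClosed_of_closure_subset fun w hw =>
    trivial_on_fibres_of_mem_closure f L hL (fun _ h => h) w hw

end Groth.L08.Cube
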