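import Groth.Agent.L08.Cube.ThreeMaps
import Groth.Agent.L08.Cube.ClosedTriv
import Groth.Agent.L25.GeomIrred
import Groth.Agent.L25.GeomRed
import Mathlib.AlgebraicGeometry.AlgClosed.Basic

/-!
# Fibres over rational points of a product over an algebraically closed field
-/

set_option autoImplicit false
set_option linter.style.haveILetI false
set_option linter.unusedSectionVars false
set_option backward.isDefEq.respectTransparency false

universe u

open CategoryTheory CategoryTheory.Limits MonoidalCategory CartesianMonoidalCategory AlgebraicGeometry TopologicalSpace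

open scoped MonObj

noncomputable section

namespace Groth.L08.Cube

open Groth.Agent.AbDualLib

attribute [local instance] clMonoid

variable {K : Type u} [Field K] [IsAlgClosed K]

/-- An integral scheme over an algebraically closed field is geometrically integral. -/
theorem geometricallyIntegral_of_isAlgClosed {X : Scheme.{u}} (f : X ⟶ Spec (CommRingCat.of K))
    [AlgebraicGeometry.IsIntegral X] : GeometricallyIntegral f := by
  haveI := Groth.L25.GeomIrred.geometricallyIrreducible_of_isAlgClosed f
  haveI : GeometricallyReduced f := ⟨fun L _ x Z fst snd h => by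
    haveI := Groth.L25.GeomRed.isReduced_pullback f x
    exact isReduced_of_isOpenImmersion h.isoPullback.hom⟩
  exact GeometricallyIntegral.of_geometricallyReduced_of_geometricallyIrreducible _

/-- An open subset containing all closed points of a Jacobson space is everything. -/
theorem eq_top_of_closedPoints {X : Type u} [TopologicalSpace X] [JacobsonSpace X] (U : Opens X)
    (h : ∀ x : X, IsClosed ({x} : Set X) → x ∈ U) : U = ⊤ := by
  refine top_le_iff.1 fun x _ => ?_
  by_contra hx
  obtain ⟨y, hy, hyc⟩ := nonempty_inter_closedPoints (Z := (U : Set X)ᶜ) ⟨x, hx⟩ U.2.isClosed_compl.isLocallyClosed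
  exact hy (h y hyc)

variable {A C : Over (Spec (CommRingCat.of K))}

/-- The image of the point of a rational point. -/
abbrev kpt (a : 𝟙_ (Over (Spec (CommRingCat.of K))) ⟶ A) : A.left := a.left (IsLocalRing.closedPoint K)

theorem isClosed_kpt [LocallyOfFiniteType A.hom] (a : 𝟙_ (Over (Spec (CommRingCat.of K))) ⟶ A) :
    IsClosed ({kpt a} : Set A.left) :=
  mem_closedPoints_iff.1 (pointEquivClosedPoint A.hom ⟨a.left, Over.w a⟩).2

theorem exists_kpt [LocallyOfFiniteType A.hom] (x : A.left) (hx : IsClosed ({x} : Set A.left)) :
    ∃ a : 𝟙_ (Over (Spec (CommRingCat.of K))) ⟶ A, kpt a = x :=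
  ⟨Over.homMk (pointOfClosedPoint A.hom x hx) (pointOfClosedPoint_comp A.hom x hx),
    pointOfClosedPoint_apply A.hom x hx _⟩

theorem kpt_injective [LocallyOfFiniteType A.hom] : Function.Injective (kpt (A := A)) := fun _ _ h =>
  Over.OverMorphism.ext (ext_of_apply_closedPoint_eq A.hom (Over.w _) (Over.w _) h)

/-- The residue field of a rational point is the ground field. -/
theorem fromSpecResidueField_kpt [LocallyOfFiniteType A.hom] (a : 𝟙_ (Over (Spec (CommRingCat.of K))) ⟶ A) :
    (A.left.fromSpecResidueField (kpt a) ≫ A.hom) ≫ a.left = A.left.fromSpecResidueField (kpt a) ∧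
      ∃ t : Spec (CommRingCat.of K) ⟶ Spec (A.left.residueField (kpt a)),
        t ≫ A.left.fromSpecResidueField (kpt a) = a.left := by
  have hc := isClosed_kpt a
  have h : pointOfClosedPoint A.hom (kpt a) hc = a.left :=
    ext_of_apply_closedPoint_eq A.hom (pointOfClosedPoint_comp A.hom _ hc) (Over.w a)
      (pointOfClosedPoint_apply A.hom _ hc _)
  refine ⟨?_, ⟨Spec.map (residueFieldIsoBase A.hom (kpt a) hc).hom, h⟩⟩
  rw [← h, pointOfClosedPoint, ← SpecMap_residueFieldIsoBase_inv A.hom (kpt a) hc, ← Category.assoc,
    ← Spec.map_comp, Iso.hom_inv_id, Spec.map_id, Category.id_comp]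

/-- The slice of a product over a rational point of the second factor. -/
abbrev slice (C : Over (Spec (CommRingCat.of K))) (a : 𝟙_ (Over (Spec (CommRingCat.of K))) ⟶ A) : C ⟶ C ⊗ A :=
  lift (𝟙 C) (toUnit C ≫ a)

/-- A module is trivial on the fibre over a rational point iff it is trivial on the slice. -/
theorem fiber_trivial_iff_slice [LocallyOfFiniteType A.hom] (a : 𝟙_ (Over (Spec (CommRingCat.of K))) ⟶ A)
    (M : (C ⊗ A).left.Modules) :
    Nonempty (CohIII.fiberMod (snd C A).left M (kpt a) ≅ Coh.structureModule ((snd C A).left.fiber (kpt a))) ↔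
      Nonempty ((Scheme.Modules.pullback (slice C a).left).obj M ≅ Coh.structureModule C.left) := by
  obtain ⟨h1, t, ht⟩ := fromSpecResidueField_kpt a
  have hs : (slice C a).left ≫ (snd C A).left = C.hom ≫ a.left := by
    rw [← Over.comp_left, lift_snd]
    rfl
  constructor
  · intro h
    exact trivial_comp (pullback.lift (slice C a).left (C.hom ≫ t) (by rw [Category.assoc, ht, hs]))
      ((snd C A).left.fiberι (kpt a)) (pullback.lift_fst _ _ _) M h
  · intro h
    refine trivial_comp ((snd C A).left.fiberι (kpt a) ≫ (fst C A).left) (slice C a).left ?_ M h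
    apply (isPullback_prod C A).hom_ext
    · rw [Category.assoc, Category.assoc, ← Over.comp_left, lift_fst, Over.id_left, Category.comp_id]
    · rw [Category.assoc, Category.assoc, hs]
      have hw : (fst C A).left ≫ C.hom = (snd C A).left ≫ A.hom := (isPullback_prod C A).w
      have hc : (snd C A).left.fiberι (kpt a) ≫ (snd C A).left =
          (snd C A).left.fiberToSpecResidueField (kpt a) ≫ A.left.fromSpecResidueField (kpt a) := pullback.condition
      rw [reassoc_of% hw, reassoc_of% hc, ← Category.assoc (A.left.fromSpecResidueField (kpt a)), h1, hc]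

/-- Triviality in terms of classes. -/
theorem nonempty_iso_structure_iff {X : Scheme.{u}} (M : X.Modules) :
    Nonempty (M ≅ Coh.structureModule X) ↔ PicF.cl M = 1 :=
  (PicGrp.cl_eq_cl_iff _ _).symm

end Groth.L08.Cube
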