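import Groth.Agent.L08.Cube.Inverse
import Groth.Agent.L18.GenLocus
import Groth.Agent.L22.PicGlue.Cocycle
import Groth.Agent.L22.Div.ComplAffine
import Groth.Agent.L19.IdealInvertible
import Groth.Agent.L10.RegularUFD

/-!
# The invertible module of an effective Cartier divisor with its canonical section
-/

set_option autoImplicit false
set_option linter.style.haveILetI false
set_option backward.isDefEq.respectTransparency false

universe u

open CategoryTheory AlgebraicGeometry TopologicalSpace Opposite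

noncomputable section

namespace Groth.L08.Cube

open Groth.L18.Frame (rs ro rs_rs rs_self rs_smul ro_ro ro_self ro_mul IsFrame)
open Groth.L18.GenLoc (secOf secOf_homOfSection genLocus_inf_eq tens tens_rs tens_smul_left tens_smul_right isFrame_tens)

variable {X : Scheme.{u}}

/-- An effective Cartier divisor gives an invertible module with a section generating exactly off the
divisor. -/
theorem exists_section_of_effCartier (I : X.IdealSheafData) (hI : BlowUp.IsEffCartierIdeal I) :
    ∃ (N : X.Modules) (s : Coh.structureModule X ⟶ N), PicF.IsInvertible N ∧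
      Nonempty (CohB1.tensorMod (ClSub.idealMod I) N ≅ Coh.structureModule X) ∧
      (CohB1.genLocus N s : Set X) = (I.support : Set X)ᶜ := by
  have hL := (Groth.Agent.L19.IdealInvertible.isEffCartier_iff I).2 hI
  set L := ClSub.idealMod I
  have hcov : ∀ x : X, ∃ (V : X.Opens) (e : Γ(L, V)), x ∈ V ∧ IsAffineOpen V ∧ IsFrame L V e := by
    intro x
    obtain ⟨W, e, hxW, he⟩ := Groth.L18.Frame.exists_frame hL x
    obtain ⟨V, hV, hxV, hVW⟩ := exists_isAffineOpen_mem_and_subset (x := x) (U := W) hxW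
    exact ⟨V, rs L hVW e, hxV, hV, he.mono hVW⟩
  choose W e hW hWa he using hcov
  let io : ∀ V : X.Opens, Γ(L, V) → Γ(X, V) := fun V m => show Γ(X, V) from (ClSub.idealModι I).app V m
  have io_smul : ∀ (V : X.Opens) (a : Γ(X, V)) (m : Γ(L, V)), io V (a • m) = a * io V m := fun V a m =>
    Groth.Agent.L19.IdealInvertible.io_smul I a m
  have io_rs : ∀ (V V' : X.Opens) (h : V' ≤ V) (m : Γ(L, V)), io V' (rs L h m) = ro h (io V m) :=
    fun V V' h m => Groth.Agent.L19.IdealInvertible.io_rs I h m
  choose c hc using fun i j : X =>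
    ((he i).mono (inf_le_left : W i ⊓ W j ≤ W i)).exists_coeff le_rfl (rs L inf_le_right (e j))
  simp only [rs_self] at hc
  have hcV : ∀ (i j : X) (V : X.Opens) (hi : V ≤ W i) (hj : V ≤ W j),
      ro (le_inf hi hj) (c i j) • rs L hi (e i) = rs L hj (e j) := by
    intro i j V hi hj
    have := congrArg (rs L (le_inf hi hj)) (hc i j)
    rwa [rs_smul, rs_rs, rs_rs] at this
  have hmul : ∀ (i j k : X) (V : X.Opens) (hi : V ≤ W i) (hj : V ≤ W j) (hk : V ≤ W k),
      ro (le_inf hj hk) (c j k) * ro (le_inf hi hj) (c i j) = ro (le_inf hi hk) (c i k) := by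
    intro i j k V hi hj hk
    refine (he i).inj hi ?_
    rw [mul_smul, hcV i j V hi hj, hcV j k V hj hk, hcV i k V hi hk]
  have hone : ∀ (i : X) (V : X.Opens) (hi : V ≤ W i) (h : V ≤ W i ⊓ W i), ro h (c i i) = 1 := by
    intro i V hi h
    refine (he i).inj hi ?_
    rw [hcV i i V hi hi, one_smul]
  let C : Groth.L22.PicGlue.Cocycle X :=
    { ι := X
      N := W
      g := fun i j => ro (le_inf inf_le_right inf_le_left : W i ⊓ W j ≤ W j ⊓ W i) (c j i)
      one := fun i => hone i _ inf_le_left _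
      comp := fun i j k => by
        show ro _ (ro _ (c j i)) * ro _ (ro _ (c k j)) = ro _ (ro _ (c k i))
        rw [ro_ro, ro_ro, ro_ro]
        exact hmul k j i _ inf_le_right (inf_le_left.trans inf_le_right) (inf_le_left.trans inf_le_left) }
  let N := Groth.L22.PicGlue.glueMod C
  let d : ∀ i : X, Γ(N, W i) := fun i => Groth.L22.PicGlue.gen C i
  have hd : ∀ i, IsFrame N (W i) (d i) := fun i V h => Groth.L22.PicGlue.isGen_gen C i V h
  let f : ∀ i : X, Γ(X, W i) := fun i => io (W i) (e i)
  have hT : ∀ i j : X, rs N (inf_le_left : W i ⊓ W j ≤ W i) (f i • d i) =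
      rs N (inf_le_right : W i ⊓ W j ≤ W j) (f j • d j) := by
    intro i j
    have hdd : rs N (inf_le_right : W i ⊓ W j ≤ W j) (d j) =
        ro (le_inf inf_le_right inf_le_left : W i ⊓ W j ≤ W j ⊓ W i) (c j i) • rs N inf_le_left (d i) :=
      Groth.L22.PicGlue.gen_trans C i j
    rw [rs_smul, rs_smul, hdd, smul_smul]
    congr 1
    rw [← io_rs, ← io_rs, mul_comm, ← io_smul]
    congr 1
    exact (hcV j i _ inf_le_right inf_le_left).symm
  let ON : TopCat.Sheaf Ab.{u} X.toTopCat := ⟨N.presheaf, N.isSheaf⟩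
  obtain ⟨σ, hσ, -⟩ := ON.existsUnique_gluing' W ⊤ (fun i => homOfLE le_top)
    (fun x _ => Opens.mem_iSup.2 ⟨x, hW x⟩) (fun i => f i • d i) fun i j => hT i j
  -- the pairing of the ideal with the module
  let T : ∀ i : X, Γ(CohB1.tensorMod L N, W i) := fun i => tens L N (W i) (e i) (d i)
  have hT' : ∀ i j : X, rs (CohB1.tensorMod L N) (inf_le_left : W i ⊓ W j ≤ W i) (T i) =
      rs (CohB1.tensorMod L N) (inf_le_right : W i ⊓ W j ≤ W j) (T j) := by
    intro i j
    have hdd : rs N (inf_le_right : W i ⊓ W j ≤ W j) (d j) =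
        ro (le_inf inf_le_right inf_le_left : W i ⊓ W j ≤ W j ⊓ W i) (c j i) • rs N inf_le_left (d i) :=
      Groth.L22.PicGlue.gen_trans C i j
    rw [tens_rs, tens_rs, hdd, ← hc i j, tens_smul_left, tens_smul_right, smul_smul]
    rw [show c i j * ro _ (c j i) = 1 from ?_, one_smul]
    have h2 := hmul j i j (W i ⊓ W j) inf_le_right inf_le_left inf_le_right
    rw [hone j _ inf_le_right, ro_self] at h2
    exact h2
  let OT : TopCat.Sheaf Ab.{u} X.toTopCat := ⟨(CohB1.tensorMod L N).presheaf, (CohB1.tensorMod L N).isSheaf⟩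
  obtain ⟨τ, hτ, -⟩ := OT.existsUnique_gluing' W ⊤ (fun i => homOfLE le_top)
    (fun x _ => Opens.mem_iSup.2 ⟨x, hW x⟩) T fun i j => hT' i j
  refine ⟨N, Groth.L16.homOfSection N σ, Groth.L22.PicGlue.isInvertible_glueMod C (fun x => ⟨x, hW x⟩),
    nonempty_iso_of_frame_top (σ := τ)
      (IsFrame.of_cover W (fun _ => le_top) (fun x _ => Opens.mem_iSup.2 ⟨x, hW x⟩) fun i => ?_), ?_⟩
  · rw [show rs (CohB1.tensorMod L N) le_top τ = T i from hτ i]
    exact isFrame_tens (he i) (hd i)
  -- the section generates exactly where the equation of the divisor is a unit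
  ext x
  have h1 := genLocus_inf_eq (Groth.L16.homOfSection N σ) (hd x) (a := f x)
    (by rw [secOf_homOfSection]; exact (hσ x).symm)
  have h2 : x ∈ CohB1.genLocus N (Groth.L16.homOfSection N σ) ↔ x ∈ X.basicOpen (f x) := by
    rw [← h1]
    exact ⟨fun h => ⟨h, hW x⟩, fun h => h.1⟩
  refine h2.trans ?_
  rw [Set.mem_compl_iff, SetLike.mem_coe]
  have hspan : I.ideal ⟨W x, hWa x⟩ = Ideal.span {f x} := by
    ext a
    rw [Groth.L18.IdealModule.mem_ideal_iff I (hWa x), Ideal.mem_span_singleton']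
    constructor
    · rintro ⟨m, rfl⟩
      obtain ⟨b, hb⟩ := (he x).exists_coeff le_rfl m
      rw [rs_self] at hb
      exact ⟨b, by rw [← io_smul, hb]⟩
    · rintro ⟨b, rfl⟩
      exact ⟨b • e x, io_smul _ b (e x)⟩
  rw [show x ∈ I.support ↔ x ∈ X.zeroLocus (U := W x) (I.ideal ⟨W x, hWa x⟩) from
    Scheme.IdealSheafData.mem_support_iff_of_mem (I := I) (U := ⟨W x, hWa x⟩) (hW x), hspan,
    Scheme.zeroLocus_span, Scheme.zeroLocus_singleton, Set.mem_compl_iff, SetLike.mem_coe, not_not]

end Groth.L08.Cube
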