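import Mathlib.Topology.KrullDimension
import Mathlib.Topology.Sober
import Mathlib.Order.KrullDimension

/-!
# A closed endomorphism with discrete fibres of a finite dimensional irreducible space is surjective
-/

set_option autoImplicit false

universe u

open TopologicalSpace Topology

namespace Groth.L08.Cube

/-- A closed continuous self map without specialisations in its fibres of a finite dimensional
irreducible sober space is surjective. -/
theorem surjective_of_closed_discrete_fibres {T : Type u} [TopologicalSpace T] [QuasiSober T] [T0Space T]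
    [IrreducibleSpace T] (f : T → T) (hf : Continuous f) (hcl : IsClosedMap f)
    (hfib : ∀ x y, x ⤳ y → f x = f y → x = y) (hdim : topologicalKrullDim T ≠ ⊤) :
    Function.Surjective f := by
  by_contra hs
  let top : IrreducibleCloseds T := ⟨Set.univ, IrreducibleSpace.isIrreducible_univ T, isClosed_univ⟩
  haveI : Nonempty (IrreducibleCloseds T) := ⟨top⟩
  haveI : FiniteDimensionalOrder (IrreducibleCloseds T) :=
    Order.finiteDimensionalOrder_iff_krullDim_ne_bot_and_top.2
      ⟨Order.krullDim_ne_bot_iff.2 ‹_›, hdim⟩
  let φ : IrreducibleCloseds T → IrreducibleCloseds T := fun Z =>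
    ⟨f '' Z, Z.isIrreducible'.image f hf.continuousOn, hcl _ Z.isClosed'⟩
  have hφ : StrictMono φ := by
    intro Z Z' h
    have hsub : (Z : Set T) ⊆ Z' := h.le
    refine lt_of_le_of_ne (Set.image_mono hsub) fun e => h.ne ?_
    have hz := Z.isIrreducible'.isGenericPoint_genericPoint Z.isClosed'
    have hz' := Z'.isIrreducible'.isGenericPoint_genericPoint Z'.isClosed'
    set z := Z.isIrreducible'.genericPoint
    set z' := Z'.isIrreducible'.genericPoint
    have h1 : IsGenericPoint (f z) (f '' (Z : Set T)) := by
      have := hz.image hf
      rwa [(hcl _ Z.isClosed').closure_eq] at this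
    have h2 : IsGenericPoint (f z') (f '' (Z' : Set T)) := by
      have := hz'.image hf
      rwa [(hcl _ Z'.isClosed').closure_eq] at this
    have e' : f '' (Z : Set T) = f '' (Z' : Set T) := congrArg SetLike.coe e
    rw [e'] at h1
    have h3 : z' = z := hfib _ _ (hz'.specializes (hsub hz.mem)) (h2.eq h1)
    refine SetLike.coe_injective ?_
    have h4 : closure {z} = (Z : Set T) := hz
    have h5 : closure {z'} = (Z' : Set T) := hz'
    rw [← h4, ← h5, h3]
  let p := LTSeries.longestOf (IrreducibleCloseds T)
  have hlt : (p.map φ hφ).last < top := by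
    refine lt_of_le_of_ne (fun _ _ => trivial) fun e => hs ?_
    intro t
    have ht : t ∈ ((p.map φ hφ).last : Set T) := by rw [e]; trivial
    rw [LTSeries.last_map] at ht
    obtain ⟨x, -, hx⟩ := ht
    exact ⟨x, hx⟩
  exact Nat.not_succ_le_self p.length (RelSeries.length_le_length_longestOf _ ((p.map φ hφ).snoc top hlt))

end Groth.L08.Cube
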