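import Groth.Agent.L06.Dim
import Groth.Agent.L05.Smooth.GeomRegular
import Mathlib.RingTheory.Smooth.Flat
import Mathlib.AlgebraicGeometry.Morphisms.Smooth
import Mathlib.AlgebraicGeometry.Morphisms.FiniteType

/-!
# Stalks of smooth schemes over a field and finiteness of dimension
-/

set_option autoImplicit false
set_option linter.style.haveILetI false
set_option maxSynthPendingDepth 3

universe u

open CategoryTheory CategoryTheory.Limits AlgebraicGeometry TopologicalSpace TensorProduct

namespace Groth.L08.Cube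

/-- Regularity of the stalks of a scheme smooth over a field. -/
theorem isRegularLocalRing_of_smooth {k : Type u} [Field k] {F : Scheme.{u}} (q : F ⟶ Spec (CommRingCat.of k))
    [Smooth q] (z : F) : IsRegularLocalRing (F.presheaf.stalk z) := by
  obtain ⟨_, ⟨W, hW, rfl⟩, hzW, -⟩ := F.isBasis_affineOpens.exists_subset_of_mem_open
    (Set.mem_univ z) isOpen_univ
  have hsm : (q.appLE ⊤ W le_top).hom.Smooth :=
    HasRingHomProperty.appLE @Smooth q ‹_› ⟨⊤, isAffineOpen_top _⟩ ⟨W, hW⟩ le_top
  let φ : k →+* Γ(F, W) := ((Scheme.ΓSpecIso (CommRingCat.of k)).inv ≫ q.appLE ⊤ W le_top).hom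
  have hφ : φ.Smooth := RingHom.Smooth.respectsIso.2 _
    (Scheme.ΓSpecIso (CommRingCat.of k)).symm.commRingCatIsoToRingEquiv hsm
  letI := φ.toAlgebra
  haveI : Algebra.Smooth k Γ(F, W) := RingHom.smooth_algebraMap.mp hφ
  haveI := Groth.L05.Smooth.geometricallyRegular_of_smooth k Γ(F, W) k inferInstance
  haveI : IsRegularRing Γ(F, W) := IsRegularRing.of_ringEquiv (R := k ⊗[k] Γ(F, W))
    (Algebra.TensorProduct.lid k Γ(F, W)).toRingEquiv
  letI := F.presheaf.algebra_section_stalk ⟨z, hzW⟩
  haveI := hW.isLocalization_stalk ⟨z, hzW⟩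
  haveI := IsRegularRing.isRegularLocalRing_localization (hW.primeIdealOf ⟨z, hzW⟩).asIdeal
  exact IsRegularLocalRing.of_ringEquiv (R := Localization.AtPrime (hW.primeIdealOf ⟨z, hzW⟩).asIdeal)
    (IsLocalization.algEquiv (hW.primeIdealOf ⟨z, hzW⟩).asIdeal.primeCompl _ _).toRingEquiv

theorem ringKrullDim_lt_top {R A : Type u} [CommRing R] [IsNoetherianRing R] [CommRing A] [Algebra R A]
    [Algebra.FiniteType R A] (h : ringKrullDim R < ⊤) : ringKrullDim A < ⊤ := by
  obtain ⟨n, f, hf⟩ := Algebra.FiniteType.iff_quotient_mvPolynomial''.1 ‹Algebra.FiniteType R A›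
  refine (ringKrullDim_le_of_surjective f.toRingHom hf).trans_lt ?_
  rw [MvPolynomial.ringKrullDim_of_isNoetherianRing]
  generalize ringKrullDim R = d at h
  induction d with
  | bot => simp
  | coe d =>
    induction d with
    | top => exact absurd h (lt_irrefl _)
    | coe m =>
      have h1 := WithBot.coe_lt_coe.2 (ENat.coe_lt_top (m + Nat.card (Fin n)))
      rw [ENat.coe_add, WithBot.coe_add] at h1
      exact h1

theorem topologicalKrullDim_lt_top {R : Type u} [CommRing R] [IsNoetherianRing R] (h : ringKrullDim R < ⊤)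
    {X : Scheme.{u}} (f : X ⟶ Spec (CommRingCat.of R)) [LocallyOfFiniteType f] [QuasiCompact f] :
    topologicalKrullDim X < ⊤ := by
  haveI : CompactSpace X := QuasiCompact.compactSpace_of_compactSpace f
  obtain ⟨T, hT⟩ := (isCompact_univ : IsCompact (Set.univ : Set X)).elim_finite_subcover
    (fun U : X.affineOpens => ((U : X.Opens) : Set X)) (fun U => U.1.2) (by
      intro x _
      obtain ⟨_, ⟨U, hU, rfl⟩, hx, -⟩ := X.isBasis_affineOpens.exists_subset_of_mem_open (Set.mem_univ x) isOpen_univ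
      exact Set.mem_iUnion.2 ⟨⟨U, hU⟩, hx⟩)
  have hU : ∀ U : X.affineOpens, topologicalKrullDim ((U : X.Opens) : Set X) < ⊤ := by
    rintro ⟨U, hU⟩
    obtain ⟨φ, hφ⟩ := Spec.map_surjective (hU.fromSpec ≫ f)
    letI : Algebra R Γ(X, U) := φ.hom.toAlgebra
    haveI : Algebra.FiniteType R Γ(X, U) := by
      rw [← RingHom.finiteType_algebraMap]
      refine (HasRingHomProperty.Spec_iff (P := @LocallyOfFiniteType) (φ := φ)).1 ?_
      rw [hφ]; infer_instance
    refine lt_of_eq_of_lt ?_ (ringKrullDim_lt_top (A := Γ(X, U)) h)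
    rw [← PrimeSpectrum.topologicalKrullDim_eq_ringKrullDim]
    exact (hU.isoSpec.hom.homeomorph.isHomeomorph.topologicalKrullDim_eq)
  refine (iSup_le fun p => ?_).trans_lt
    (show (T.sup fun U => topologicalKrullDim ((U : X.Opens) : Set X)) < ⊤ from
      (Finset.sup_lt_iff (by simp)).2 fun U _ => hU U)
  obtain ⟨x, hx⟩ := p.head.isIrreducible'.nonempty
  obtain ⟨U, hUT, hxU⟩ := Set.mem_iUnion₂.1 (hT (Set.mem_univ x))
  exact (Groth.L06.Dim.length_le_of_head_inter p U.1.2 ⟨x, hx, hxU⟩).trans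
    (Finset.le_sup (f := fun U : X.affineOpens => topologicalKrullDim ((U : X.Opens) : Set X)) hUT)

end Groth.L08.Cube
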