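import Groth.Agent.L08.Cube.NPull
import Groth.Agent.L08.Cube.DivSection
import Groth.Agent.L08.Cube.FiniteSurj
import Groth.Agent.L08.Cube.SmoothStalk
import Groth.Agent.L18.AmpleOps
import Groth.Agent.L18.AmplePull
import Mathlib.AlgebraicGeometry.Group.Smooth
import Mathlib.AlgebraicGeometry.ZariskisMainTheorem

/-!
# Multiplication by a positive integer on an abelian variety is surjective
-/

set_option autoImplicit false
set_option linter.style.haveILetI false
set_option linter.unusedSectionVars false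
set_option backward.isDefEq.respectTransparency false

universe u

open CategoryTheory CategoryTheory.Limits MonoidalCategory CartesianMonoidalCategory AlgebraicGeometry TopologicalSpace

open scoped MonObj

noncomputable section

namespace Groth.L08.Cube

open Groth.Agent.AbDualLib

attribute [local instance] clMonoid

/-- Pullback of classes as a homomorphism. -/
def pullClHom {Y Z : Scheme.{u}} (g : Z ⟶ Y) : PicF.Cl Y →* PicF.Cl Z where
  toFun := PicF.pullCl g
  map_one' := pullCl_one g
  map_mul' := pullCl_mul g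

theorem pullCl_pow {Y Z : Scheme.{u}} (g : Z ⟶ Y) (a : PicF.Cl Y) (n : ℕ) :
    PicF.pullCl g (a ^ n) = PicF.pullCl g a ^ n :=
  map_pow (pullClHom g) a n

/-- Maps from a connected proper scheme to an affine one are constant. -/
theorem apply_eq_of_affine {K : Type u} [Field K] {Z U : Scheme.{u}} [AlgebraicGeometry.IsIntegral Z] [IsAffine U]
    (p : Z ⟶ Spec (CommRingCat.of K)) [UniversallyClosed p] (j : Z ⟶ U) (a b : Z) : j a = j b := by
  letI := (isField_of_universallyClosed K p).toField
  haveI : Subsingleton ↥(Spec Γ(Z, ⊤)) := inferInstanceAs (Subsingleton (PrimeSpectrum Γ(Z, ⊤)))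
  have h : j = Z.toSpecΓ ≫ Spec.map j.appTop ≫ U.isoSpec.inv := by
    rw [← reassoc_of% (Scheme.toSpecΓ_naturality j), Scheme.toSpecΓ_isoSpec_inv, Category.comp_id]
  rw [h]
  simp only [Scheme.Hom.comp_apply]
  rw [Subsingleton.elim (Z.toSpecΓ a) (Z.toSpecΓ b)]

section

variable {K : Type u} [Field K] {A : Over (Spec (CommRingCat.of K))} [GrpObj A] [IsProper A.hom]
  [GeometricallyIntegral A.hom]

/-- A morphism from a proper integral scheme killed by multiplication by `n` is constant. -/
theorem apply_eq_of_mul_const {K' : Type u} [Field K'] {Z P : Scheme.{u}} [AlgebraicGeometry.IsIntegral Z] [Subsingleton P]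
    (p : Z ⟶ Spec (CommRingCat.of K')) [UniversallyClosed p] {n : ℕ} (hn : 1 ≤ n)
    (j : Z ⟶ A.left) (g : Z ⟶ P) (c : P ⟶ A.left) (hc : g ≫ c = j ≫ (𝟙 A ^ n).left) (a b : Z) :
    j a = j b := by
  haveI : Smooth A.hom :=
    haveI : GrpObj (Over.mk A.hom) := inferInstanceAs (GrpObj A)
    smooth_of_grpObj A.hom
  haveI : AlgebraicGeometry.IsIntegral A.left := GeometricallyIntegral.isIntegral_of_subsingleton A.hom
  haveI : A.left.IsSeparated := ⟨by rw [← terminal.comp_from A.hom]; infer_instance⟩
  haveI : IsLocallyNoetherian A.left := LocallyOfFiniteType.isLocallyNoetherian A.hom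
  haveI : CompactSpace A.left := QuasiCompact.compactSpace_of_compactSpace A.hom
  haveI : IsNoetherian A.left := {}
  -- a divisor whose complement is an affine neighbourhood of the image of `a`
  obtain ⟨U, hU, haU, -⟩ := exists_isAffineOpen_mem_and_subset (x := j a) (U := (⊤ : A.left.Opens)) trivial
  haveI := Groth.L22.Div.isAffineHom_ι_of_inf (fun V W hV hW => hV.inf hW) hU
  obtain ⟨D, hD, hDs⟩ := Groth.L22.Div.exists_effCartier_compl U
    (U.2.dense ⟨_, haU⟩) fun x _ => by
      haveI := isRegularLocalRing_of_smooth A.hom x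
      exact ⟨Groth.L01.isDomain_of_regular _, Groth.L10.RegUFD.isUFD _⟩
  obtain ⟨L, s, hL, -, hs⟩ := exists_section_of_effCartier D hD
  rw [hDs, compl_compl] at hs
  -- a positive power of its restriction is trivial
  let ι' : A ⟶ A := (𝟙 A)⁻¹
  let u := PicF.pullCl j (pc L (𝟙 A))
  let v := PicF.pullCl j (pc L ι')
  have hinv : ∀ {φ : A ⟶ A}, PicF.IsInvertibleCl (pc L φ) := fun {φ} => isInvertibleCl_pc L hL φ
  have hconst : ∀ c : P ⟶ A.left, PicF.pullCl g (PicF.pullCl c (PicF.cl L)) = 1 := fun c => by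
    rw [show PicF.pullCl c (PicF.cl L) = 1 from
      eq_oneCl_of_subsingleton (PicLoc.isInvertibleCl_pullCl _ ⟨L, rfl, hL⟩), pullCl_one]
  set e := n * (n + 1) / 2
  set f := n * (n - 1) / 2
  have h1 : u ^ e * v ^ f = 1 := by
    rw [show u ^ e * v ^ f = PicF.pullCl j (pc L (𝟙 A ^ n)) by
        rw [pc_pow L hL n hn, pullCl_mul, pullCl_pow, pullCl_pow], pc, ← PicLoc.pullCl_comp, ← hc,
      PicLoc.pullCl_comp, hconst]
  have h2 : v ^ e * u ^ f = 1 := by
    have hι : ι' ≫ ι' = 𝟙 A := by simp [ι', GrpObj.comp_inv]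
    have hcomm : (𝟙 A ^ n) ≫ ι' = ι' ≫ (𝟙 A ^ n) := by
      rw [MonObj.comp_pow, GrpObj.comp_inv, Category.comp_id, Category.comp_id, inv_pow]
    have h3 : PicF.pullCl j (PicF.pullCl ι'.left (pc L (𝟙 A ^ n))) = 1 := by
      rw [pullCl_pc, ← hcomm, pc, Over.comp_left, ← PicLoc.pullCl_comp, ← Category.assoc, ← hc,
        Category.assoc, PicLoc.pullCl_comp, hconst]
    rwa [pc_pow L hL n hn, pullCl_mul, pullCl_pow, pullCl_pow, pullCl_pc, pullCl_pc, Category.comp_id,
      pullCl_mul, pullCl_pow, pullCl_pow, hι] at h3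
  obtain ⟨hm, hef⟩ : ∃ m, e * e = f * f + (m + 1) := by
    have he : 2 * e = n * (n + 1) := Nat.two_mul_div_two_of_even (Nat.even_mul_succ_self n)
    have hf : 2 * f = n * (n - 1) := Nat.two_mul_div_two_of_even (Nat.even_mul_pred_self n)
    have : f * f < e * e := by
      have : f < e := by
        have : n * (n - 1) < n * (n + 1) := Nat.mul_lt_mul_of_pos_left (by omega) (by omega)
        omega
      exact Nat.mul_self_lt_mul_self this
    exact ⟨e * e - f * f - 1, by omega⟩
  have hu : IsUnit u := by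
    obtain ⟨b, -, hb⟩ := exists_inverseCl (PicLoc.isInvertibleCl_pullCl j (hinv (φ := 𝟙 A)))
    exact IsUnit.of_mul_eq_one b hb
  have hv : IsUnit v := by
    obtain ⟨b, -, hb⟩ := exists_inverseCl (PicLoc.isInvertibleCl_pullCl j (hinv (φ := ι')))
    exact IsUnit.of_mul_eq_one b hb
  have htriv : u ^ (hm + 1) = 1 := by
    refine ((hu.pow (f * f)).mul (hv.pow (e * f))).mul_right_cancel ?_
    calc u ^ (hm + 1) * (u ^ (f * f) * v ^ (e * f))
        = (u ^ e * v ^ f) ^ e := by
          rw [← mul_assoc, ← pow_add, add_comm, ← hef, mul_pow, ← pow_mul, ← pow_mul, Nat.mul_comm f e]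
      _ = (v ^ e * u ^ f) ^ f := by rw [h1, h2, one_pow, one_pow]
      _ = 1 * (u ^ (f * f) * v ^ (e * f)) := by
          rw [one_mul, mul_pow, ← pow_mul, ← pow_mul, mul_comm]
  -- so the section restricted to `Z` vanishes nowhere or everywhere
  let L' := (Scheme.Modules.pullback j).obj L
  have hL' : PicF.IsInvertible L' := Groth.L18.Ample.isInvertible_pullback j hL
  obtain ⟨θ⟩ : Nonempty (CohB1.tensorPow L' (hm + 1) ≅ Coh.structureModule Z) := by
    refine (PicGrp.cl_eq_cl_iff _ _).1 ?_
    rw [cl_tensorPow]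
    have hu' : u = PicF.cl L' := congrArg (PicF.pullCl j) (PicLoc.pullCl_id _)
    rw [← hu']
    exact htriv
  let s' := Groth.L18.Ample.pullHom j s
  let φ := Groth.L18.Ample.pw s' (hm + 1) ≫ θ.hom
  have hgl : CohB1.genLocus _ φ = j ⁻¹ᵁ U := by
    rw [Groth.L16.genLocus_comp_iso, Groth.L18.Ample.genLocus_pw_succ hL',
      Groth.L18.Ample.genLocus_pullHom j hL, SetLike.coe_injective hs]
  letI := (isField_of_universallyClosed K' p).toField
  have hall : ∀ z : Z, z ∈ j ⁻¹ᵁ U := by
    intro z
    let fn : Γ(Z, ⊤) := Groth.L18.GenLoc.secOf φ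
    have hφ : CohB1.genLocus _ φ = Z.basicOpen fn := by
      rw [← Groth.L18.Ample.genLocus_function fn, Groth.L18.GenLoc.homOfSection_secOf]
    have hfn : fn ≠ 0 := by
      intro h0
      have : a ∈ Z.basicOpen fn := by rw [← hφ, hgl]; exact haU
      rw [h0, Scheme.basicOpen_zero] at this
      exact this
    rw [← hgl, hφ, Z.basicOpen_of_isUnit (isUnit_iff_ne_zero.2 hfn)]
    trivial
  have hr : Set.range j ⊆ Set.range U.ι := by
    rintro _ ⟨z, rfl⟩
    rw [Scheme.Opens.range_ι]
    exact hall z
  haveI : IsAffine (↑U : Scheme.{u}) := hU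
  have h := apply_eq_of_affine p (IsOpenImmersion.lift U.ι j hr) a b
  rw [← IsOpenImmersion.lift_fac U.ι j hr, Scheme.Hom.comp_apply, Scheme.Hom.comp_apply, h]

theorem locallyQuasiFinite_pow {n : ℕ} (hn : 1 ≤ n) : LocallyQuasiFinite (𝟙 A ^ n).left := by
  set φ := (𝟙 A ^ n).left
  haveI : IsProper (φ ≫ A.hom) := by rw [Over.w]; infer_instance
  haveI : IsProper φ := IsProper.of_comp φ A.hom
  refine (locallyQuasiFinite_iff_isDiscrete_preimage_singleton).2 fun y => ?_
  haveI : IsProper (φ.fiberToSpecResidueField y) := inferInstanceAs (IsProper (pullback.snd _ _))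
  have hF : DiscreteTopology (φ.fiber y) := by
    have hp : ∀ x z : φ.fiber y, x ⤳ z → x = z := by
      intro x z hxz
      let C : Closeds (φ.fiber y) := ⟨closure {x}, isClosed_closure⟩
      let I := Scheme.IdealSheafData.vanishingIdeal C
      have hCI : (I.support : Set (φ.fiber y)) = closure {x} :=
        Scheme.IdealSheafData.coe_support_vanishingIdeal C
      haveI : IsReduced I.subscheme := Groth.L18.isReduced_vanishingIdeal_subscheme C
      haveI : IrreducibleSpace I.subscheme := by
        have h : IsIrreducible (Set.range I.subschemeι) := by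
          rw [I.range_subschemeι, hCI]; exact isIrreducible_singleton.closure
        obtain ⟨_, ⟨t₀, rfl⟩⟩ := h.nonempty
        haveI : Nonempty I.subscheme := ⟨t₀⟩
        haveI : PreirreducibleSpace I.subscheme := ⟨fun U V hU hV hu hv => by
          obtain ⟨U', hU', rfl⟩ := I.subschemeι.isEmbedding.isInducing.isOpen_iff.1 hU
          obtain ⟨V', hV', rfl⟩ := I.subschemeι.isEmbedding.isInducing.isOpen_iff.1 hV
          obtain ⟨a, -, ha⟩ := hu
          obtain ⟨b, -, hb⟩ := hv
          obtain ⟨_, ⟨c, rfl⟩, hc⟩ := h.isPreirreducible U' V' hU' hV' ⟨_, ⟨a, rfl⟩, ha⟩ ⟨_, ⟨b, rfl⟩, hb⟩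
          exact ⟨c, trivial, hc⟩⟩
        exact ⟨‹_›⟩
      haveI : AlgebraicGeometry.IsIntegral I.subscheme := AlgebraicGeometry.isIntegral_of_irreducibleSpace_of_isReduced _
      obtain ⟨x', hx'⟩ : x ∈ Set.range I.subschemeι := by
        rw [I.range_subschemeι, hCI]; exact subset_closure rfl
      obtain ⟨z', hz'⟩ : z ∈ Set.range I.subschemeι := by
        rw [I.range_subschemeι, hCI]; exact hxz.mem_closure
      haveI : Subsingleton ↥(Spec (A.left.residueField y)) :=
        inferInstanceAs (Subsingleton (PrimeSpectrum (A.left.residueField y)))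
      have h := apply_eq_of_mul_const (A := A) (I.subschemeι ≫ φ.fiberToSpecResidueField y) hn
        (I.subschemeι ≫ φ.fiberι y) (I.subschemeι ≫ φ.fiberToSpecResidueField y)
        (A.left.fromSpecResidueField y) (by
          rw [Category.assoc, Category.assoc]; exact congrArg _ pullback.condition.symm) x' z'
      rw [Scheme.Hom.comp_apply, Scheme.Hom.comp_apply, hx', hz'] at h
      exact (φ.fiberι y).isEmbedding.injective h
    haveI : T1Space (φ.fiber y) := t1Space_iff_specializes_imp_eq.2 fun x z h => hp x z h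
    haveI : JacobsonSpace (φ.fiber y) := LocallyOfFiniteType.jacobsonSpace (φ.fiberToSpecResidueField y)
    haveI : IsLocallyNoetherian (φ.fiber y) :=
      LocallyOfFiniteType.isLocallyNoetherian (φ.fiberToSpecResidueField y)
    haveI : CompactSpace (φ.fiber y) :=
      QuasiCompact.compactSpace_of_compactSpace (φ.fiberToSpecResidueField y)
    haveI : IsNoetherian (φ.fiber y) := {}
    haveI : Finite (φ.fiber y) := by
      have hfin := NoetherianSpace.finite_irreducibleComponents (α := φ.fiber y)
      have hsub : ∀ C ∈ irreducibleComponents (φ.fiber y), C.Subsingleton := fun C hC a ha b hb => by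
        have hg := hC.1.isGenericPoint_genericPoint (isClosed_of_mem_irreducibleComponents C hC)
        rw [← hp _ a (hg.specializes ha), ← hp _ b (hg.specializes hb)]
      refine Set.finite_univ_iff.1 ?_
      rw [← sUnion_irreducibleComponents]
      exact hfin.sUnion fun C hC => (hsub C hC).finite
    infer_instance
  rw [← Scheme.Hom.range_fiberι, ← Set.image_univ]
  exact (isDiscrete_iff_discreteTopology.2 (by infer_instance : DiscreteTopology (Set.univ : Set (φ.fiber y)))).image
    (φ.fiberι y).isEmbedding.isInducing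

theorem surjective_pow {n : ℕ} (hn : 1 ≤ n) : Surjective (𝟙 A ^ n).left := by
  haveI := locallyQuasiFinite_pow (A := A) hn
  set φ := (𝟙 A ^ n).left
  haveI : IsProper (φ ≫ A.hom) := by rw [Over.w]; infer_instance
  haveI : IsProper φ := IsProper.of_comp φ A.hom
  haveI : AlgebraicGeometry.IsIntegral A.left := GeometricallyIntegral.isIntegral_of_subsingleton A.hom
  have hd : topologicalKrullDim A.left < ⊤ :=
    topologicalKrullDim_lt_top (R := K) (by rw [ringKrullDim_eq_zero_of_field]; exact WithBot.coe_lt_coe.2 (by simp)) A.hom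
  refine ⟨surjective_of_closed_discrete_fibres φ φ.continuous φ.isClosedMap (fun x y hxy h => ?_) hd.ne⟩
  have hd := φ.isDiscrete_preimage_singleton (φ x)
  haveI : DiscreteTopology ↥(φ ⁻¹' {φ x}) := isDiscrete_iff_discreteTopology.1 hd
  have h1 : (⟨x, rfl⟩ : φ ⁻¹' {φ x}) ⤳ ⟨y, h.symm⟩ := (subtype_specializes_iff _ _).2 hxy
  exact congrArg Subtype.val h1.eq

end

end Groth.L08.Cube
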