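import Groth.Agent.L18.GenLocus
import Groth.Agent.L21.Mod.Locality
import Groth.Agent.L21.Extend.Gen

/-!
# Pushforward of a module trivial over the preimages of a cover of the base
-/

set_option autoImplicit false
set_option linter.style.haveILetI false
set_option backward.isDefEq.respectTransparency false

universe u

open CategoryTheory AlgebraicGeometry TopologicalSpace Opposite

noncomputable section

namespace Groth.L08.Cube

open Groth.L18.Frame (rs ro rs_rs rs_self rs_smul ro_ro ro_self ro_mul IsFrame pull)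

variable {X B : Scheme.{u}}

/-- A map sending a frame to a frame restricts to an isomorphism. -/
theorem isIso_restrict_of_frame {M N : X.Modules} (φ : M ⟶ N) {W : X.Opens} {e : Γ(M, W)}
    (he : IsFrame M W e) (hφ : IsFrame N W (φ.app W e)) :
    IsIso ((Scheme.Modules.restrictFunctor W.ι).map φ) := by
  refine Scheme.Modules.Hom.isIso_iff_isIso_app.2 fun V => ?_
  have h : W.ι ''ᵁ V ≤ W := (Scheme.Hom.image_le_opensRange _ _).trans_eq W.opensRange_ι
  refine (ConcreteCategory.isIso_iff_bijective _).2 ?_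
  have hkey : (fun a : Γ(X, W.ι ''ᵁ V) => φ.app _ (a • rs M h e)) =
      fun a : Γ(X, W.ι ''ᵁ V) => a • rs N h (φ.app W e) := by
    funext a
    rw [Scheme.Modules.Hom.app_smul]
    exact congrArg (a • ·) congr($(φ.mapPresheaf.naturality (homOfLE h).op) e)
  refine (Function.Bijective.of_comp_iff _ (he _ h)).1 ?_
  have h2 := hφ _ h
  rw [← hkey] at h2
  exact h2

theorem pushforward_of_frames (f : X ⟶ B) (happ : ∀ V : B.Opens, Function.Bijective (f.app V)) (L : X.Modules)
    (hloc : ∀ b : B, ∃ (U : B.Opens) (σ : Γ(L, f ⁻¹ᵁ U)), b ∈ U ∧ IsFrame L (f ⁻¹ᵁ U) σ) :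
    PicF.IsInvertible ((Scheme.Modules.pushforward f).obj L) ∧
      IsIso ((Scheme.Modules.pullbackPushforwardAdjunction f).counit.app L) := by
  choose U σ hbU hσ using hloc
  let F := (Scheme.Modules.pushforward f).obj L
  let τ : ∀ b, Γ(F, U b) := σ
  have hτ : ∀ b, IsFrame F (U b) (τ b) := fun b V h =>
    (hσ b (f ⁻¹ᵁ V) (f.preimage_mono h)).comp (happ V)
  refine ⟨fun b => ⟨U b, hbU b, Groth.L21.Extend.exists_iso_of_isGen F (hτ b)⟩, ?_⟩
  let adj := Scheme.Modules.pullbackPushforwardAdjunction f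
  refine Groth.L21.Mod.isIso_of_restrict_opens (fun b => f ⁻¹ᵁ U b)
    (Opens.ext (Set.eq_univ_of_forall fun x => by
      rw [Opens.coe_iSup, Set.mem_iUnion]; exact ⟨f x, hbU (f x)⟩)) _ fun b => ?_
  refine isIso_restrict_of_frame _ ((hτ b).pullback f F) ?_
  have h1 : (adj.counit.app L).app (f ⁻¹ᵁ U b) (pull f F (U b) (τ b)) = σ b :=
    congr(($(adj.right_triangle_components L)).app (U b) (τ b))
  exact h1.symm ▸ hσ b

end Groth.L08.Cube
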