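import Groth.Agent.L08.Cube.Seesaw
import Groth.Agent.L08.Cube.PushTriv
import Groth.Agent.S2393
import Mathlib.LinearAlgebra.FiniteDimensional.Basic

/-!
# The seesaw theorem without a section
-/

set_option autoImplicit false
set_option linter.style.haveILetI false
set_option linter.unusedSectionVars false
set_option backward.isDefEq.respectTransparency false

universe u

open CategoryTheory CategoryTheory.Limits AlgebraicGeometry TopologicalSpace Opposite

noncomputable section

namespace Groth.L08.Cube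

open Groth.L18.Frame (rs ro rs_rs rs_self rs_smul ro_ro ro_self ro_mul IsFrame)

/-- One dimensional global functions are the constants. -/
theorem bijective_toGlobal_of_finrank {k : Type u} [Field k] {Z : Scheme.{u}} (j : Z ⟶ Spec (CommRingCat.of k))
    (h : letI : Module k (Coh.HH Z (Coh.structureModule Z) 0) := Module.compHom _ (Coh.toGlobal j)
      Module.finrank k (Coh.HH Z (Coh.structureModule Z) 0) = 1) :
    Nonempty Z ∧ Function.Bijective (Coh.toGlobal j) := by
  letI : Module k (Coh.HH Z (Coh.structureModule Z) 0) := Module.compHom _ (Coh.toGlobal j)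
  let hT : IsTerminal (⊤ : Opens Z) := IsTerminal.ofUniqueHom (fun U => homOfLE le_top) (fun _ _ => rfl)
  let e : Coh.HH Z (Coh.structureModule Z) 0 ≃+ Coh.Γtop Z :=
    Sheaf.H.equiv₀ (Coh.toAb (Coh.structureModule Z)) hT
  have he : ∀ (c : k) x, e (c • x) = Coh.toGlobal j c * e x := fun c x => by
    show Sheaf.H.equiv₀ _ hT (Sheaf.H.map (Coh.smulAb (Coh.structureModule Z) _) 0 x) = _
    rw [← Sheaf.H.equiv₀_naturality]
    refine (Coh.smulAb_app (Coh.structureModule Z) _ (op ⊤) _).trans ?_
    show Coh.resTop Z (op ⊤) _ * _ = _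
    congr 1
    simp [Coh.resTop]
  haveI : Nontrivial (Coh.HH Z (Coh.structureModule Z) 0) := Module.nontrivial_of_finrank_eq_succ h
  have hne : Nonempty Z := by
    by_contra hc
    rw [not_nonempty_iff] at hc
    haveI : Subsingleton Γ(Z, ⊤) := by
      rw [show (⊤ : Z.Opens) = ⊥ from Subsingleton.elim _ _]
      exact CommRingCat.subsingleton_of_isTerminal Z.sheaf.isTerminalOfEmpty
    haveI : Subsingleton (Coh.Γtop Z) := inferInstanceAs (Subsingleton Γ(Z, ⊤))
    exact not_subsingleton (Coh.HH Z (Coh.structureModule Z) 0) e.toEquiv.subsingleton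
  haveI := hne
  haveI : Nonempty ((⊤ : Z.Opens) : Scheme.{u}) := ⟨⟨Classical.arbitrary Z, trivial⟩⟩
  haveI : Nontrivial (Coh.Γtop Z) := inferInstanceAs (Nontrivial Γ(Z, ⊤))
  refine ⟨hne, (Coh.toGlobal j).injective, fun y => ?_⟩
  have h1 : e.symm 1 ≠ 0 := fun h0 => one_ne_zero (α := Coh.Γtop Z) (by rw [← e.apply_symm_apply 1, h0, map_zero])
  obtain ⟨c, hc⟩ := (finrank_eq_one_iff_of_nonzero' (e.symm 1) h1).1 h (e.symm y)
  refine ⟨c, ?_⟩
  rw [← e.apply_symm_apply y, ← hc, he, AddEquiv.apply_symm_apply, mul_one]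

/-- Constant functions persist under extension of the ground field. -/
theorem bijective_toGlobal_baseChange {k : Type u} [Field k] {F : Scheme.{u}} (q : F ⟶ Spec (CommRingCat.of k))
    [IsProper q] [Flat q] [Nonempty F] (hq : Function.Bijective (Coh.toGlobal q)) {K : Type u} [Field K] [Algebra k K]
    {F' : Scheme.{u}} (g : F' ⟶ F) (q' : F' ⟶ Spec (CommRingCat.of K))
    (sq : IsPullback g q' q (Spec.map (CommRingCat.ofHom (algebraMap k K)))) :
    Nonempty F' ∧ Function.Bijective (Coh.toGlobal q') := by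
  have hL := Groth.L18.Ample.isInvertible_structureModule F
  haveI := Groth.L21.Extend.isQCoh_of_isInvertible hL
  obtain ⟨m⟩ := Groth.L17.BC.nonempty_model q (Coh.structureModule F)
    (Groth.L18.Ample.isCoh_of_isInvertible hL) (flat_sections q hL)
  have sq0 : IsPullback (𝟙 F) q q (Spec.map (CommRingCat.ofHom (algebraMap k k))) := by
    rw [Algebra.algebraMap_self, CommRingCat.ofHom_id, Spec.map_id]
    exact IsPullback.of_id_fst
  have h0 := m.finrank_eq_dRank q (𝟙 F) sq0 0
  rw [finrank_HH_zero_of_iso q hq (Groth.L29.LocFree.pullbackUnitIso (𝟙 F))] at h0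
  have h1 := m.finrank_eq_dRank q' g sq 0
  rw [show PrimeSpectrum.comap (algebraMap k K) ⊥ = PrimeSpectrum.comap (algebraMap k k) ⊥ from
    Subsingleton.elim _ _, ← h0] at h1
  refine bijective_toGlobal_of_finrank q' ?_
  letI : Module K (Coh.HH F' (Coh.structureModule F') 0) := Module.compHom _ (Coh.toGlobal q')
  letI : Module K (Coh.HH F' ((Scheme.Modules.pullback g).obj (Coh.structureModule F)) 0) :=
    Module.compHom _ (Coh.toGlobal q')
  let θ := Groth.L29.LocFree.pullbackUnitIso g
  let E : Coh.HH F' ((Scheme.Modules.pullback g).obj (Coh.structureModule F)) 0 ≃ₗ[K]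
      Coh.HH F' (Coh.structureModule F') 0 :=
    { (Groth.L17.BC.HHequiv θ 0).toAddEquiv with
      map_smul' := fun a x => (Groth.L17.BC.HHequiv θ 0).map_smul (Coh.toGlobal q' a) x }
  rw [← E.finrank_eq]
  exact h1

variable {X B : Scheme.{u}} (f : X ⟶ B) [IsProper f] [Flat f]

/-- Near any point of a reduced base there is a frame over the preimage of a neighbourhood, if the
functions on all fibres are constant. -/
theorem exists_frame_over_nhd_of_const [IsLocallyNoetherian B] [IsReduced B] (L : X.Modules)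
    (hL : PicF.IsInvertible L)
    (hconst : ∀ b : B, Function.Bijective (algebraMap (B.residueField b) Γ(f.fiber b, ⊤)))
    (htriv : ∀ b : B, Nonempty ((Scheme.Modules.pullback (f.fiberι b)).obj L ≅ Coh.structureModule (f.fiber b)))
    (b : B) : ∃ (U : B.Opens) (σ : Γ(L, f ⁻¹ᵁ U)), b ∈ U ∧ IsFrame L (f ⁻¹ᵁ U) σ := by
  obtain ⟨_, ⟨V, hV, rfl⟩, hbV, -⟩ :=
    B.isBasis_affineOpens.exists_subset_of_mem_open (Set.mem_univ b) isOpen_univ
  haveI : IsNoetherianRing Γ(B, V) := IsLocallyNoetherian.component_noetherian ⟨V, hV⟩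
  let x := hV.primeIdealOf ⟨b, hbV⟩
  obtain ⟨I, hI, hxI⟩ := Ideal.exists_le_maximal x.asIdeal x.2.ne_top
  let A := Γ(B, V)
  letI : Field (A ⧸ I) := Ideal.Quotient.field I
  let PV : Scheme.{u} := f ⁻¹ᵁ V
  let j : PV ⟶ X := (f ⁻¹ᵁ V).ι
  let fP : PV ⟶ Spec (CommRingCat.of A) := Groth.L17.BC.fV f hV
  have hj : IsPullback j fP f hV.fromSpec :=
    (isPullback_morphismRestrict f V).flip.of_iso (Iso.refl _) (Iso.refl _) hV.isoSpec (Iso.refl _)
      (by simp [j]) (by simp [fP, Groth.L17.BC.fV]) (by simp) (by simp [IsAffineOpen.isoSpec_hom_fromSpec])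
  haveI : IsProper fP := inferInstanceAs (IsProper (Groth.L17.BC.fV f hV))
  haveI : Flat fP := MorphismProperty.of_isPullback hj ‹Flat f›
  let M := (Scheme.Modules.pullback j).obj L
  have hM : PicF.IsInvertible M := Groth.L18.Ample.isInvertible_pullback j hL
  let sK : Spec (CommRingCat.of (A ⧸ I)) ⟶ Spec (CommRingCat.of A) := Spec.map (CommRingCat.ofHom (algebraMap A (A ⧸ I)))
  have hfib : ∀ (K : Type u) [Field K] [Algebra A K] (X' : Scheme.{u}) (g : X' ⟶ PV) (f' : X' ⟶ Spec (CommRingCat.of K)),
      IsPullback g f' fP (Spec.map (CommRingCat.ofHom (algebraMap A K))) →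
        Nonempty X' ∧ Function.Bijective (Coh.toGlobal f') ∧
          Nonempty ((Scheme.Modules.pullback g).obj M ≅ Coh.structureModule X') := by
    intro K _ _ X' g f' sq
    have big : IsPullback (g ≫ j) f' f (Spec.map (CommRingCat.ofHom (algebraMap A K)) ≫ hV.fromSpec) :=
      sq.paste_horiz hj
    let s := Spec.map (CommRingCat.ofHom (algebraMap A K)) ≫ hV.fromSpec
    let c := s (IsLocalRing.closedPoint K)
    let φ := B.descResidueField (Scheme.stalkClosedPointTo s)
    have hs : Spec.map φ ≫ B.fromSpecResidueField c = s :=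
      Scheme.descResidueField_stalkClosedPointTo_fromSpecResidueField K B s
    let q : f.fiber c ⟶ Spec (CommRingCat.of (B.residueField c)) := f.fiberToSpecResidueField c
    have hq : IsPullback (f.fiberι c) q f (B.fromSpecResidueField c) := IsPullback.of_hasPullback _ _
    haveI : IsProper q := MorphismProperty.of_isPullback hq ‹IsProper f›
    haveI : Flat q := MorphismProperty.of_isPullback hq ‹Flat f›
    have hbig : IsPullback (g ≫ j) f' f (Spec.map φ ≫ B.fromSpecResidueField c) := by rw [hs]; exact big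
    let g' : X' ⟶ f.fiber c := hq.lift (g ≫ j) (f' ≫ Spec.map φ) (by rw [Category.assoc]; exact hbig.w)
    have sq' : IsPullback g' f' q (Spec.map φ) :=
      IsPullback.of_right (by rw [hq.lift_fst]; exact hbig) (hq.lift_snd _ _ _) hq
    letI : Algebra (B.residueField c) K := φ.hom.toAlgebra
    haveI : Nonempty (f.fiber c) := by
      haveI : Nontrivial Γ(f.fiber c, ⊤) := (hconst c).injective.nontrivial
      by_contra hn
      rw [not_nonempty_iff] at hn
      exact not_subsingleton Γ(f.fiber c, ⊤) (by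
        rw [show (⊤ : (f.fiber c).Opens) = ⊥ from Subsingleton.elim _ _]
        exact CommRingCat.subsingleton_of_isTerminal (f.fiber c).sheaf.isTerminalOfEmpty)
    obtain ⟨hne, hbij⟩ := bijective_toGlobal_baseChange (k := B.residueField c) q (hconst c) g' f' sq'
    refine ⟨hne, hbij, ?_⟩
    obtain ⟨e⟩ := nonempty_iso_fieldPoint f _ (g ≫ j) f' big.w L htriv
    exact ⟨(Scheme.Modules.pullbackComp g j).app L ≪≫ e⟩
  let P₀ := pullback fP sK
  obtain ⟨-, -, ⟨θ⟩⟩ := hfib (A ⧸ I) P₀ (pullback.fst fP sK) (pullback.snd fP sK) (IsPullback.of_hasPullback _ _)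
  haveI : IsReduced A := IsReduced.component_reduced V
  obtain ⟨σ, O, hO, hσ⟩ := exists_frame_near_closed_fibre fP Ideal.Quotient.mk_surjective
    (IsPullback.of_hasPullback fP sK) M hM θ hfib
  -- the open of the base over which the frame lives
  let O' : X.Opens := j ''ᵁ O
  let Z : Set B := f '' (O' : Set X)ᶜ
  have hZ : IsClosed Z := f.isClosedMap _ O'.2.isClosed_compl
  let xI : PrimeSpectrum A := ⟨I, hI.isPrime⟩
  let bI := hV.fromSpec xI
  have hbI : bI ∉ Z := by
    rintro ⟨y, hy, hyb⟩
    obtain ⟨y', rfl, hy'⟩ : ∃ y' : PV, j y' = y ∧ fP y' = xI := by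
      have hyV : y ∈ f ⁻¹ᵁ V := by
        show f y ∈ V
        rw [hyb]
        exact hV.range_fromSpec.le (Set.mem_range_self xI)
      refine ⟨⟨y, hyV⟩, rfl, hV.fromSpec.isOpenEmbedding.injective ?_⟩
      exact (congr(($(hj.w) : _ ⟶ B) ⟨y, hyV⟩)).symm.trans hyb
    refine hy ⟨y', ?_, rfl⟩
    have hr : y' ∈ Set.range (pullback.fst fP sK) := by
      rw [Scheme.Pullback.range_fst]
      refine ⟨default, ?_⟩
      rw [hy']
      apply PrimeSpectrum.ext
      have : ∀ q : PrimeSpectrum (A ⧸ I), Ideal.comap (algebraMap A (A ⧸ I)) q.asIdeal = I := fun q => by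
        rw [Subsingleton.elim q ⊥]
        exact Ideal.mk_ker
      exact this _
    obtain ⟨y₀, rfl⟩ := hr
    exact hO y₀
  let U : B.Opens := ⟨Zᶜ, hZ.isOpen_compl⟩
  have hsp : b ⤳ bI := by
    have := ((PrimeSpectrum.le_iff_specializes x xI).1 hxI).map hV.fromSpec.continuous
    rwa [hV.fromSpec_primeIdealOf ⟨b, hbV⟩] at this
  refine ⟨U, ?_⟩
  have hbU : b ∈ U := hsp.mem_open U.2 hbI
  have hUO : f ⁻¹ᵁ U ≤ O' := fun y hy => by
    by_contra hcon
    exact hy ⟨y, hcon, rfl⟩
  -- transport the frame to `X`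
  let e₁ : M ≅ L.restrict j := ((Scheme.Modules.restrictFunctorIsoPullback j).app L).symm
  have hσ' : IsFrame (L.restrict j) O (e₁.hom.app O (rs M le_top σ)) := Groth.L19.ProjBdl.isFrame_of_iso e₁ hσ
  let τ : Γ(L, O') := e₁.hom.app O (rs M le_top σ)
  have hτ : IsFrame L O' τ := (Groth.L18.Ample.isFrame_restrict_iff L (f ⁻¹ᵁ V) O _).1 hσ'
  exact ⟨rs L hUO τ, hbU, hτ.mono hUO⟩

/-- Functions on a family with constant functions on the fibres come from the base. -/
theorem bijective_app_of_const [IsLocallyNoetherian B]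
    (hconst : ∀ b : B, Function.Bijective (algebraMap (B.residueField b) Γ(f.fiber b, ⊤))) (V : B.Opens) :
    Function.Bijective (f.app V) := by
  choose U hbU hU using fun b => Groth.Agent.S2393.result f b (hconst b)
  have hb : ∀ (b : B) (W : B.Opens), W ≤ U b → Function.Bijective (f.app W) := fun b W h => by
    haveI := hU b W h
    exact ConcreteCategory.bijective_of_isIso _
  have hnat : ∀ {W W' : B.Opens} (h : W' ≤ W) (a : Γ(B, W)),
      f.app W' (ro h a) = ro (f.preimage_mono h) (f.app W a) := fun h a => congr($(f.naturality (homOfLE h).op) a)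
  constructor
  · intro a a' haa
    refine Groth.L21.Extend.eq_of_locally (Coh.structureModule B) a a' fun y hy =>
      ⟨V ⊓ U y, inf_le_left, ⟨hy, hbU y⟩, (hb y _ inf_le_right).1 ?_⟩
    exact (hnat inf_le_left a).trans ((congrArg _ haa).trans (hnat inf_le_left a').symm)
  · intro s
    choose a ha using fun b => (hb b (V ⊓ U b) inf_le_right).2 (ro (f.preimage_mono inf_le_left) s)
    obtain ⟨t, ht⟩ := Groth.L21.Extend.exists_glue (Coh.structureModule B) (fun b => V ⊓ U b) V
      (fun b => inf_le_left) (fun y hy => ⟨y, hy, hbU y⟩) a fun b b' => by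
        refine (hb b _ (inf_le_left.trans inf_le_right)).1 ?_
        refine (hnat inf_le_left (a b)).trans (Eq.trans ?_ (hnat inf_le_right (a b')).symm)
        rw [ha, ha, ro_ro, ro_ro]
    refine ⟨t, Groth.L21.Extend.eq_of_locally (Coh.structureModule X) _ _ fun y hy =>
      ⟨f ⁻¹ᵁ (V ⊓ U (f y)), f.preimage_mono inf_le_left, ⟨hy, hbU (f y)⟩, ?_⟩⟩
    refine (hnat inf_le_left t).symm.trans ?_
    exact (congrArg _ (ht (f y))).trans (ha (f y))

/-- The seesaw theorem: fibrewise trivial invertible modules come from the base. -/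
theorem seesaw_of_const [IsLocallyNoetherian B] [IsReduced B] (L : X.Modules) (hL : PicF.IsInvertible L)
    (hconst : ∀ b : B, Function.Bijective (algebraMap (B.residueField b) Γ(f.fiber b, ⊤)))
    (htriv : ∀ b : B, Nonempty ((Scheme.Modules.pullback (f.fiberι b)).obj L ≅ Coh.structureModule (f.fiber b))) :
    PicF.IsInvertible ((Scheme.Modules.pushforward f).obj L) ∧
      IsIso ((Scheme.Modules.pullbackPushforwardAdjunction f).counit.app L) :=
  pushforward_of_frames f (bijective_app_of_const f hconst) L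
    (exists_frame_over_nhd_of_const f L hL hconst htriv)

end Groth.L08.Cube
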