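import Groth.Agent.L26.AV.FibConst
import Groth.Agent.L21.RR.Sections
import Groth.Agent.L17.BC.Fibre
import Groth.Prelude.Def_ega3

/-!
# Global functions and degree zero cohomology on fibres
-/

set_option autoImplicit false
set_option linter.style.haveILetI false
set_option linter.unusedSectionVars false
set_option backward.isDefEq.respectTransparency false

universe u

open CategoryTheory CategoryTheory.Limits AlgebraicGeometry TopologicalSpace Opposite

noncomputable section

namespace Groth.L08.Cube

variable {k : Type u} [Field k]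

/-- Constants are all the functions on a universally closed geometrically connected and reduced
scheme over a field. -/
theorem bijective_toGlobal_of_geometric {Z : Scheme.{u}} (j : Z ⟶ Spec (CommRingCat.of k)) [UniversallyClosed j]
    [QuasiSeparated j] [GeometricallyConnected j] [GeometricallyReduced j] [Nonempty Z] :
    Function.Bijective (Coh.toGlobal j) := by
  haveI : Nonempty ((⊤ : Z.Opens) : Scheme.{u}) := ⟨⟨Classical.arbitrary Z, trivial⟩⟩
  haveI : Nontrivial (Coh.Γtop Z) := inferInstanceAs (Nontrivial Γ(Z, ⊤))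
  refine ⟨(Coh.toGlobal j).injective, fun y => ?_⟩
  obtain ⟨a, ha⟩ := Groth.Agent.AV.surjective_appTop_geometric j y
  refine ⟨(Scheme.ΓSpecIso (CommRingCat.of k)).hom a, ?_⟩
  show j.appTop ((Scheme.ΓSpecIso (CommRingCat.of k)).inv ((Scheme.ΓSpecIso (CommRingCat.of k)).hom a)) = y
  rw [Iso.hom_inv_id_apply]
  exact ha

/-- Degree zero cohomology of the structure sheaf is one dimensional when constants are all functions. -/
theorem finrank_HH_zero_structure {Z : Scheme.{u}} (j : Z ⟶ Spec (CommRingCat.of k)) [Nonempty Z]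
    (h : Function.Bijective (Coh.toGlobal j)) :
    letI : Module k (Coh.HH Z (Coh.structureModule Z) 0) := Module.compHom _ (Coh.toGlobal j)
    Module.finrank k (Coh.HH Z (Coh.structureModule Z) 0) = 1 := by
  letI : Module k (Coh.HH Z (Coh.structureModule Z) 0) := Module.compHom _ (Coh.toGlobal j)
  let hT : IsTerminal (⊤ : Opens Z) := IsTerminal.ofUniqueHom (fun U => homOfLE le_top) (fun _ _ => rfl)
  let e : Coh.HH Z (Coh.structureModule Z) 0 ≃+ Coh.Γtop Z :=
    Sheaf.H.equiv₀ (Coh.toAb (Coh.structureModule Z)) hT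
  have he : ∀ (c : k) x, e (c • x) = Coh.toGlobal j c * e x := fun c x => by
    show Sheaf.H.equiv₀ _ hT (Sheaf.H.map (Coh.smulAb (Coh.structureModule Z) _) 0 x) = _
    rw [← Sheaf.H.equiv₀_naturality]
    refine (Coh.smulAb_app (Coh.structureModule Z) _ (op ⊤) _).trans ?_
    show Coh.resTop Z (op ⊤) _ * _ = _
    congr 1
    simp [Coh.resTop]
  let φ : k →ₗ[k] Coh.HH Z (Coh.structureModule Z) 0 := LinearMap.toSpanSingleton k _ (e.symm 1)
  have hφ : ∀ c, e (φ c) = Coh.toGlobal j c := fun c => by
    show e (c • e.symm 1) = _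
    rw [he, AddEquiv.apply_symm_apply, mul_one]
  have hb : Function.Bijective φ := by
    refine ⟨fun a b hab => h.1 (by rw [← hφ, hab, hφ]), fun x => ?_⟩
    obtain ⟨c, hc⟩ := h.2 (e x)
    exact ⟨c, e.injective ((hφ c).trans hc)⟩
  rw [← (LinearEquiv.ofBijective φ hb).finrank_eq, Module.finrank_self]

/-- A trivialised module has the cohomology of the structure sheaf, linearly over the ground field. -/
theorem finrank_HH_zero_of_iso {Z : Scheme.{u}} (j : Z ⟶ Spec (CommRingCat.of k)) [Nonempty Z]
    (h : Function.Bijective (Coh.toGlobal j)) {M : Z.Modules} (θ : M ≅ Coh.structureModule Z) :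
    letI : Module k (Coh.HH Z M 0) := Module.compHom _ (Coh.toGlobal j)
    Module.finrank k (Coh.HH Z M 0) = 1 := by
  letI : Module k (Coh.HH Z M 0) := Module.compHom _ (Coh.toGlobal j)
  letI : Module k (Coh.HH Z (Coh.structureModule Z) 0) := Module.compHom _ (Coh.toGlobal j)
  let E : Coh.HH Z M 0 ≃ₗ[k] Coh.HH Z (Coh.structureModule Z) 0 :=
    { (Groth.L17.BC.HHequiv θ 0).toAddEquiv with
      map_smul' := fun a x => (Groth.L17.BC.HHequiv θ 0).map_smul (Coh.toGlobal j a) x }
  rw [E.finrank_eq]
  exact finrank_HH_zero_structure j h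

end Groth.L08.Cube
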