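import Groth.Agent.L22.PicGlue.Cocycle
import Groth.Agent.L18.GenLocus
import Groth.Agent.L16.ProjSpace.Twist

/-!
# Inverses of invertible modules
-/

set_option autoImplicit false
set_option linter.style.haveILetI false
set_option backward.isDefEq.respectTransparency false

universe u

open CategoryTheory AlgebraicGeometry TopologicalSpace Opposite

noncomputable section

namespace Groth.L08.Cube

open Groth.L18.Frame (rs ro rs_rs rs_self rs_smul ro_ro ro_self ro_mul IsFrame)
open Groth.L18.GenLoc (tens tens_rs tens_smul_left tens_smul_right isFrame_tens)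

variable {X : Scheme.{u}}

/-- A global frame is a trivialisation. -/
theorem nonempty_iso_of_frame_top {L : X.Modules} {σ : Γ(L, ⊤)} (h : IsFrame L ⊤ σ) :
    Nonempty (L ≅ Coh.structureModule X) :=
  haveI := Groth.L16.isIso_homOfSection L σ fun V => h V le_top
  ⟨(asIso (Groth.L16.homOfSection L σ)).symm⟩

/-- Invertible modules have tensor inverses. -/
theorem exists_inverse {L : X.Modules} (hL : PicF.IsInvertible L) :
    ∃ N : X.Modules, PicF.IsInvertible N ∧ Nonempty (CohB1.tensorMod L N ≅ Coh.structureModule X) := by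
  choose W e hW he using fun x : X => Groth.L18.Frame.exists_frame hL x
  choose c hc using fun i j : X =>
    ((he i).mono (inf_le_left : W i ⊓ W j ≤ W i)).exists_coeff le_rfl (rs L inf_le_right (e j))
  simp only [rs_self] at hc
  -- `c i j • eᵢ = eⱼ`
  have hcV : ∀ (i j : X) (V : X.Opens) (hi : V ≤ W i) (hj : V ≤ W j),
      ro (le_inf hi hj) (c i j) • rs L hi (e i) = rs L hj (e j) := by
    intro i j V hi hj
    have := congrArg (rs L (le_inf hi hj)) (hc i j)
    rwa [rs_smul, rs_rs, rs_rs] at this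
  have hmul : ∀ (i j k : X) (V : X.Opens) (hi : V ≤ W i) (hj : V ≤ W j) (hk : V ≤ W k),
      ro (le_inf hj hk) (c j k) * ro (le_inf hi hj) (c i j) = ro (le_inf hi hk) (c i k) := by
    intro i j k V hi hj hk
    refine (he i).inj hi ?_
    rw [mul_smul, hcV i j V hi hj, hcV j k V hj hk, hcV i k V hi hk]
  have hone : ∀ (i : X) (V : X.Opens) (hi : V ≤ W i) (h : V ≤ W i ⊓ W i), ro h (c i i) = 1 := by
    intro i V hi h
    refine (he i).inj hi ?_
    rw [hcV i i V hi hi, one_smul]
  let C : Groth.L22.PicGlue.Cocycle X :=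
    { ι := X
      N := W
      g := fun i j => ro (le_inf inf_le_right inf_le_left : W i ⊓ W j ≤ W j ⊓ W i) (c j i)
      one := fun i => hone i _ inf_le_left _
      comp := fun i j k => by
        show ro _ (ro _ (c j i)) * ro _ (ro _ (c k j)) = ro _ (ro _ (c k i))
        rw [ro_ro, ro_ro, ro_ro]
        exact hmul k j i _ inf_le_right (inf_le_left.trans inf_le_right) (inf_le_left.trans inf_le_left) }
  let N := Groth.L22.PicGlue.glueMod C
  refine ⟨N, Groth.L22.PicGlue.isInvertible_glueMod C fun x => ⟨x, hW x⟩, ?_⟩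
  let d : ∀ i : X, Γ(N, W i) := fun i => Groth.L22.PicGlue.gen C i
  have hd : ∀ i, IsFrame N (W i) (d i) := fun i V h => Groth.L22.PicGlue.isGen_gen C i V h
  let T : ∀ i : X, Γ(CohB1.tensorMod L N, W i) := fun i => tens L N (W i) (e i) (d i)
  have hT : ∀ (i j : X), rs (CohB1.tensorMod L N) (inf_le_left : W i ⊓ W j ≤ W i) (T i) =
      rs (CohB1.tensorMod L N) (inf_le_right : W i ⊓ W j ≤ W j) (T j) := by
    intro i j
    have hdd : rs N (inf_le_right : W i ⊓ W j ≤ W j) (d j) =
        ro (le_inf inf_le_right inf_le_left : W i ⊓ W j ≤ W j ⊓ W i) (c j i) • rs N inf_le_left (d i) :=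
      Groth.L22.PicGlue.gen_trans C i j
    rw [tens_rs, tens_rs, hdd, ← hc i j, tens_smul_left, tens_smul_right, smul_smul]
    rw [show c i j * ro _ (c j i) = 1 from ?_, one_smul]
    have h2 := hmul j i j (W i ⊓ W j) inf_le_right inf_le_left inf_le_right
    rw [hone j _ inf_le_right, ro_self] at h2
    exact h2
  let OM : TopCat.Sheaf Ab.{u} X.toTopCat := ⟨(CohB1.tensorMod L N).presheaf, (CohB1.tensorMod L N).isSheaf⟩
  obtain ⟨σ, hσ, -⟩ := OM.existsUnique_gluing' W ⊤ (fun i => homOfLE le_top)
    (fun x _ => Opens.mem_iSup.2 ⟨x, hW x⟩) T fun i j => hT i j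
  refine nonempty_iso_of_frame_top (σ := σ)
    (IsFrame.of_cover W (fun _ => le_top) (fun x _ => Opens.mem_iSup.2 ⟨x, hW x⟩) fun i => ?_)
  rw [show rs (CohB1.tensorMod L N) le_top σ = T i from hσ i]
  exact isFrame_tens (he i) (hd i)

end Groth.L08.Cube
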