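import Groth.Agent.L08.Cube.SliceFibre
import Groth.Agent.L18.SpecLine
import Groth.Agent.L18.AmpleOps
import Groth.Agent.L18.AmplePull
import Groth.Agent.L22.VeryAmple.Over
import Groth.Agent.L18.KerReduced
import Mathlib.AlgebraicGeometry.ZariskisMainTheorem

/-!
# Globally generated invertible modules trivial on no curve are ample
-/

set_option autoImplicit false
set_option linter.style.haveILetI false
set_option linter.unusedSectionVars false
set_option backward.isDefEq.respectTransparency false

universe u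

open CategoryTheory CategoryTheory.Limits AlgebraicGeometry TopologicalSpace

noncomputable section

namespace Groth.L08.Cube

/-- The reduced subscheme on an irreducible closed set is integral. -/
theorem isIntegral_vanishingIdeal {X : Scheme.{u}} (C : Closeds X) (hC : IsIrreducible (C : Set X)) :
    AlgebraicGeometry.IsIntegral (Scheme.IdealSheafData.vanishingIdeal C).subscheme := by
  let I := Scheme.IdealSheafData.vanishingIdeal C
  haveI : IsReduced I.subscheme := Groth.L18.isReduced_vanishingIdeal_subscheme C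
  have h : IsIrreducible (Set.range I.subschemeι) := by
    rw [I.range_subschemeι, Scheme.IdealSheafData.coe_support_vanishingIdeal]
    exact hC
  haveI : IrreducibleSpace I.subscheme := by
    obtain ⟨_, ⟨t₀, rfl⟩⟩ := h.nonempty
    haveI : Nonempty I.subscheme := ⟨t₀⟩
    haveI : PreirreducibleSpace I.subscheme := ⟨fun U V hU hV hu hv => by
      obtain ⟨U', hU', rfl⟩ := I.subschemeι.isEmbedding.isInducing.isOpen_iff.1 hU
      obtain ⟨V', hV', rfl⟩ := I.subschemeι.isEmbedding.isInducing.isOpen_iff.1 hV
      obtain ⟨a, -, ha⟩ := hu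
      obtain ⟨b, -, hb⟩ := hv
      obtain ⟨_, ⟨c, rfl⟩, hc⟩ := h.isPreirreducible U' V' hU' hV' ⟨_, ⟨a, rfl⟩, ha⟩ ⟨_, ⟨b, rfl⟩, hb⟩
      exact ⟨c, trivial, hc⟩⟩
    exact ⟨‹_›⟩
  exact AlgebraicGeometry.isIntegral_of_irreducibleSpace_of_isReduced _

/-- A section of a trivial module on a proper integral scheme over a field vanishes nowhere or everywhere. -/
theorem genLocus_eq_top_of_trivial {Z : Scheme.{u}} [AlgebraicGeometry.IsIntegral Z] {k : Type u} [Field k]
    (p : Z ⟶ Spec (CommRingCat.of k)) [UniversallyClosed p] {M : Z.Modules} (θ : M ≅ Coh.structureModule Z)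
    (t : Coh.structureModule Z ⟶ M) (hne : (CohB1.genLocus M t : Set Z).Nonempty) : CohB1.genLocus M t = ⊤ := by
  rw [← Groth.L16.genLocus_comp_iso t θ] at hne ⊢
  let fn : Γ(Z, ⊤) := Groth.L18.GenLoc.secOf (t ≫ θ.hom)
  have hφ : CohB1.genLocus _ (t ≫ θ.hom) = Z.basicOpen fn := by
    rw [← Groth.L18.Ample.genLocus_function fn, Groth.L18.GenLoc.homOfSection_secOf]
  rw [hφ] at hne ⊢
  obtain ⟨z, hz⟩ := hne
  have hfn : fn ≠ 0 := by
    intro h0
    rw [h0, Scheme.basicOpen_zero] at hz
    exact hz
  letI := (isField_of_universallyClosed k p).toField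
  exact Z.basicOpen_of_isUnit (isUnit_iff_ne_zero.2 hfn)

/-- A section generating everywhere trivialises. -/
theorem nonempty_iso_of_genLocus_eq_top {X : Scheme.{u}} {M : X.Modules} (t : Coh.structureModule X ⟶ M)
    (h : CohB1.genLocus M t = ⊤) : Nonempty (M ≅ Coh.structureModule X) := by
  have key : ∀ W : X.Opens, W = CohB1.genLocus M t →
      Groth.L18.Frame.IsFrame M W (Groth.L18.Frame.rs M le_top (Groth.L18.GenLoc.secOf t)) := by
    rintro _ rfl
    exact Groth.L18.GenLoc.isFrame_genLocus t
  have := key ⊤ h.symm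
  rw [Groth.L18.Frame.rs_self] at this
  exact nonempty_iso_of_frame_top this

variable {K : Type u} [Field K] [IsAlgClosed K]

/-- A proper morphism over the ground field contracting no integral closed subscheme with more than
one point is finite. -/
theorem isFinite_of_no_curve {X P : Scheme.{u}} (pX : X ⟶ Spec (CommRingCat.of K)) [IsProper pX]
    (pP : P ⟶ Spec (CommRingCat.of K)) [IsSeparated pP] [LocallyOfFiniteType pP] (r : X ⟶ P) (hr : r ≫ pP = pX)
    (h : ∀ (C : Scheme.{u}) (i : C ⟶ X) [IsClosedImmersion i] [AlgebraicGeometry.IsIntegral C] (y : P)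
      (t : C ⟶ Spec (P.residueField y)), i ≫ r = t ≫ P.fromSpecResidueField y → Subsingleton C) :
    IsFinite r := by
  haveI : IsProper (r ≫ pP) := by rw [hr]; infer_instance
  haveI : IsProper r := IsProper.of_comp r pP
  haveI : JacobsonSpace P := LocallyOfFiniteType.jacobsonSpace pP
  haveI : IsLocallyNoetherian X := LocallyOfFiniteType.isLocallyNoetherian pX
  haveI : CompactSpace X := QuasiCompact.compactSpace_of_compactSpace pX
  haveI : IsNoetherian X := {}
  have hfin : ∀ y : P, IsClosed ({y} : Set P) → (r ⁻¹' {y}).Finite := by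
    intro y hy
    have hF : IsClosed (r ⁻¹' {y}) := hy.preimage r.continuous
    obtain ⟨S, hS, hSc, hSi, hSu⟩ := NoetherianSpace.exists_finite_set_isClosed_irreducible hF
    rw [hSu]
    refine hS.sUnion fun T hT => Set.Subsingleton.finite ?_
    let I := Scheme.IdealSheafData.vanishingIdeal (⟨T, hSc T hT⟩ : Closeds X)
    haveI : AlgebraicGeometry.IsIntegral I.subscheme := isIntegral_vanishingIdeal _ (hSi T hT)
    haveI : IsClosedImmersion (P.fromSpecResidueField y) := isClosed_singleton_iff_isClosedImmersion.mp hy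
    have hTy : ∀ c : I.subscheme, r (I.subschemeι c) = y := fun c => by
      have h1 : I.subschemeι c ∈ Set.range I.subschemeι := ⟨c, rfl⟩
      rw [I.range_subschemeι, Scheme.IdealSheafData.coe_support_vanishingIdeal] at h1
      have h2 : I.subschemeι c ∈ r ⁻¹' {y} := by rw [hSu]; exact Set.subset_sUnion_of_mem hT h1
      exact h2
    haveI : Surjective (pullback.fst (I.subschemeι ≫ r) (P.fromSpecResidueField y)) := ⟨fun c => by
      have hc : (I.subschemeι ≫ r) c = P.fromSpecResidueField y (IsLocalRing.closedPoint _) := by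
        rw [Scheme.Hom.comp_apply, hTy, Scheme.fromSpecResidueField_apply]
      obtain ⟨z, hz, -⟩ := Scheme.Pullback.exists_preimage_pullback (f := I.subschemeι ≫ r) (g := P.fromSpecResidueField y) c (IsLocalRing.closedPoint _) hc
      exact ⟨z, hz⟩⟩
    haveI : IsClosedImmersion (pullback.fst (I.subschemeι ≫ r) (P.fromSpecResidueField y)) :=
      MorphismProperty.pullback_fst _ _ inferInstance
    obtain ⟨m, hm⟩ := Groth.L25.GeomRed.exists_factor (pullback.fst (I.subschemeι ≫ r) (P.fromSpecResidueField y))
      (𝟙 I.subscheme)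
    haveI : Subsingleton I.subscheme := h I.subscheme I.subschemeι y (m ≫ pullback.snd _ _) (by
      rw [Category.assoc, ← pullback.condition, reassoc_of% hm])
    intro a ha b hb
    have hrg : T = Set.range I.subschemeι := by
      rw [I.range_subschemeι, Scheme.IdealSheafData.coe_support_vanishingIdeal]; rfl
    rw [hrg] at ha hb
    obtain ⟨a', rfl⟩ := ha
    obtain ⟨b', rfl⟩ := hb
    rw [Subsingleton.elim a' b']
  choose V hyV hV using fun y : closedPoints P =>
    exists_isFinite_morphismRestrict_of_finite_preimage_singleton r y.1 (hfin y.1 (mem_closedPoints_iff.1 y.2))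
  have htop : ⨆ y, V y = ⊤ := eq_top_of_closedPoints _ fun y hy => Opens.mem_iSup.2
    ⟨⟨y, mem_closedPoints_iff.2 hy⟩, hyV _⟩
  exact IsZariskiLocalAtTarget.of_iSup_eq_top V htop hV

/-- An invertible module generated by finitely many sections and trivial on no integral closed
subscheme with more than one point is ample. -/
theorem isAmple_of_no_trivial_curve {X : Scheme.{u}} (pX : X ⟶ Spec (CommRingCat.of K)) [IsProper pX]
    {M : X.Modules} (hM : PicF.IsInvertible M) {n : ℕ} (s : Fin (n + 1) → Γ(M, ⊤)) (hs : ProjUP.GeneratedBy M s)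
    (h : ∀ (C : Scheme.{u}) (i : C ⟶ X) [IsClosedImmersion i] [AlgebraicGeometry.IsIntegral C],
      Nonempty ((Scheme.Modules.pullback i).obj M ≅ Coh.structureModule C) → Subsingleton C) :
    CohB1.IsAmple M := by
  obtain ⟨r, hr, τ, -⟩ := Groth.L18.PUP.exists_hom pX M hM s hs
  haveI : IsSeparated (Groth.L18.PUP.pr n K) := inferInstance
  haveI : IsFinite r := isFinite_of_no_curve pX (Groth.L18.PUP.pr n K) r hr fun C i _ _ y t e => h C i (by
    let P := Groth.L18.PUP.P n K
    have hO : PicF.IsInvertible (Groth.L18.PUP.O1 n K) := (Groth.L22.VeryAmple.isAmple_O1 n K).1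
    haveI : Subsingleton ↥(Spec (P.residueField y)) := inferInstanceAs (Subsingleton (PrimeSpectrum (P.residueField y)))
    obtain ⟨θ⟩ : Nonempty ((Scheme.Modules.pullback (P.fromSpecResidueField y)).obj (Groth.L18.PUP.O1 n K) ≅
        Coh.structureModule _) := (PicGrp.cl_eq_cl_iff _ _).1
      (Groth.Agent.AbDualLib.eq_oneCl_of_subsingleton ⟨_, rfl, Groth.L18.Ample.isInvertible_pullback _ hO⟩)
    obtain ⟨φ⟩ := trivial_comp t (P.fromSpecResidueField y) e.symm (Groth.L18.PUP.O1 n K) ⟨θ⟩
    exact ⟨(Scheme.Modules.pullback i).mapIso τ.symm ≪≫ (Scheme.Modules.pullbackComp i r).app _ ≪≫ φ⟩)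
  exact Groth.L18.Ample.isAmple_of_iso τ
    (Groth.L18.Ample.isAmple_pullback_of_isAffineHom r (Groth.L22.VeryAmple.isAmple_O1 n K))

end Groth.L08.Cube
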