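import Groth.Agent.L17.BC.Criteria
import Groth.Agent.L17.BC.Fibre

/-!
# Semicontinuity of fibre cohomology over a noetherian base
-/

set_option autoImplicit false
set_option linter.style.haveILetI false
set_option linter.unusedSectionVars false
set_option backward.isDefEq.respectTransparency false

universe u

open CategoryTheory CategoryTheory.Limits AlgebraicGeometry TopologicalSpace Opposite Groth.L17.BC

noncomputable section

namespace Groth.L08.Cube

open Groth.L01.FlatCx (mu Coker)

variable {X Y : Scheme.{u}} (f : X ⟶ Y) [IsProper f] [IsLocallyNoetherian Y] (F : X.Modules)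

theorem isClosed_not_fiberRank_lt (hF : Coh.IsCoh F) (hfl : FlatMod.IsFlatOver f F) (p n : ℕ) :
    IsClosed {y : Y | ¬ CohIII.fiberRank f F p y < n} := by
  refine (isOpen_iff_eventually.2 fun y (hy : CohIII.fiberRank f F p y < n) => ?_).isClosed_compl
  obtain ⟨_, ⟨V, hV, rfl⟩, hyV, -⟩ :=
    Y.isBasis_affineOpens.exists_subset_of_mem_open (Set.mem_univ y) isOpen_univ
  haveI : IsNoetherianRing Γ(Y, V) := IsLocallyNoetherian.component_noetherian ⟨V, hV⟩
  obtain ⟨l⟩ := nonempty_local f hV F hF hfl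
  haveI := fun i => (l.finiteFree i).1
  haveI := fun i => (l.finiteFree i).2
  haveI : ∀ i, Module.FinitePresentation Γ(Y, V) (l.L.X i) := fun i => Module.finitePresentation_of_finite _ _
  let j : ℤ := (p : ℤ) - 1
  have key := fun z => Groth.L01.FlatCx.dRank_add_mu l.L (Crit.prev_eq j) (Crit.next_eq (j + 1)) z
  have hev : ∀ z, ∀ᶠ w in nhds z, CohIII.dRank l.L (j + 1) w ≤ CohIII.dRank l.L (j + 1) z := fun z => by
    filter_upwards [Groth.L01.FlatCx.mu_eventually_le (Coker l.L j (j + 1)) z,
      Groth.L01.FlatCx.mu_eventually_le (Coker l.L (j + 1) (j + 1 + 1)) z,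
      (IsLocallyConstant.iff_eventually_eq _).1 (Groth.L01.FlatCx.isLocallyConstant_mu (A := Γ(Y, V)) (l.L.X (j + 1 + 1))) z]
      with w e1 e2 e3
    have := key z; have := key w
    omega
  let x : PrimeSpectrum Γ(Y, V) := hV.primeIdealOf ⟨y, hyV⟩
  have hx : hV.fromSpec x = y := hV.fromSpec_primeIdealOf ⟨y, hyV⟩
  rw [← hx, ← hV.fromSpec.isOpenEmbedding.map_nhds_eq x, Filter.eventually_map]
  filter_upwards [hev x] with w hw
  have hwV : hV.fromSpec w ∈ V := hV.range_fromSpec.le (Set.mem_range_self w)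
  have e : ((p : ℤ) - 1 + 1) = (p : ℤ) := sub_add_cancel _ _
  simp only [j, e] at hw
  show CohIII.fiberRank f F p (hV.fromSpec w) < n
  rw [l.fiberRank_eq _ hwV, show hV.primeIdealOf ⟨hV.fromSpec w, hwV⟩ = w from
    hV.fromSpec.isOpenEmbedding.injective (hV.fromSpec_primeIdealOf ⟨_, hwV⟩)]
  refine lt_of_le_of_lt hw ?_
  rw [← l.fiberRank_eq y hyV]
  exact hy

end Groth.L08.Cube
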