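import Groth.Agent.L08.Cube.NPull
import Groth.Agent.L08.Cube.DivSection
import Groth.Agent.L18.NormDescent
import Groth.Agent.L18.NormFlat
import Groth.Agent.L18.AmpleOps
import Mathlib.RingTheory.Jacobson.Ring
import Mathlib.FieldTheory.IntermediateField.Adjoin.Algebra
import Mathlib.FieldTheory.IsAlgClosed.AlgebraicClosure

/-!
# Effective divisors with affine complement on abelian varieties are ample
-/

set_option autoImplicit false
set_option linter.style.haveILetI false
set_option linter.unusedSectionVars false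
set_option backward.isDefEq.respectTransparency false

universe u

open CategoryTheory CategoryTheory.Limits MonoidalCategory CartesianMonoidalCategory AlgebraicGeometry TopologicalSpace

open scoped MonObj

noncomputable section

namespace Groth.L08.Cube

open Groth.Agent.AbDualLib

attribute [local instance] clMonoid

/-- Closed points are rational over an algebraically closed field. -/
theorem exists_section_of_isClosed {K : Type u} [Field K] [IsAlgClosed K] {W : Scheme.{u}}
    (p : W ⟶ Spec (CommRingCat.of K)) [LocallyOfFiniteType p] (w : W) (hw : IsClosed ({w} : Set W)) :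
    ∃ σ : Spec (CommRingCat.of K) ⟶ W, σ ≫ p = 𝟙 _ ∧ σ (default : PrimeSpectrum K) = w := by
  haveI : IsClosedImmersion (W.fromSpecResidueField w) := isClosed_singleton_iff_isClosedImmersion.mp hw
  let φ : CommRingCat.of K ⟶ W.residueField w := Spec.preimage (W.fromSpecResidueField w ≫ p)
  letI : Algebra K (W.residueField w) := φ.hom.toAlgebra
  haveI : Algebra.FiniteType K (W.residueField w) := by
    refine RingHom.finiteType_algebraMap.1 ((HasRingHomProperty.Spec_iff (P := @LocallyOfFiniteType) (φ := φ)).1 ?_)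
    rw [Spec.map_preimage]
    infer_instance
  haveI : Module.Finite K (W.residueField w) := finite_of_finite_type_of_isJacobsonRing K _
  haveI : IsIso φ := (ConcreteCategory.isIso_iff_bijective φ).2
    (IsAlgClosed.algebraMap_bijective_of_isIntegral (k := K) (K := W.residueField w))
  refine ⟨inv (Spec.map φ) ≫ W.fromSpecResidueField w, ?_, ?_⟩
  · rw [Category.assoc, IsIso.inv_comp_eq, Category.comp_id, Spec.map_preimage]
  · rw [Scheme.Hom.comp_apply]
    exact Scheme.fromSpecResidueField_apply _ _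

variable {k : Type u} [Field k] {X : Over (Spec (CommRingCat.of k))} [GrpObj X] [IsProper X.hom]
  [GeometricallyIntegral X.hom]

/-- The translation of the first factor by a point with values in the second. -/
abbrev trPt {T : Over (Spec (CommRingCat.of k))} (a : T ⟶ X) : X ⊗ T ⟶ X := fst X T * snd X T ≫ a

theorem isAffineHom_trPt {T : Over (Spec (CommRingCat.of k))} [IsAffineHom T.hom] (a : T ⟶ X) :
    IsAffineHom (trPt a).left := by
  let e : X ⊗ T ≅ X ⊗ T :=
    { hom := lift (trPt a) (snd X T)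
      inv := lift (trPt a⁻¹) (snd X T)
      hom_inv_id := by
        apply CartesianMonoidalCategory.hom_ext
        · simp [trPt, MonObj.comp_mul, GrpObj.comp_inv, mul_assoc]
        · simp
      inv_hom_id := by
        apply CartesianMonoidalCategory.hom_ext
        · simp [trPt, MonObj.comp_mul, GrpObj.comp_inv, mul_assoc]
        · simp }
  haveI : IsAffineHom (fst X T).left :=
    MorphismProperty.of_isPullback (isPullback_prod X T).flip ‹IsAffineHom T.hom›
  have h : (trPt a).left = e.hom.left ≫ (fst X T).left := by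
    rw [← Over.comp_left, lift_fst]
  haveI : IsIso e.hom.left := ((Over.forget _).mapIso e).isIso_hom
  rw [h]
  infer_instance

/-- The theorem of the square for translations by a point with values in a one point scheme. -/
theorem pc_fst_sq (L : X.left.Modules) (hL : PicF.IsInvertible L) {T : Over (Spec (CommRingCat.of k))}
    [Subsingleton T.left] (a : T ⟶ X) :
    pc L (fst X T) * pc L (fst X T) = pc L (trPt a) * pc L (trPt a⁻¹) := by
  have h1 : ∀ b : T ⟶ X, pc L (snd X T ≫ b) = 1 := fun b => by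
    rw [← pullCl_pc L (snd X T) b, show pc L b = 1 from eq_oneCl_of_subsingleton (isInvertibleCl_pc L hL b),
      pullCl_one]
  have h := cube_relation L hL (fst X T) (snd X T ≫ a) (snd X T ≫ a)⁻¹
  rw [mul_inv_cancel_right, mul_inv_cancel, pc_one L hL, mul_one, ← GrpObj.comp_inv, h1, h1, mul_one, mul_one] at h
  exact h

/-- Around every closed point of the product with the algebraic closure some pair of opposite
translations lands in a given non-empty open. -/
theorem exists_good {U : X.left.Opens} (hU : (U : Set X.left).Nonempty) {T : Over (Spec (CommRingCat.of k))}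
    {K : Type u} [Field K] [IsAlgClosed K] (eT : T.left = Spec (CommRingCat.of K))
    [LocallyOfFiniteType (snd X T).left] [IrreducibleSpace (X ⊗ T).left] [Surjective (fst X T).left]
    (w : (X ⊗ T).left) (hw : IsClosed ({w} : Set (X ⊗ T).left)) :
    ∃ a : T ⟶ X, (trPt a).left w ∈ U ∧ (trPt a⁻¹).left w ∈ U := by
  haveI : LocallyOfFiniteType ((snd X T).left ≫ eqToHom eT) := inferInstance
  haveI : JacobsonSpace (X ⊗ T).left := LocallyOfFiniteType.jacobsonSpace ((snd X T).left ≫ eqToHom eT)
  let pt : T.left := eqToHom eT.symm (default : PrimeSpectrum K)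
  have hsec : ∀ z : (X ⊗ T).left, IsClosed ({z} : Set (X ⊗ T).left) →
      ∃ σ : T ⟶ X ⊗ T, σ ≫ snd X T = 𝟙 T ∧ σ.left pt = z := fun z hz => by
    obtain ⟨σ, hσ, hσz⟩ := exists_section_of_isClosed ((snd X T).left ≫ eqToHom eT) z hz
    have h2 : (eqToHom eT ≫ σ) ≫ (snd X T).left = 𝟙 T.left := by
      rw [← cancel_mono (eqToHom eT), Category.assoc, Category.assoc, hσ, Category.comp_id, Category.id_comp]
    refine ⟨Over.homMk (eqToHom eT ≫ σ) (by
      rw [← Over.w (snd X T), ← Category.assoc]
      exact (congrArg (· ≫ T.hom) h2).trans (Category.id_comp _)), Over.OverMorphism.ext h2, ?_⟩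
    show (eqToHom eT ≫ σ) pt = z
    rw [← hσz, ← Scheme.Hom.comp_apply, eqToHom_trans_assoc, eqToHom_refl, Category.id_comp]
  -- a point with values in `U`
  obtain ⟨u, hu⟩ : ∃ u : T ⟶ X, u.left pt ∈ U := by
    obtain ⟨x, hx⟩ := hU
    obtain ⟨z₀, hz₀⟩ := (fst X T).left.surjective x
    obtain ⟨z, hz, hzc⟩ := nonempty_inter_closedPoints (Z := ((fst X T).left ⁻¹ᵁ U : Set (X ⊗ T).left))
      ⟨z₀, show (fst X T).left z₀ ∈ U from hz₀ ▸ hx⟩ ((fst X T).left ⁻¹ᵁ U).2.isLocallyClosed
    obtain ⟨σ, -, hσ⟩ := hsec z (mem_closedPoints_iff.1 hzc)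
    refine ⟨σ ≫ fst X T, ?_⟩
    show (σ.left ≫ (fst X T).left) pt ∈ U
    rw [Scheme.Hom.comp_apply, hσ]
    exact hz
  obtain ⟨σ, hσs, hσw⟩ := hsec w hw
  let y := σ ≫ fst X T
  let P : X ⊗ T ⟶ X := snd X T ≫ y * fst X T
  let M : X ⊗ T ⟶ X := snd X T ≫ y * (fst X T)⁻¹
  have hne : ∀ (φ : X ⊗ T ⟶ X) (b : T ⟶ X), lift b (𝟙 T) ≫ φ = u → ((φ.left ⁻¹ᵁ U : Set (X ⊗ T).left)).Nonempty :=
    fun φ b e => ⟨(lift b (𝟙 T)).left pt, by
      show φ.left ((lift b (𝟙 T)).left pt) ∈ U
      rw [← Scheme.Hom.comp_apply, ← Over.comp_left, e]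
      exact hu⟩
  obtain ⟨z, hz⟩ := nonempty_preirreducible_inter (P.left ⁻¹ᵁ U).2 (M.left ⁻¹ᵁ U).2
    (hne P (y⁻¹ * u) (by simp [P, MonObj.comp_mul]))
    (hne M (u⁻¹ * y) (by simp [M, MonObj.comp_mul, GrpObj.comp_inv]))
  obtain ⟨z', hz', hzc⟩ := nonempty_inter_closedPoints
    (Z := ((P.left ⁻¹ᵁ U ⊓ M.left ⁻¹ᵁ U : (X ⊗ T).left.Opens) : Set (X ⊗ T).left)) ⟨z, hz⟩
    (P.left ⁻¹ᵁ U ⊓ M.left ⁻¹ᵁ U).2.isLocallyClosed
  obtain ⟨τ, hτs, hτz⟩ := hsec z' (mem_closedPoints_iff.1 hzc)
  let a := τ ≫ fst X T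
  have key : ∀ (φ : X ⊗ T ⟶ X) (b : T ⟶ X), σ ≫ trPt b = τ ≫ φ → z' ∈ φ.left ⁻¹ᵁ U → (trPt b).left w ∈ U := by
    intro φ b e h
    rw [← hσw, ← Scheme.Hom.comp_apply, ← Over.comp_left, e, Over.comp_left, Scheme.Hom.comp_apply, hτz]
    exact h
  refine ⟨a, key P a ?_ hz'.1, key M a⁻¹ ?_ hz'.2⟩
  · simp [P, trPt, a, y, MonObj.comp_mul, reassoc_of% hσs, reassoc_of% hτs]
  · simp [M, trPt, a, y, MonObj.comp_mul, GrpObj.comp_inv, reassoc_of% hσs, reassoc_of% hτs]

/-- Points with values in an algebraic extension are defined over a finite subextension. -/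
theorem exists_finite_stage {Y : Over (Spec (CommRingCat.of k))} [LocallyOfFiniteType Y.hom] (kb : Type u) [Field kb]
    [Algebra k kb] [Algebra.IsAlgebraic k kb]
    (a : Over.mk (Spec.map (CommRingCat.ofHom (algebraMap k kb))) ⟶ Y) :
    ∃ S : Set kb, S.Finite ∧ ∀ (E : IntermediateField k kb), S ⊆ E →
      ∃ a' : Over.mk (Spec.map (CommRingCat.ofHom (algebraMap k E))) ⟶ Y,
        Spec.map (CommRingCat.ofHom E.val.toRingHom) ≫ a'.left = a.left := by
  let al : Spec (CommRingCat.of kb) ⟶ Y.left := a.left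
  obtain ⟨_, ⟨V, hV, rfl⟩, hxV, -⟩ := Y.left.isBasis_affineOpens.exists_subset_of_mem_open
    (Set.mem_univ (al (default : PrimeSpectrum kb))) isOpen_univ
  let R : CommRingCat.{u} := Γ(Y.left, V)
  have hr : Set.range al ⊆ Set.range hV.fromSpec := by
    rintro _ ⟨t, rfl⟩
    rw [hV.range_fromSpec, Subsingleton.elim (α := PrimeSpectrum kb) t default]
    exact hxV
  let l := IsOpenImmersion.lift hV.fromSpec al hr
  let ψ : R ⟶ CommRingCat.of kb := Spec.preimage l
  let χ : CommRingCat.of k ⟶ R := Spec.preimage (hV.fromSpec ≫ Y.hom)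
  letI : Algebra k R := χ.hom.toAlgebra
  haveI : Algebra.FiniteType k R := by
    refine RingHom.finiteType_algebraMap.1 ((HasRingHomProperty.Spec_iff (P := @LocallyOfFiniteType) (φ := χ)).1 ?_)
    rw [Spec.map_preimage]
    infer_instance
  have hcomp : χ ≫ ψ = CommRingCat.ofHom (algebraMap k kb) := Spec.map_injective (by
    rw [Spec.map_comp, Spec.map_preimage, Spec.map_preimage, IsOpenImmersion.lift_fac_assoc]
    exact Over.w a)
  let ψa : R →ₐ[k] kb := { ψ.hom with commutes' := fun c => congr($hcomp c) }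
  obtain ⟨G, hG⟩ := (inferInstance : Algebra.FiniteType k R).out
  refine ⟨ψa '' (G : Set R), G.finite_toSet.image _, fun E hE => ?_⟩
  have hmem : ∀ r : R, ψa r ∈ E.toSubalgebra := fun r => by
    have h : (⊤ : Subalgebra k R) ≤ E.toSubalgebra.comap ψa := by
      rw [← hG]
      exact Algebra.adjoin_le fun g hg => hE ⟨g, hg, rfl⟩
    exact h (Algebra.mem_top (x := r))
  let ψE : R →ₐ[k] E.toSubalgebra := ψa.codRestrict E.toSubalgebra hmem
  refine ⟨Over.homMk (Spec.map (CommRingCat.ofHom (ψE.toRingHom : R →+* E)) ≫ hV.fromSpec) ?_, ?_⟩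
  · have he : χ ≫ CommRingCat.ofHom (ψE.toRingHom : R →+* E) = CommRingCat.ofHom (algebraMap k E) := by
      ext c
      exact congr($hcomp c)
    show (Spec.map _ ≫ hV.fromSpec) ≫ Y.hom = Spec.map _
    rw [Category.assoc, ← Spec.map_preimage (hV.fromSpec ≫ Y.hom), ← Spec.map_comp, ← he]
  · show Spec.map _ ≫ Spec.map _ ≫ hV.fromSpec = al
    rw [← Spec.map_comp_assoc, show CommRingCat.ofHom (ψE.toRingHom : R →+* E) ≫
      CommRingCat.ofHom E.val.toRingHom = ψ from rfl, Spec.map_preimage]
    exact IsOpenImmersion.lift_fac _ _ _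

/-- An invertible module with a section generating exactly on a non-empty affine open of an abelian
variety is ample. -/
theorem isAmple_of_affine_genLocus (L : X.left.Modules) (hL : PicF.IsInvertible L)
    (s : Coh.structureModule X.left ⟶ L) (hs : IsAffineOpen (CohB1.genLocus L s))
    (hne : (CohB1.genLocus L s : Set X.left).Nonempty) : CohB1.IsAmple L := by
  classical
  set U := CohB1.genLocus L s
  haveI : IsIntegral X.left := GeometricallyIntegral.isIntegral_of_subsingleton X.hom
  -- over the algebraic closure finitely many translations suffice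
  let kb := AlgebraicClosure k
  let Tb : Over (Spec (CommRingCat.of k)) := Over.mk (Spec.map (CommRingCat.ofHom (algebraMap k kb)))
  haveI : LocallyOfFiniteType (snd X Tb).left :=
    MorphismProperty.of_isPullback (isPullback_prod X Tb) (inferInstance : LocallyOfFiniteType X.hom)
  haveI : QuasiCompact (snd X Tb).left :=
    MorphismProperty.of_isPullback (isPullback_prod X Tb) (inferInstance : QuasiCompact X.hom)
  haveI : Surjective Tb.hom := ⟨fun p => ⟨(default : PrimeSpectrum kb), Subsingleton.elim (α := PrimeSpectrum k) _ _⟩⟩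
  haveI : Surjective (fst X Tb).left := MorphismProperty.of_isPullback (isPullback_prod X Tb).flip ‹Surjective Tb.hom›
  haveI : IsIntegral (X ⊗ Tb).left :=
    GeometricallyIntegral.geometrically_isIntegral _ _ _ (isPullback_prod X Tb)
  haveI : CompactSpace (X ⊗ Tb).left := by
    haveI : CompactSpace Tb.left := inferInstanceAs (CompactSpace (Spec (CommRingCat.of kb)))
    exact QuasiCompact.compactSpace_of_compactSpace (snd X Tb).left
  haveI : JacobsonSpace (X ⊗ Tb).left := by
    haveI : JacobsonSpace Tb.left := inferInstanceAs (JacobsonSpace (Spec (CommRingCat.of kb)))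
    exact LocallyOfFiniteType.jacobsonSpace (snd X Tb).left
  choose a ha ha' using fun (w : closedPoints (X ⊗ Tb).left) =>
    exists_good (U := U) hne (T := Tb) (K := kb) rfl w.1 (mem_closedPoints_iff.1 w.2)
  let G : closedPoints (X ⊗ Tb).left → Set (X ⊗ Tb).left := fun w =>
    ((trPt (a w)).left ⁻¹ᵁ U ⊓ (trPt (a w)⁻¹).left ⁻¹ᵁ U : (X ⊗ Tb).left.Opens)
  have hcov : (Set.univ : Set (X ⊗ Tb).left) ⊆ ⋃ w, G w := by
    intro z _
    by_contra hz
    obtain ⟨w, hw, hwc⟩ := nonempty_inter_closedPoints (Z := (⋃ w, G w)ᶜ) ⟨z, hz⟩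
      (isOpen_iUnion fun w => ((trPt (a w)).left ⁻¹ᵁ U ⊓ (trPt (a w)⁻¹).left ⁻¹ᵁ U).2).isClosed_compl.isLocallyClosed
    exact hw (Set.mem_iUnion.2 ⟨⟨w, hwc⟩, ha ⟨w, hwc⟩, ha' ⟨w, hwc⟩⟩)
  obtain ⟨F, hF⟩ := isCompact_univ.elim_finite_subcover G
    (fun w => ((trPt (a w)).left ⁻¹ᵁ U ⊓ (trPt (a w)⁻¹).left ⁻¹ᵁ U).2) hcov
  -- a finite extension over which they are defined
  choose S hSfin hS using fun w : closedPoints (X ⊗ Tb).left => exists_finite_stage (Y := X) kb (a w)
  let E : IntermediateField k kb := IntermediateField.adjoin k (⋃ w ∈ F, S w)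
  haveI : Finite ↥(⋃ w ∈ F, S w) := (F.finite_toSet.biUnion fun w _ => hSfin w).to_subtype
  haveI : FiniteDimensional k E :=
    IntermediateField.finiteDimensional_adjoin fun x _ => (Algebra.IsAlgebraic.isAlgebraic x).isIntegral
  let T : Over (Spec (CommRingCat.of k)) := Over.mk (Spec.map (CommRingCat.ofHom (algebraMap k E)))
  let jT : Tb ⟶ T := Over.homMk (Spec.map (CommRingCat.ofHom E.val.toRingHom)) (by
    show Spec.map _ ≫ Spec.map _ = Spec.map _
    rw [← Spec.map_comp]
    rfl)
  have hE : ∀ w ∈ F, ∃ b : T ⟶ X, jT ≫ b = a w := fun w hw => by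
    obtain ⟨b, hb⟩ := hS w E ((Set.subset_biUnion_of_mem (u := S) hw).trans (IntermediateField.subset_adjoin _ _))
    exact ⟨b, Over.OverMorphism.ext hb⟩
  haveI : IsFinite T.hom :=
    (IsFinite.SpecMap_iff _).2 (RingHom.finite_algebraMap.2 (inferInstance : Module.Finite k E))
  haveI : Flat T.hom := inferInstance
  haveI : Surjective T.hom := ⟨fun p => ⟨(default : PrimeSpectrum E), Subsingleton.elim (α := PrimeSpectrum k) _ _⟩⟩
  haveI : Surjective jT.left := ⟨fun p => ⟨(default : PrimeSpectrum kb), Subsingleton.elim (α := PrimeSpectrum E) _ _⟩⟩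
  haveI : Subsingleton T.left := inferInstanceAs (Subsingleton (PrimeSpectrum E))
  let π := (fst X T).left
  haveI : IsFinite π := MorphismProperty.of_isPullback (isPullback_prod X T).flip ‹IsFinite T.hom›
  haveI : Flat π := MorphismProperty.of_isPullback (isPullback_prod X T).flip ‹Flat T.hom›
  haveI : Surjective π := MorphismProperty.of_isPullback (isPullback_prod X T).flip ‹Surjective T.hom›
  haveI : IsLocallyNoetherian X.left := LocallyOfFiniteType.isLocallyNoetherian X.hom
  haveI : LocallyOfFinitePresentation π := inferInstance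
  haveI : CompactSpace X.left := QuasiCompact.compactSpace_of_compactSpace X.hom
  haveI : Surjective (X ◁ jT).left :=
    MorphismProperty.of_isPullback (isPullback_whiskerLeft X jT).flip ‹Surjective jT.left›
  haveI : (X ⊗ T).left.IsSeparated := by
    haveI : X.left.IsSeparated := ⟨by rw [← terminal.comp_from X.hom]; infer_instance⟩
    exact ⟨by rw [← terminal.comp_from π]; infer_instance⟩
  haveI : CompactSpace (X ⊗ T).left := QuasiCompact.compactSpace_of_compactSpace π
  let L' := (Scheme.Modules.pullback π).obj L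
  have hL' : PicF.IsInvertible L' := Groth.L18.Ample.isInvertible_pullback π hL
  -- the pullback is ample
  have hamp : CohB1.IsAmple L' := by
    refine ⟨hL', inferInstance, fun z => ?_⟩
    obtain ⟨z', hz'⟩ := (X ◁ jT).left.surjective z
    obtain ⟨w, hwF, hw⟩ := Set.mem_iUnion₂.1 (hF (Set.mem_univ z'))
    obtain ⟨b, hb⟩ := hE w hwF
    let sP := Groth.L18.Ample.pullHom (trPt b).left s
    let sM := Groth.L18.Ample.pullHom (trPt b⁻¹).left s
    let LP := (Scheme.Modules.pullback (trPt b).left).obj L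
    let LM := (Scheme.Modules.pullback (trPt b⁻¹).left).obj L
    obtain ⟨θ⟩ : Nonempty (CohB1.tensorMod LP LM ≅ CohB1.tensorPow L' (1 + 1)) := by
      refine (PicGrp.cl_eq_cl_iff _ _).1 ?_
      rw [cl_tensorPow, pow_two]
      exact (pc_fst_sq L hL b).symm
    refine ⟨1, Groth.L18.GenLoc.tensHom sP sM ≫ θ.hom, ?_⟩
    rw [Groth.L16.genLocus_comp_iso, Groth.L18.GenLoc.genLocus_tensHom (Groth.L18.Ample.isInvertible_pullback _ hL)
      (Groth.L18.Ample.isInvertible_pullback _ hL), Groth.L18.Ample.genLocus_pullHom _ hL,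
      Groth.L18.Ample.genLocus_pullHom _ hL]
    haveI := isAffineHom_trPt b
    haveI := isAffineHom_trPt b⁻¹
    refine ⟨?_, (hs.preimage _).inf (hs.preimage _)⟩
    have h : ∀ c : T ⟶ X, (trPt (jT ≫ c)).left z' ∈ U → z ∈ (trPt c).left ⁻¹ᵁ U := fun c hc => by
      show (trPt c).left z ∈ U
      rw [← hz', ← Scheme.Hom.comp_apply, ← Over.comp_left,
        show X ◁ jT ≫ trPt c = trPt (jT ≫ c) by simp [trPt, MonObj.comp_mul]]
      exact hc
    exact ⟨h b (by rw [hb]; exact hw.1), h b⁻¹ (by rw [GrpObj.comp_inv, hb]; exact hw.2)⟩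
  -- descent by the norm
  choose W n c hyW _ hc using Groth.L18.NormFree.exists_goodBasis_of_flat (π := π)
  obtain ⟨F', hF'⟩ := isCompact_univ.elim_finite_subcover (fun y : X.left => (W y : Set X.left)) (fun y => (W y).2)
    (fun y _ => Set.mem_iUnion.2 ⟨y, hyW y⟩)
  have hpos : ∀ y, 0 < n y := fun y => by
    obtain ⟨x, hx⟩ := π.surjective y
    exact Groth.L18.NormFree.pos_rank (hc y) (show π x ∈ W y by rw [hx]; exact hyW y)
  obtain ⟨N⟩ := Groth.L18.NormFree.hasNorm_of_goodBases (π := π) (∏ y ∈ F', n y) (Finset.prod_pos fun y _ => hpos y)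
    fun z => by
      obtain ⟨y, hy, hzy⟩ := Set.mem_iUnion₂.1 (hF' (Set.mem_univ z))
      exact ⟨W y, n y, c y, hzy, hpos y, Finset.dvd_prod_of_mem _ hy, hc y⟩
  exact Groth.L18.NormDesc.isAmple_of_norm N hL hamp

end Groth.L08.Cube
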