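import Groth.Agent.L08.Cube.ThreeMaps

/-!
# Pullback of an invertible module along multiplication by `n` on an abelian variety
-/

set_option autoImplicit false
set_option linter.unusedSectionVars false
set_option backward.isDefEq.respectTransparency false

universe u

open CategoryTheory CategoryTheory.Limits MonoidalCategory CartesianMonoidalCategory AlgebraicGeometry

open scoped MonObj

noncomputable section

namespace Groth.L08.Cube

open Groth.Agent.AbDualLib

attribute [local instance] clMonoid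

theorem cl_tensorPow {Y : Scheme.{u}} (L : Y.Modules) :
    ∀ n : ℕ, PicF.cl (CohB1.tensorPow L n) = (PicF.cl L) ^ n
  | 0 => (pow_zero (PicF.cl L)).symm
  | n + 1 => by
    rw [pow_succ, ← cl_tensorPow L n]
    rfl

/-- The triangular numbers. -/
def tri : ℕ → ℕ
  | 0 => 0
  | n + 1 => tri n + (n + 1)

theorem tri_eq (n : ℕ) : tri n = n * (n + 1) / 2 := by
  have h : ∀ n, 2 * tri n = n * (n + 1) := by
    intro n
    induction n with
    | zero => rfl
    | succ n ih => simp only [tri]; linarith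
  rw [← h n]
  omega

theorem isUnit_pc {K : Type u} [Field K] {A : Over (Spec (CommRingCat.of K))} [GrpObj A]
    (L : A.left.Modules) (hL : PicF.IsInvertible L) {W : Over (Spec (CommRingCat.of K))} (φ : W ⟶ A) :
    IsUnit (pc L φ) := by
  obtain ⟨b, -, hb⟩ := exists_inverseCl (isInvertibleCl_pc L hL φ)
  exact IsUnit.of_mul_eq_one b hb

variable {K : Type u} [Field K] {A : Over (Spec (CommRingCat.of K))} [GrpObj A] [IsProper A.hom]
  [GeometricallyIntegral A.hom] (L : A.left.Modules) (hL : PicF.IsInvertible L)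
include hL

theorem pc_pow_succ (n : ℕ) :
    pc L (𝟙 A ^ (n + 1)) = pc L (𝟙 A) ^ tri (n + 1) * pc L (𝟙 A)⁻¹ ^ tri n := by
  induction n using Nat.twoStepInduction with
  | zero => simp [tri]
  | one =>
    have h := cube_relation L hL (𝟙 A) (𝟙 A) (𝟙 A)⁻¹
    rw [mul_inv_cancel, pc_one L hL, mul_one, mul_inv_cancel_right, mul_one] at h
    rw [pow_succ, pow_one, ← h]
    simp only [tri, pow_succ, pow_zero, one_mul]
  | more n ih ih' =>
    have h := cube_relation L hL (𝟙 A ^ (n + 2)) (𝟙 A) (𝟙 A)⁻¹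
    rw [mul_inv_cancel_right, mul_inv_cancel, pc_one L hL, mul_one, ← pow_succ,
      show (𝟙 A ^ (n + 2)) * (𝟙 A)⁻¹ = 𝟙 A ^ (n + 1) by rw [pow_succ _ (n + 1), mul_inv_cancel_right]] at h
    refine (isUnit_pc L hL (𝟙 A ^ (n + 1))).mul_right_cancel ?_
    rw [← h, ih', ih]
    simp only [tri, pow_add, pow_succ]
    ac_rfl

theorem pc_pow (n : ℕ) (hn : 1 ≤ n) :
    pc L (𝟙 A ^ n) = pc L (𝟙 A) ^ (n * (n + 1) / 2) * pc L (𝟙 A)⁻¹ ^ (n * (n - 1) / 2) := by
  obtain ⟨m, rfl⟩ : ∃ m, n = m + 1 := ⟨n - 1, by omega⟩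
  rw [pc_pow_succ L hL m, tri_eq, tri_eq, Nat.add_sub_cancel, Nat.mul_comm m (m + 1)]

end Groth.L08.Cube
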