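import Groth.Agent.L08.Cube.RelCubical
import Groth.Agent.L08.Cube.NPull
import Groth.Agent.L08.Cube.MulSurj

/-!
# Pullback of an invertible module along multiplication by an integer on an abelian scheme
-/

set_option autoImplicit false
set_option linter.style.haveILetI false
set_option linter.unusedSectionVars false
set_option backward.isDefEq.respectTransparency false

universe u

open CategoryTheory CategoryTheory.Limits MonoidalCategory CartesianMonoidalCategory AlgebraicGeometry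

open scoped MonObj

noncomputable section

namespace Groth.L08.Cube

open Groth.Agent.AbDualLib

attribute [local instance] clMonoid

/-- A sequence whose second differences are constant is quadratic. -/
theorem quad_rec {G : Type*} [AddCommGroup G] (a : ℤ → G)
    (h : ∀ n, a (n + 1) + a (n - 1) + (2 : ℤ) • a 0 = (2 : ℤ) • a n + a 1 + a (-1)) (n : ℤ) :
    a n = ((n ^ 2 + n) / 2) • a 1 + ((n ^ 2 - n) / 2) • a (-1) + (1 - n ^ 2) • a 0 := by
  let F : ℤ → G := fun n => ((n ^ 2 + n) / 2) • a 1 + ((n ^ 2 - n) / 2) • a (-1) + (1 - n ^ 2) • a 0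
  have hT : ∀ n : ℤ, ((n + 1) ^ 2 + (n + 1)) / 2 = (n ^ 2 + n) / 2 + (n + 1) := by
    intro n
    rw [show (n + 1) ^ 2 + (n + 1) = n ^ 2 + n + (n + 1) * 2 by ring, Int.add_mul_ediv_right _ _ two_ne_zero]
  have hT' : ∀ n : ℤ, ((n + 1) ^ 2 - (n + 1)) / 2 = (n ^ 2 - n) / 2 + n := by
    intro n
    rw [show (n + 1) ^ 2 - (n + 1) = n ^ 2 - n + n * 2 by ring, Int.add_mul_ediv_right _ _ two_ne_zero]
  have hF : ∀ n, F (n + 1) + F (n - 1) + (2 : ℤ) • a 0 = (2 : ℤ) • F n + a 1 + a (-1) := by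
    intro n
    have h1 := hT (n - 1)
    have h2 := hT' (n - 1)
    rw [sub_add_cancel] at h1 h2
    simp only [F, hT n, hT' n, h1, h2]
    module
  suffices H : ∀ n, a n = F n ∧ a (n + 1) = F (n + 1) from (H n).1
  intro n
  induction n using Int.induction_on with
  | zero => constructor <;> simp [F]
  | succ i ih =>
    refine ⟨ih.2, ?_⟩
    have e1 := h (i + 1)
    have e2 := hF (i + 1)
    rw [add_sub_cancel_right] at e1 e2
    rw [ih.2, ih.1, ← e2] at e1
    exact add_right_cancel (add_right_cancel e1)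
  | pred i ih =>
    refine ⟨?_, by rw [sub_add_cancel]; exact ih.1⟩
    have e1 := h (-i)
    have e2 := hF (-i)
    rw [ih.2, ih.1, ← e2] at e1
    exact add_left_cancel (add_right_cancel e1)

theorem isUnit_of_isInvertibleCl {Y : Scheme.{u}} {c : PicF.Cl Y} (h : PicF.IsInvertibleCl c) : IsUnit c := by
  obtain ⟨b, -, hb⟩ := exists_inverseCl h
  exact IsUnit.of_mul_eq_one b hb

theorem isInvertibleCl_npow {Y : Scheme.{u}} {c : PicF.Cl Y} (h : PicF.IsInvertibleCl c) :
    ∀ n : ℕ, n ≠ 0 → PicF.IsInvertibleCl (c ^ n)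
  | 1, _ => by rwa [pow_one]
  | n + 2, _ => by
    rw [pow_succ]
    exact isInvertibleCl_mulCl (isInvertibleCl_npow h (n + 1) (Nat.succ_ne_zero n)) h

theorem isInvertibleCl_zpow {Y : Scheme.{u}} {c : PicF.Cl Y} (h : PicF.IsInvertibleCl c) (z : ℤ) :
    PicF.IsInvertibleCl (((isUnit_of_isInvertibleCl h).unit ^ z : (PicF.Cl Y)ˣ) : PicF.Cl Y) := by
  obtain ⟨b, hb, hcb⟩ := exists_inverseCl h
  have hinv : (((isUnit_of_isInvertibleCl h).unit⁻¹ : (PicF.Cl Y)ˣ) : PicF.Cl Y) = b :=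
    Units.inv_eq_of_mul_eq_one_right hcb
  have h1 : PicF.IsInvertibleCl (1 : PicF.Cl Y) := hcb ▸ isInvertibleCl_mulCl h hb
  match z with
  | .ofNat n =>
    rcases eq_or_ne n 0 with rfl | hn
    · simpa using h1
    · simpa using isInvertibleCl_npow h n hn
  | .negSucc n =>
    rw [zpow_negSucc, ← inv_pow, Units.val_pow_eq_pow_val, hinv]
    exact isInvertibleCl_npow hb _ (Nat.succ_ne_zero n)

theorem pullCl_id {Y : Scheme.{u}} (c : PicF.Cl Y) : PicF.pullCl (𝟙 Y) c = c := by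
  obtain ⟨M, rfl⟩ := cl_surjective c
  exact cl_congr ((Scheme.Modules.pullbackId Y).app M)

variable {S : Scheme.{u}} {A : Over S} [GrpObj A] (L : A.left.Modules) (hL : PicF.IsInvertible L)
  [IsProper A.hom] [Flat A.hom] [LocallyOfFinitePresentation A.hom]
  [GeometricallyReduced A.hom] [GeometricallyConnected A.hom]
include hL

theorem exists_pullback_zpow (n : ℤ) : ∃ M : S.Modules, PicF.IsInvertible M ∧
    PicF.cl ((Scheme.Modules.pullback (𝟙 A ^ n).left).obj L) =
      PicF.cl L ^ ((n ^ 2 + n) / 2).toNat *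
        PicF.pullCl (𝟙 A ^ (-1 : ℤ)).left (PicF.cl L) ^ ((n ^ 2 - n) / 2).toNat *
        PicF.cl ((Scheme.Modules.pullback A.hom).obj M) := by
  let a : ℤ → (PicF.Cl A.left)ˣ := fun m => (isUnit_of_isInvertibleCl (isInvertibleCl_pcs L hL (𝟙 A ^ m))).unit
  have ha : ∀ m, ((a m : (PicF.Cl A.left)ˣ) : PicF.Cl A.left) = pcs L (𝟙 A ^ m) := fun m => rfl
  have hrec : ∀ m, a (m + 1) * a (m - 1) * a 0 ^ (2 : ℤ) = a m ^ (2 : ℤ) * a 1 * a (-1) := by
    intro m
    have h := cube_relation_rel L hL (𝟙 A ^ m) (𝟙 A ^ (1 : ℤ)) (𝟙 A ^ (-1 : ℤ))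
    rw [← zpow_add, ← zpow_add, ← zpow_add, ← zpow_add, show m + 1 + -1 = m by ring,
      show m + -1 = m - 1 by ring, show (1 : ℤ) + -1 = 0 by ring,
      show (1 : A ⟶ A) = 𝟙 A ^ (0 : ℤ) from (zpow_zero _).symm] at h
    refine Units.ext ?_
    simp only [zpow_two, Units.val_mul, ha]
    rw [← mul_assoc, ← h]
  have hq := quad_rec (fun m => Additive.ofMul (a m)) (fun m => hrec m) n
  let e : PicF.Cl S := PicF.pullCl η[A].left (PicF.cl L)
  have he : PicF.IsInvertibleCl e := PicLoc.isInvertibleCl_pullCl _ ⟨L, rfl, hL⟩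
  obtain ⟨M, hM, hMi⟩ := isInvertibleCl_zpow he (1 - n ^ 2)
  refine ⟨M, hMi, ?_⟩
  have hc : a 0 = Units.map (pullClHom A.hom) (isUnit_of_isInvertibleCl he).unit := by
    refine Units.ext ?_
    rw [ha, zpow_zero, Hom.one_def, ← pullCl_pcs L (toUnit A) η[A]]
    rfl
  have hq' : a n = a 1 ^ ((n ^ 2 + n) / 2) * a (-1) ^ ((n ^ 2 - n) / 2) * a 0 ^ (1 - n ^ 2) := hq
  have h1 : 0 ≤ (n ^ 2 + n) / 2 := Int.ediv_nonneg (by nlinarith [sq_nonneg (2 * n + 1)]) zero_le_two
  have h2 : 0 ≤ (n ^ 2 - n) / 2 := Int.ediv_nonneg (by nlinarith [sq_nonneg (2 * n - 1)]) zero_le_two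
  rw [← Int.toNat_of_nonneg h1, ← Int.toNat_of_nonneg h2, zpow_natCast, zpow_natCast, hc, ← map_zpow] at hq'
  have hq'' := congrArg (fun x : (PicF.Cl A.left)ˣ => (x : PicF.Cl A.left)) hq'
  simp only [Units.val_mul, Units.val_pow_eq_pow_val, ha, zpow_one, Units.coe_map] at hq''
  rw [show pcs L (𝟙 A) = PicF.cl L from pullCl_id _, ← hM] at hq''
  exact hq''

end Groth.L08.Cube
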