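import Groth.Agent.L08.Cube.AmpleFixed

/-!
# Modules fixed by translations: closedness, additivity, finiteness for ample modules
-/

set_option autoImplicit false
set_option linter.style.haveILetI false
set_option linter.unusedSectionVars false
set_option backward.isDefEq.respectTransparency false

universe u

open CategoryTheory CategoryTheory.Limits MonoidalCategory CartesianMonoidalCategory AlgebraicGeometry TopologicalSpace

open scoped MonObj

noncomputable section

namespace Groth.L08.Cube

open Groth.Agent.AbDualLib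

attribute [local instance] clMonoid

/-- A proper integral quasi-affine scheme over a field is a point. -/
theorem subsingleton_of_isQuasiAffine {k : Type u} [Field k] {C : Scheme.{u}} [AlgebraicGeometry.IsIntegral C]
    (p : C ⟶ Spec (CommRingCat.of k)) [UniversallyClosed p] [C.IsQuasiAffine] (x y : C) : x = y := by
  letI := (isField_of_universallyClosed k p).toField
  haveI : IsImmersion C.toSpecΓ := inferInstance
  exact C.toSpecΓ.isEmbedding.injective (Subsingleton.elim (α := PrimeSpectrum Γ(C, ⊤)) _ _)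

variable {K : Type u} [Field K] [IsAlgClosed K] {A : Over (Spec (CommRingCat.of K))} [GrpObj A] [IsProper A.hom]
  [GeometricallyIntegral A.hom] (L : A.left.Modules) (hL : PicF.IsInvertible L)

include hL

/-- The rational points fixing `L` are those in a closed set. -/
theorem exists_closed_fixed :
    ∃ Z : Set A.left, IsClosed Z ∧ ∀ a : 𝟙_ (Over (Spec (CommRingCat.of K))) ⟶ A,
      kpt a ∈ Z ↔ pc L (trK a) = PicF.cl L := by
  haveI : LocallyOfFiniteType A.hom := inferInstance
  haveI : IsLocallyNoetherian A.left := LocallyOfFiniteType.isLocallyNoetherian A.hom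
  haveI : GeometricallyIntegral (snd A A).left :=
    MorphismProperty.of_isPullback (isPullback_prod A A) ‹GeometricallyIntegral A.hom›
  haveI : Flat (snd A A).left := flat_snd A A
  haveI : IsProper (snd A A).left := isProper_snd A A
  haveI : LocallyOfFinitePresentation (snd A A).left := inferInstance
  obtain ⟨N, hN, ⟨e⟩⟩ := exists_inverse hL
  have hLN : PicF.cl L * PicF.cl N = (1 : PicF.Cl A.left) := cl_congr e
  let Λ := CohB1.tensorMod ((Scheme.Modules.pullback μ[A].left).obj L) ((Scheme.Modules.pullback (fst A A).left).obj N)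
  refine ⟨_, isClosed_trivial_fibres (snd A A).left Λ (Groth.L18.GenLoc.isInvertible_tensor
    (Groth.L18.Ample.isInvertible_pullback _ hL) (Groth.L18.Ample.isInvertible_pullback _ hN)), fun a => ?_⟩
  refine (fiber_trivial_iff_slice a Λ).trans ?_
  rw [nonempty_iso_structure_iff]
  have key : PicF.cl ((Scheme.Modules.pullback (slice A a).left).obj Λ) = pc L (trK a) * PicF.cl N := by
    show PicF.pullCl (slice A a).left (PicF.pullCl μ[A].left (PicF.cl L) * PicF.pullCl (fst A A).left (PicF.cl N)) = _
    rw [pullCl_mul, ← PicLoc.pullCl_comp, ← PicLoc.pullCl_comp, ← Over.comp_left, ← Over.comp_left, lift_fst,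
      Over.id_left, PicLoc.pullCl_id, trK, Hom.mul_def]
  rw [key]
  constructor
  · intro h
    rw [← one_mul (PicF.cl L), ← h, mul_assoc, mul_comm (PicF.cl N), hLN, mul_one]
  · intro h
    rw [h, hLN]

/-- A module fixed by the translations by the points of a reduced variety is additive along it. -/
theorem pc_mul_of_fixed {C : Over (Spec (CommRingCat.of K))} [LocallyOfFiniteType C.hom] [IsReduced C.left]
    (iv : C ⟶ A) (h : ∀ c : 𝟙_ (Over (Spec (CommRingCat.of K))) ⟶ C, pc L (trK (c ≫ iv)) = PicF.cl L) :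
    pc L (fst A C * (snd A C ≫ iv)) = pc L (fst A C) * pc L (snd A C ≫ iv) := by
  haveI : IsLocallyNoetherian C.left := LocallyOfFiniteType.isLocallyNoetherian C.hom
  haveI : JacobsonSpace C.left := LocallyOfFiniteType.jacobsonSpace C.hom
  haveI : GeometricallyIntegral (snd A C).left :=
    MorphismProperty.of_isPullback (isPullback_prod A C) ‹GeometricallyIntegral A.hom›
  haveI : Flat (snd A C).left := flat_snd A C
  haveI : IsProper (snd A C).left := isProper_snd A C
  haveI : LocallyOfFinitePresentation (snd A C).left := inferInstance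
  let Φ : A ⊗ C ⟶ A := fst A C * (snd A C ≫ iv)
  obtain ⟨a, ha, hLa⟩ := exists_inverseCl (⟨L, rfl, hL⟩ : PicF.IsInvertibleCl (PicF.cl L))
  obtain ⟨N, rfl, hN⟩ := ha
  obtain ⟨b, hb, hLb⟩ := exists_inverseCl (isInvertibleCl_pc L hL iv)
  obtain ⟨M, rfl, hM⟩ := hb
  let Λ := CohB1.tensorMod (CohB1.tensorMod ((Scheme.Modules.pullback Φ.left).obj L)
    ((Scheme.Modules.pullback (fst A C).left).obj N)) ((Scheme.Modules.pullback (snd A C).left).obj M)
  have hΛ : PicF.IsInvertible Λ := Groth.L18.GenLoc.isInvertible_tensor (Groth.L18.GenLoc.isInvertible_tensor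
    (Groth.L18.Ample.isInvertible_pullback _ hL) (Groth.L18.Ample.isInvertible_pullback _ hN))
    (Groth.L18.Ample.isInvertible_pullback _ hM)
  have hcl : ∀ {W : Over (Spec (CommRingCat.of K))} (s : W ⟶ A ⊗ C), PicF.pullCl s.left (PicF.cl Λ) =
      pc L ((s ≫ fst A C) * (s ≫ snd A C ≫ iv)) * PicF.pullCl (s ≫ fst A C).left (PicF.cl N) *
        PicF.pullCl (s ≫ snd A C).left (PicF.cl M) := fun {W} s => by
    show PicF.pullCl s.left (pc L Φ * PicF.pullCl (fst A C).left (PicF.cl N) *
      PicF.pullCl (snd A C).left (PicF.cl M)) = _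
    rw [pullCl_mul, pullCl_mul, pullCl_pc, ← PicLoc.pullCl_comp, ← PicLoc.pullCl_comp, ← Over.comp_left,
      ← Over.comp_left]
    simp only [Φ, MonObj.comp_mul]
  haveI : Subsingleton (𝟙_ (Over (Spec (CommRingCat.of K)))).left :=
    inferInstanceAs (Subsingleton (PrimeSpectrum K))
  have hconst : ∀ {W Z : Over (Spec (CommRingCat.of K))} (z : 𝟙_ (Over (Spec (CommRingCat.of K))) ⟶ Z)
      (P : Z.left.Modules), PicF.IsInvertible P → PicF.pullCl (toUnit W ≫ z).left (PicF.cl P) = 1 :=
    fun {W Z} z P hP => by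
      rw [Over.comp_left, PicLoc.pullCl_comp, show PicF.pullCl z.left (PicF.cl P) = 1 from
        eq_oneCl_of_subsingleton (PicLoc.isInvertibleCl_pullCl _ ⟨P, rfl, hP⟩), pullCl_one]
  have hclosed : ∀ w : C.left, IsClosed ({w} : Set C.left) →
      Nonempty (CohIII.fiberMod (snd A C).left Λ w ≅ Coh.structureModule ((snd A C).left.fiber w)) := by
    intro w hw
    obtain ⟨c, rfl⟩ := exists_kpt w hw
    rw [fiber_trivial_iff_slice, nonempty_iso_structure_iff]
    show PicF.pullCl (slice A c).left (PicF.cl Λ) = 1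
    rw [hcl, lift_fst, lift_snd_assoc, lift_snd, hconst c M hM, mul_one, Over.id_left, PicLoc.pullCl_id,
      Category.assoc, show pc L (𝟙 A * (toUnit A ≫ c ≫ iv)) = PicF.cl L from h c, hLa]
  have hall : ∀ w, Nonempty (CohIII.fiberMod (snd A C).left Λ w ≅ Coh.structureModule ((snd A C).left.fiber w)) :=
    fun w => trivial_on_fibres_of_mem_closure (snd A C).left Λ hΛ (S := closedPoints C.left)
      (fun v hv => hclosed v (mem_closedPoints_iff.1 hv)) w (by rw [closure_closedPoints]; trivial)
  obtain ⟨e⟩ : Nonempty (Λ ≅ Coh.structureModule (A ⊗ C).left) := by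
    obtain ⟨θ₀⟩ : Nonempty ((Scheme.Modules.pullback (lift (toUnit C ≫ η[A]) (𝟙 C)).left).obj Λ ≅
        Coh.structureModule C.left) := by
      refine (nonempty_iso_structure_iff _).2 ?_
      show PicF.pullCl (lift (toUnit C ≫ η[A]) (𝟙 C)).left (PicF.cl Λ) = 1
      rw [hcl, lift_fst, lift_snd_assoc, lift_snd, hconst η[A] N hN, mul_one, Over.id_left, PicLoc.pullCl_id,
        Category.id_comp, ← Hom.one_def, one_mul, hLb]
    exact nonempty_iso_of_trivial_on_fibres (snd A C).left (lift (toUnit C ≫ η[A]) (𝟙 C)).left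
      (by rw [← Over.comp_left, lift_snd]; rfl) Λ hΛ hall θ₀
  have h1 : pc L Φ * PicF.pullCl (fst A C).left (PicF.cl N) * PicF.pullCl (snd A C).left (PicF.cl M) = 1 :=
    (nonempty_iso_structure_iff Λ).1 ⟨e⟩
  calc pc L Φ = pc L Φ * (PicF.pullCl (fst A C).left (PicF.cl L * PicF.cl N) *
        PicF.pullCl (snd A C).left (pc L iv * PicF.cl M)) := by rw [hLa, hLb, pullCl_one, pullCl_one, mul_one, mul_one]
    _ = (pc L Φ * PicF.pullCl (fst A C).left (PicF.cl N) * PicF.pullCl (snd A C).left (PicF.cl M)) *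
        (pc L (fst A C) * pc L (snd A C ≫ iv)) := by
      rw [pullCl_mul, pullCl_mul, pullCl_pc]
      simp only [pc]
      ac_rfl
    _ = _ := by rw [h1, one_mul]

end Groth.L08.Cube

namespace Groth.L08.Cube

attribute [local instance] clMonoid

variable {K : Type u} [Field K] [IsAlgClosed K] {A : Over (Spec (CommRingCat.of K))} [GrpObj A] [IsProper A.hom]
  [GeometricallyIntegral A.hom]

/-- An ample module is fixed by finitely many translations. -/
theorem finite_fixed_of_isAmple (L : A.left.Modules) (hL : CohB1.IsAmple L) :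
    Set.Finite {a : 𝟙_ (Over (Spec (CommRingCat.of K))) ⟶ A | pc L (trK a) = PicF.cl L} := by
  obtain ⟨Z, hZ, hZa⟩ := exists_closed_fixed L hL.1
  haveI : JacobsonSpace A.left := LocallyOfFiniteType.jacobsonSpace A.hom
  haveI : IsLocallyNoetherian A.left := LocallyOfFiniteType.isLocallyNoetherian A.hom
  haveI : CompactSpace A.left := QuasiCompact.compactSpace_of_compactSpace A.hom
  haveI : IsNoetherian A.left := {}
  suffices hfin : Z.Finite from
    ((hfin.preimage (kpt_injective (A := A)).injOn)).subset fun a ha => (hZa a).2 ha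
  obtain ⟨S, hS, hSc, hSi, hSu⟩ := NoetherianSpace.exists_finite_set_isClosed_irreducible hZ
  rw [hSu]
  refine hS.sUnion fun T hT => Set.Subsingleton.finite ?_
  let I := Scheme.IdealSheafData.vanishingIdeal (⟨T, hSc T hT⟩ : Closeds A.left)
  haveI : AlgebraicGeometry.IsIntegral I.subscheme := isIntegral_vanishingIdeal _ (hSi T hT)
  let i : I.subscheme ⟶ A.left := I.subschemeι
  let C : Over (Spec (CommRingCat.of K)) := Over.mk (i ≫ A.hom)
  let iv : C ⟶ A := Over.homMk i rfl
  haveI : AlgebraicGeometry.IsIntegral C.left := inferInstanceAs (AlgebraicGeometry.IsIntegral I.subscheme)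
  haveI : IsProper C.hom := inferInstanceAs (IsProper (i ≫ A.hom))
  have hrg : T = Set.range i := by
    rw [I.range_subschemeι, Scheme.IdealSheafData.coe_support_vanishingIdeal]; rfl
  have hadd := pc_mul_of_fixed L hL.1 iv fun c => (hZa (c ≫ iv)).1 (by
    rw [hSu]
    refine ⟨T, hT, ?_⟩
    rw [hrg]
    exact ⟨kpt c, (Scheme.Hom.comp_apply c.left i _).symm⟩)
  have h0 := congrArg (PicF.pullCl (lift (iv⁻¹) (𝟙 C)).left) hadd
  rw [pullCl_mul, pullCl_pc, pullCl_pc, pullCl_pc, MonObj.comp_mul, lift_fst, lift_snd_assoc, Category.id_comp,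
    inv_mul_cancel, pc_one L hL.1] at h0
  let L₁ := (Scheme.Modules.pullback iv.left).obj L
  let ι' : A ⟶ A := (𝟙 A)⁻¹
  haveI : IsIso ι'.left := by
    let e : A ≅ A := ⟨(𝟙 A)⁻¹, (𝟙 A)⁻¹, by simp [GrpObj.comp_inv], by simp [GrpObj.comp_inv]⟩
    exact ((Over.forget _).mapIso e).isIso_hom
  have h1 : iv⁻¹ = iv ≫ ι' := by simp [ι', GrpObj.comp_inv]
  rw [h1] at h0
  let L₂ := (Scheme.Modules.pullback iv.left).obj ((Scheme.Modules.pullback ι'.left).obj L)
  haveI : IsClosedImmersion iv.left := inferInstanceAs (IsClosedImmersion I.subschemeι)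
  have hA₁ : CohB1.IsAmple L₁ := Groth.L18.Ample.isAmple_pullback_of_isAffineHom _ hL
  have hA₂ : CohB1.IsAmple L₂ :=
    Groth.L18.Ample.isAmple_pullback_of_isAffineHom _ (Groth.L18.Ample.isAmple_pullback_of_isAffineHom _ hL)
  obtain ⟨e⟩ : Nonempty (CohB1.tensorMod L₂ L₁ ≅ Coh.structureModule C.left) := by
    refine (nonempty_iso_structure_iff _).2 ?_
    show PicF.pullCl iv.left (pc L ι') * pc L iv = 1
    rw [pullCl_pc]
    exact h0.symm
  haveI : C.left.IsQuasiAffine := Groth.L18.Ample.isQuasiAffine_of_isAmple_inverse hA₂ hA₁ e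
  rw [hrg]
  rintro _ ⟨x, rfl⟩ _ ⟨y, rfl⟩
  exact congrArg i (subsingleton_of_isQuasiAffine C.hom x y)

end Groth.L08.Cube
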