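import Groth.Agent.L08.Cube.Field
import Groth.Agent.L26.AbDual.Classes

/-!
# The cube relation for three maps to an abelian variety
-/

set_option autoImplicit false
set_option linter.unusedSectionVars false
set_option backward.isDefEq.respectTransparency false

universe u

open CategoryTheory CategoryTheory.Limits MonoidalCategory CartesianMonoidalCategory AlgebraicGeometry

open scoped MonObj

noncomputable section

namespace Groth.L08.Cube

open Groth.Agent.AbDualLib

/-- Classes of modules form a commutative monoid under the tensor product. -/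
@[reducible] def clMonoid (Y : Scheme.{u}) : CommMonoid (PicF.Cl Y) where
  mul := PicGrp.mulCl
  mul_assoc := mulCl_assoc
  mul_comm := mulCl_comm
  one := oneCl Y
  one_mul := oneCl_mul
  mul_one := mul_oneCl

attribute [local instance] clMonoid

theorem clMul_def {Y : Scheme.{u}} (a b : PicF.Cl Y) : a * b = PicGrp.mulCl a b := rfl

theorem clOne_def (Y : Scheme.{u}) : (1 : PicF.Cl Y) = oneCl Y := rfl

theorem pullCl_mul {Y Z : Scheme.{u}} (g : Z ⟶ Y) (a b : PicF.Cl Y) :
    PicF.pullCl g (a * b) = PicF.pullCl g a * PicF.pullCl g b :=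
  pullCl_mulCl g a b

theorem pullCl_one {Y Z : Scheme.{u}} (g : Z ⟶ Y) : PicF.pullCl g (1 : PicF.Cl Y) = 1 :=
  pullCl_oneCl g

theorem exists_inverseCl {Y : Scheme.{u}} {a : PicF.Cl Y} (ha : PicF.IsInvertibleCl a) :
    ∃ b : PicF.Cl Y, PicF.IsInvertibleCl b ∧ a * b = 1 := by
  obtain ⟨L, rfl, hL⟩ := ha
  obtain ⟨N, hN, ⟨e⟩⟩ := exists_inverse hL
  exact ⟨PicF.cl N, ⟨N, rfl, hN⟩, cl_congr e⟩

section

variable {K : Type u} [Field K] {A : Over (Spec (CommRingCat.of K))}

/-- The class of the pullback of `L` along a point of `A`. -/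
abbrev pc (L : A.left.Modules) {W : Over (Spec (CommRingCat.of K))} (φ : W ⟶ A) : PicF.Cl W.left :=
  PicF.pullCl φ.left (PicF.cl L)

variable (L : A.left.Modules)

theorem pullCl_pc {V W : Over (Spec (CommRingCat.of K))} (ψ : V ⟶ W) (φ : W ⟶ A) :
    PicF.pullCl ψ.left (pc L φ) = pc L (ψ ≫ φ) :=
  (PicLoc.pullCl_comp ψ.left φ.left _).symm

variable [GrpObj A] (hL : PicF.IsInvertible L)
include hL

theorem isInvertibleCl_pc {W : Over (Spec (CommRingCat.of K))} (φ : W ⟶ A) : PicF.IsInvertibleCl (pc L φ) :=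
  PicLoc.isInvertibleCl_pullCl _ ⟨L, rfl, hL⟩

theorem pc_one (W : Over (Spec (CommRingCat.of K))) : pc L (1 : W ⟶ A) = 1 := by
  haveI : Subsingleton (𝟙_ (Over (Spec (CommRingCat.of K)))).left :=
    inferInstanceAs (Subsingleton (PrimeSpectrum K))
  rw [Hom.one_def, ← pullCl_pc L (toUnit W) η[A]]
  rw [show pc L η[A] = 1 from eq_oneCl_of_subsingleton (isInvertibleCl_pc L hL _), pullCl_one]

variable [IsProper A.hom] [GeometricallyIntegral A.hom]

theorem cube_relation_univ :
    let p : A ⊗ A ⊗ A ⟶ A := fst A (A ⊗ A)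
    let q : A ⊗ A ⊗ A ⟶ A := snd A (A ⊗ A) ≫ fst A A
    let r : A ⊗ A ⊗ A ⟶ A := snd A (A ⊗ A) ≫ snd A A
    pc L (p * q * r) * pc L p * pc L q * pc L r = pc L (p * q) * pc L (p * r) * pc L (q * r) := by
  intro p q r
  have hc : PicF.IsInvertibleCl (pc L (p * q * r) * pc L p * pc L q * pc L r) :=
    isInvertibleCl_mulCl (isInvertibleCl_mulCl (isInvertibleCl_mulCl (isInvertibleCl_pc L hL _)
      (isInvertibleCl_pc L hL _)) (isInvertibleCl_pc L hL _)) (isInvertibleCl_pc L hL _)
  have hd : PicF.IsInvertibleCl (pc L (p * q) * pc L (p * r) * pc L (q * r)) :=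
    isInvertibleCl_mulCl (isInvertibleCl_mulCl (isInvertibleCl_pc L hL _) (isInvertibleCl_pc L hL _))
      (isInvertibleCl_pc L hL _)
  obtain ⟨b, hb, hdb⟩ := exists_inverseCl hd
  obtain ⟨M, hM, hMi⟩ := isInvertibleCl_mulCl hc hb
  -- on the three coordinate slices the class of `M` is trivial
  have key : ∀ {W : Over (Spec (CommRingCat.of K))} (s : W ⟶ A ⊗ A ⊗ A),
      s ≫ p = 1 ∨ s ≫ q = 1 ∨ s ≫ r = 1 →
      Nonempty ((Scheme.Modules.pullback s.left).obj M ≅ Coh.structureModule W.left) := by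
    intro W s hs
    refine (PicGrp.cl_eq_cl_iff _ _).1 (show PicF.pullCl s.left (PicF.cl M) = 1 from ?_)
    rw [hM, ← clMul_def, pullCl_mul]
    have h : PicF.pullCl s.left (pc L (p * q * r) * pc L p * pc L q * pc L r) =
        PicF.pullCl s.left (pc L (p * q) * pc L (p * r) * pc L (q * r)) := by
      simp only [pullCl_mul, pullCl_pc, MonObj.comp_mul]
      rcases hs with h | h | h <;> simp only [h, one_mul, mul_one, pc_one L hL] <;> ac_rfl
    rw [h, ← pullCl_mul, hdb, pullCl_one]
  have h1 : PicF.cl M = 1 := (PicGrp.cl_eq_cl_iff _ _).2 (cube_field A A A η[A] η[A] η[A] M hMi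
    (key _ (Or.inl (by simp [p, Hom.one_def])))
    (key _ (Or.inr (Or.inl (by simp [q, Hom.one_def]))))
    (key _ (Or.inr (Or.inr (by simp [r, Hom.one_def])))))
  rw [hM, ← clMul_def] at h1
  calc _ = (pc L (p * q * r) * pc L p * pc L q * pc L r) * (b * (pc L (p * q) * pc L (p * r) * pc L (q * r))) := by
          rw [mul_comm b, hdb, mul_one]
    _ = _ := by rw [← mul_assoc, h1, one_mul]

theorem cube_relation {V : Over (Spec (CommRingCat.of K))} (f g h : V ⟶ A) :
    pc L (f * g * h) * pc L f * pc L g * pc L h = pc L (f * g) * pc L (f * h) * pc L (g * h) := by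
  have := congrArg (PicF.pullCl (lift f (lift g h)).left) (cube_relation_univ L hL)
  simp only [pullCl_mul, pullCl_pc, MonObj.comp_mul, lift_fst, lift_snd_assoc, lift_snd] at this
  exact this

end

end Groth.L08.Cube
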