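import Groth.Agent.L08.Cube.RelCube
import Groth.Agent.L08.Cube.ThreeMaps
import Groth.Agent.L26.AV.Hom

/-!
# The cubical structure of an invertible module on an abelian scheme
-/

set_option autoImplicit false
set_option linter.style.haveILetI false
set_option linter.unusedSectionVars false
set_option backward.isDefEq.respectTransparency false

universe u

open CategoryTheory CategoryTheory.Limits MonoidalCategory CartesianMonoidalCategory AlgebraicGeometry TopologicalSpace Opposite

open scoped MonObj

noncomputable section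

namespace Groth.L08.Cube

open Groth.Agent.AbDualLib

attribute [local instance] clMonoid

/-- An abelian scheme has geometrically integral fibres. -/
theorem geometricallyIntegral_of_group {S : Scheme.{u}} (X : Over S) [GrpObj X] [LocallyOfFiniteType X.hom]
    [GeometricallyReduced X.hom] [GeometricallyConnected X.hom] : GeometricallyIntegral X.hom := by
  refine (GeometricallyIntegral.iff_geometricallyIntegral_fiber _).2 fun s => ?_
  let F := Over.pullback (S.fromSpecResidueField s)
  letI : GrpObj (F.obj X) := F.grpObjObj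
  haveI : LocallyOfFiniteType (F.obj X).hom := by dsimp [F]; infer_instance
  haveI : GeometricallyReduced (F.obj X).hom := by dsimp [F]; infer_instance
  haveI : ConnectedSpace (F.obj X).left :=
    GeometricallyConnected.geometrically_connectedSpace (f := X.hom) _ _ _ (IsPullback.of_hasPullback _ _)
  exact Groth.Agent.AV.geometricallyIntegral_of_connected (F.obj X)

section

variable {S : Scheme.{u}} {A : Over S}

/-- The class of the pullback of `L` along a point with values in any object over the base. -/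
abbrev pcs (L : A.left.Modules) {W : Over S} (φ : W ⟶ A) : PicF.Cl W.left :=
  PicF.pullCl φ.left (PicF.cl L)

variable (L : A.left.Modules)

theorem pullCl_pcs {V W : Over S} (ψ : V ⟶ W) (φ : W ⟶ A) :
    PicF.pullCl ψ.left (pcs L φ) = pcs L (ψ ≫ φ) :=
  (PicLoc.pullCl_comp ψ.left φ.left _).symm

variable [GrpObj A] (hL : PicF.IsInvertible L) [IsProper A.hom] [Flat A.hom] [LocallyOfFinitePresentation A.hom]
  [GeometricallyReduced A.hom] [GeometricallyConnected A.hom]
include hL

theorem isInvertibleCl_pcs {W : Over S} (φ : W ⟶ A) : PicF.IsInvertibleCl (pcs L φ) :=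
  PicLoc.isInvertibleCl_pullCl _ ⟨L, rfl, hL⟩

theorem cube_relation_rel_univ :
    let p : (A ⊗ A) ⊗ A ⟶ A := fst (A ⊗ A) A ≫ fst A A
    let q : (A ⊗ A) ⊗ A ⟶ A := fst (A ⊗ A) A ≫ snd A A
    let r : (A ⊗ A) ⊗ A ⟶ A := snd (A ⊗ A) A
    pcs L (p * q * r) * pcs L p * pcs L q * pcs L r =
      pcs L (p * q) * pcs L (p * r) * pcs L (q * r) * pcs L (1 : (A ⊗ A) ⊗ A ⟶ A) := by
  intro p q r
  haveI := geometricallyIntegral_of_group A
  have hc : PicF.IsInvertibleCl (pcs L (p * q * r) * pcs L p * pcs L q * pcs L r) :=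
    isInvertibleCl_mulCl (isInvertibleCl_mulCl (isInvertibleCl_mulCl (isInvertibleCl_pcs L hL _)
      (isInvertibleCl_pcs L hL _)) (isInvertibleCl_pcs L hL _)) (isInvertibleCl_pcs L hL _)
  have hd : PicF.IsInvertibleCl (pcs L (p * q) * pcs L (p * r) * pcs L (q * r) * pcs L (1 : (A ⊗ A) ⊗ A ⟶ A)) :=
    isInvertibleCl_mulCl (isInvertibleCl_mulCl (isInvertibleCl_mulCl (isInvertibleCl_pcs L hL _) (isInvertibleCl_pcs L hL _))
      (isInvertibleCl_pcs L hL _)) (isInvertibleCl_pcs L hL _)
  obtain ⟨b, hb, hdb⟩ := exists_inverseCl hd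
  obtain ⟨M, hM, hMi⟩ := isInvertibleCl_mulCl hc hb
  -- on the three coordinate slices the class of `M` is trivial
  have key : ∀ {W : Over S} (s : W ⟶ (A ⊗ A) ⊗ A),
      s ≫ p = 1 ∨ s ≫ q = 1 ∨ s ≫ r = 1 →
      Nonempty ((Scheme.Modules.pullback s.left).obj M ≅ Coh.structureModule W.left) := by
    intro W s hs
    refine (PicGrp.cl_eq_cl_iff _ _).1 (show PicF.pullCl s.left (PicF.cl M) = 1 from ?_)
    rw [hM, ← clMul_def, pullCl_mul]
    have h : PicF.pullCl s.left (pcs L (p * q * r) * pcs L p * pcs L q * pcs L r) =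
        PicF.pullCl s.left (pcs L (p * q) * pcs L (p * r) * pcs L (q * r) * pcs L (1 : (A ⊗ A) ⊗ A ⟶ A)) := by
      simp only [pullCl_mul, pullCl_pcs, MonObj.comp_mul, MonObj.comp_one]
      rcases hs with h | h | h <;> simp only [h, one_mul, mul_one] <;> ac_rfl
    rw [h, ← pullCl_mul, hdb, pullCl_one]
  let e : S ⟶ A.left := η[A].left
  have he : e ≫ A.hom = 𝟙 S := Over.w η[A]
  let D := slicesOf A.hom A.hom e he e he
  let sX : A ⊗ A ⟶ (A ⊗ A) ⊗ A := lift (lift (fst A A) 1) (snd A A)
  let sY : A ⊗ A ⟶ (A ⊗ A) ⊗ A := lift (lift 1 (fst A A)) (snd A A)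
  obtain ⟨W, hW, hmem, htriv⟩ := relative_cube A.hom A.hom A.hom e he e he M hMi
    (by
      have h := key sX (Or.inr (Or.inl (by simp [sX, q])))
      have e1 : sX.left = D.slX A.hom := by
        apply pullback.hom_ext
        · refine Eq.trans ?_ (D.slX_fst A.hom).symm
          apply pullback.hom_ext
          · simp [sX, D, slicesOf]
          · simp [sX, D, slicesOf, Hom.one_def, e]
        · refine Eq.trans ?_ (D.slX_snd A.hom).symm
          simp [sX, D, slicesOf]
      rwa [e1] at h)
    (by
      have h := key sY (Or.inl (by simp [sY, p]))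
      have e1 : sY.left = D.slY A.hom := by
        apply pullback.hom_ext
        · refine Eq.trans ?_ (D.slY_fst A.hom).symm
          apply pullback.hom_ext
          · simp [sY, D, slicesOf, Hom.one_def, e]
          · simp [sY, D, slicesOf]
        · refine Eq.trans ?_ (D.slY_snd A.hom).symm
          simp [sY, D, slicesOf]
      rwa [e1] at h)
  let P := (A ⊗ A)
  let g : (P ⊗ A).left ⟶ A.left := (snd P A).left
  -- the origin lies in `W`
  have horig : ∀ s : S, e s ∈ W := fun s => hmem _ (by
    let sZ : P ⟶ P ⊗ A := lift (𝟙 P) 1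
    have h := key sZ (Or.inr (Or.inr (lift_snd _ _)))
    let φ : g.fiber (e s) ⟶ P.left := g.fiberι (e s) ≫ (fst P A).left
    refine trivial_comp φ sZ.left ?_ M h
    have hfac : g.fiberι (e s) ≫ g = g.fiberToSpecResidueField (e s) ≫ A.left.fromSpecResidueField (e s) := g.fiber_fac _
    haveI : IsSeparated A.hom := inferInstance
    haveI : IsClosedImmersion e := by
      haveI : IsClosedImmersion (e ≫ A.hom) := by rw [he]; infer_instance
      exact IsClosedImmersion.of_comp e A.hom
    obtain ⟨v, hv⟩ : ∃ v : Spec (A.left.residueField (e s)) ⟶ S, v ≫ e = A.left.fromSpecResidueField (e s) := by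
      have hbij : Function.Surjective (e.residueFieldMap s) := by
        intro a
        obtain ⟨b, rfl⟩ := IsLocalRing.residue_surjective a
        obtain ⟨c, rfl⟩ := e.stalkMap_surjective s b
        exact ⟨A.left.residue _ c, congr(($(Scheme.residue_residueFieldMap e s)) c)⟩
      haveI : IsIso (e.residueFieldMap s) := by
        rw [ConcreteCategory.isIso_iff_bijective]
        exact ⟨(e.residueFieldMap s).hom.injective, hbij⟩
      refine ⟨Spec.map (inv (e.residueFieldMap s)) ≫ S.fromSpecResidueField s, ?_⟩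
      rw [Category.assoc, ← Scheme.Hom.SpecMap_residueFieldMap_fromSpecResidueField, ← Spec.map_comp_assoc,
        IsIso.hom_inv_id, Spec.map_id, Category.id_comp]
    apply pullback.hom_ext
    · simp [sZ, φ, P]
      rfl
    · have h1 : g.fiberι (e s) ≫ g ≫ A.hom ≫ e = g.fiberι (e s) ≫ g := by
        rw [reassoc_of% hfac, hfac, ← hv]
        simp only [Category.assoc, reassoc_of% he]
      have h2 : sZ.left ≫ (snd P A).left = P.hom ≫ e := by
        rw [← Over.comp_left, lift_snd, Hom.one_def]; simp [e]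
      show φ ≫ sZ.left ≫ g = g.fiberι (e s) ≫ g
      rw [show sZ.left ≫ g = P.hom ≫ e from h2, ← h1]
      simp only [φ, g, Category.assoc]
      exact congrArg (fun m => g.fiberι (e s) ≫ m) (pullback.condition_assoc e))
  have hWu : W = ⊤ := by
    refine top_unique fun z _ => ?_
    let Fz := A.hom.fiber (A.hom z)
    haveI : ConnectedSpace Fz :=
      GeometricallyConnected.geometrically_connectedSpace (f := A.hom) _ _ _ (IsPullback.of_hasPullback _ _)
    have hclopen : IsClopen ((A.hom.fiberι (A.hom z)).base ⁻¹' (W : Set A.left)) :=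
      ⟨hW.preimage (A.hom.fiberι _).continuous, W.2.preimage (A.hom.fiberι _).continuous⟩
    obtain ⟨w, hw⟩ : e (A.hom z) ∈ Set.range (A.hom.fiberι (A.hom z)) := by
      rw [Scheme.Hom.range_fiberι]
      show A.hom (e (A.hom z)) = A.hom z
      exact congr(($he : S ⟶ S) (A.hom z))
    have hne : w ∈ (A.hom.fiberι (A.hom z)).base ⁻¹' (W : Set A.left) := by
      show A.hom.fiberι _ w ∈ W
      rw [hw]; exact horig _
    have hu := hclopen.eq_univ ⟨w, hne⟩
    obtain ⟨w', hw'⟩ : z ∈ Set.range (A.hom.fiberι (A.hom z)) := by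
      rw [Scheme.Hom.range_fiberι]; rfl
    have := hu.ge (Set.mem_univ w')
    rw [Set.mem_preimage] at this
    exact hw' ▸ this
  subst hWu
  haveI : IsIso ((pullback.snd (pullback.fst A.hom A.hom ≫ A.hom) A.hom) ⁻¹ᵁ (⊤ : A.left.Opens)).ι :=
    inferInstanceAs (IsIso (Scheme.topIso _).hom)
  obtain ⟨t⟩ := trivial_comp (inv _) _ (IsIso.inv_hom_id _) M htriv
  have h1 : PicF.cl M = 1 := (PicGrp.cl_eq_cl_iff _ _).2 ⟨((Scheme.Modules.pullbackId _).app M).symm ≪≫ t⟩
  rw [hM, ← clMul_def] at h1
  calc _ = (pcs L (p * q * r) * pcs L p * pcs L q * pcs L r) *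
        (b * (pcs L (p * q) * pcs L (p * r) * pcs L (q * r) * pcs L (1 : (A ⊗ A) ⊗ A ⟶ A))) := by
          rw [mul_comm b, hdb, mul_one]
    _ = _ := by rw [← mul_assoc, h1, one_mul]

theorem cube_relation_rel {V : Over S} (f g h : V ⟶ A) :
    pcs L (f * g * h) * pcs L f * pcs L g * pcs L h =
      pcs L (f * g) * pcs L (f * h) * pcs L (g * h) * pcs L (1 : V ⟶ A) := by
  have := congrArg (PicF.pullCl (lift (lift f g) h).left) (cube_relation_rel_univ L hL)
  simp only [pullCl_mul, pullCl_pcs, MonObj.comp_mul, MonObj.comp_one, lift_fst, lift_snd, lift_fst_assoc] at this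
  exact this

end

end Groth.L08.Cube
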