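import Groth.Agent.L18.GenLocus
import Groth.Agent.L19.ProjBdl.PullComp

/-!
# Coefficient maps of trivialised pullbacks of invertible modules
-/

set_option autoImplicit false
set_option linter.style.haveILetI false
set_option linter.unusedSectionVars false
set_option backward.isDefEq.respectTransparency false

universe u

open CategoryTheory AlgebraicGeometry TopologicalSpace Opposite

noncomputable section

namespace Groth.L08.Cube

open Groth.L18.Frame (rs ro rs_rs rs_self rs_smul ro_ro ro_self ro_mul pull pull_rs pull_smul IsFrame)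

variable {R Q P : Scheme.{u}}

/-- The coefficient map of a trivialised pullback: natural, semilinear, sending frames to units. -/
structure Triv (g : Q ⟶ P) (L : P.Modules) where
  /-- the map -/
  E : ∀ V : P.Opens, Γ(L, V) →+ Γ(Q, g ⁻¹ᵁ V)
  nat : ∀ {V V' : P.Opens} (h : V' ≤ V) (m : Γ(L, V)),
    E V' (rs L h m) = ro (g.preimage_mono h) (E V m)
  smul : ∀ (V : P.Opens) (a : Γ(P, V)) (m : Γ(L, V)), E V (a • m) = g.app V a * E V m
  unit : ∀ (V : P.Opens) (e : Γ(L, V)), IsFrame L V e → IsUnit (E V e)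

theorem isUnit_of_isFrame_structure {W : Q.Opens} {e : Γ(Q, W)}
    (he : IsFrame (Coh.structureModule Q) W e) : IsUnit e := by
  obtain ⟨a, ha⟩ := he.exists_coeff le_rfl (show Γ(Coh.structureModule Q, W) from (1 : Γ(Q, W)))
  rw [rs_self] at ha
  exact IsUnit.of_mul_eq_one_right a ha

/-- A trivialisation of the pullback gives a coefficient map. -/
def Triv.ofIso (g : Q ⟶ P) (L : P.Modules)
    (θ : (Scheme.Modules.pullback g).obj L ≅ Coh.structureModule Q) : Triv g L where
  E V := AddMonoidHom.mk' (fun m => θ.hom.app (g ⁻¹ᵁ V) (pull g L V m)) fun m m' => by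
    simp only [pull, map_add]
  nat {V V'} h m := by
    show θ.hom.app (g ⁻¹ᵁ V') (pull g L V' (rs L h m)) = _
    rw [← pull_rs]
    exact congr($(θ.hom.mapPresheaf.naturality (homOfLE (g.preimage_mono h)).op) (pull g L V m))
  smul V a m := by
    show θ.hom.app (g ⁻¹ᵁ V) (pull g L V (a • m)) = _
    rw [pull_smul, Scheme.Modules.Hom.app_smul]
    rfl
  unit V e he := isUnit_of_isFrame_structure (Groth.L19.ProjBdl.isFrame_of_iso θ (he.pullback g L))

/-- The structure sheaf along any morphism. -/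
def Triv.app (g : Q ⟶ P) : Triv g (Coh.structureModule P) where
  E V := (g.app V).hom.toAddMonoidHom
  nat {V V'} h m := congr($(g.naturality (homOfLE h).op) m)
  smul V a m := map_mul (g.app V).hom a m
  unit V e he := (isUnit_of_isFrame_structure he).map (g.app V).hom

/-- Composition with a morphism. -/
def Triv.comp {g : Q ⟶ P} {L : P.Modules} (t : Triv g L) (h : R ⟶ Q) : Triv (h ≫ g) L where
  E V := ((h.app (g ⁻¹ᵁ V)).hom.toAddMonoidHom).comp (t.E V)
  nat {V V'} hV m := (congrArg (h.app (g ⁻¹ᵁ V')) (t.nat hV m)).trans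
    congr($(h.naturality (homOfLE (g.preimage_mono hV)).op) (t.E V m))
  smul V a m := (congrArg (h.app (g ⁻¹ᵁ V)) (t.smul V a m)).trans
    ((map_mul (h.app (g ⁻¹ᵁ V)).hom _ _).trans rfl)
  unit V e he := (t.unit V e he).map (h.app (g ⁻¹ᵁ V)).hom

theorem Triv.exists_mul {g g' : Q ⟶ P} (hg : g = g') {L : P.Modules} (hL : PicF.IsInvertible L)
    (t : Triv g L) (t' : Triv g' L) :
    ∃ u : Γ(Q, ⊤), ∀ (V : P.Opens) (m : Γ(L, V)),
      t'.E V m = ro le_top u * ro (by rw [hg]) (t.E V m) := by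
  subst hg
  choose W e hW he using fun x : Q => Groth.L18.Frame.exists_frame hL (g x)
  let v : ∀ x : Q, Γ(Q, g ⁻¹ᵁ W x) := fun x =>
    t'.E (W x) (e x) * ↑((t.unit (W x) (e x) (he x)).unit⁻¹)
  have hv : ∀ x, v x * t.E (W x) (e x) = t'.E (W x) (e x) := fun x => by
    simp only [v, mul_assoc, IsUnit.val_inv_mul, mul_one]
  have key : ∀ (x : Q) (V : P.Opens) (h : V ≤ W x) (m : Γ(L, V)),
      t'.E V m = ro (g.preimage_mono h) (v x) * t.E V m := by
    intro x V h m
    obtain ⟨a, rfl⟩ := (he x).exists_coeff h m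
    rw [t'.smul, t.smul, t.nat, t'.nat, ← hv x, ro_mul]
    ring
  let OQ : TopCat.Sheaf CommRingCat.{u} Q.toTopCat := Q.sheaf
  obtain ⟨w, hw, -⟩ := OQ.existsUnique_gluing' (fun x => g ⁻¹ᵁ W x) ⊤ (fun x => homOfLE le_top)
    (fun x _ => Opens.mem_iSup.mpr ⟨x, hW x⟩) v fun x y => by
      show ro inf_le_left (v x) = ro inf_le_right (v y)
      have h0 : IsUnit (t.E (W x ⊓ W y) (rs L inf_le_left (e x))) :=
        t.unit _ _ ((he x).mono inf_le_left)
      exact h0.mul_left_injective ((key x _ inf_le_left (rs L inf_le_left (e x))).symm.trans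
        (key y _ inf_le_right (rs L inf_le_left (e x))))
  refine ⟨w, fun V m => ?_⟩
  refine OQ.eq_of_locally_eq' (fun x => g ⁻¹ᵁ (V ⊓ W x)) (g ⁻¹ᵁ V)
    (fun x => homOfLE (g.preimage_mono inf_le_left))
    (fun x hx => Opens.mem_iSup.mpr ⟨x, hx, hW x⟩) _ _ fun x => ?_
  show ro _ (t'.E V m) = ro _ (ro le_top w * ro _ (t.E V m))
  rw [ro_mul, ro_ro, ro_ro, ← t'.nat, key x _ inf_le_right, t.nat,
    ← (show ro (le_top : g ⁻¹ᵁ W x ≤ ⊤) w = v x from hw x), ro_ro]
  exact inf_le_left

end Groth.L08.Cube
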