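import Groth.Agent.L08.Cube.Inverse
import Groth.Agent.L08.Cube.Triv
import Mathlib.AlgebraicGeometry.FunctionField

/-!
# An invertible module with a section and a cosection on an integral scheme
-/

set_option autoImplicit false
set_option linter.style.haveILetI false
set_option linter.unusedSectionVars false
set_option backward.isDefEq.respectTransparency false

universe u

open CategoryTheory AlgebraicGeometry TopologicalSpace Opposite

noncomputable section

namespace Groth.L08.Cube

open Groth.L18.Frame (rs ro rs_rs rs_self rs_smul ro_ro ro_self ro_mul IsFrame)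
open Groth.L18.GenLoc (secOf homOfSection_secOf)

variable {X : Scheme.{u}}

theorem app_rs {L M : X.Modules} (t : L ⟶ M) {U V : X.Opens} (h : V ≤ U) (m : Γ(L, U)) :
    t.app V (rs L h m) = rs M h (t.app U m) :=
  congr($(t.mapPresheaf.naturality (homOfLE h).op) m)

theorem eq_zero_of_ro_eq_zero [IsIntegral X] {U V : X.Opens} (h : V ≤ U) (hV : Nonempty V) {a : Γ(X, U)}
    (ha : ro h a = 0) : a = 0 := by
  haveI := hV
  haveI : Nonempty U := ⟨⟨_, h hV.some.2⟩⟩
  exact map_injective_of_isIntegral X (homOfLE h) (ha.trans (map_zero _).symm)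

/-- A section and a cosection, both non-zero, of an invertible module on an integral scheme have
non-zero pairing. -/
theorem pairing_ne_zero [IsIntegral X] {L : X.Modules} (hL : PicF.IsInvertible L) (σ : Γ(L, ⊤))
    (hσ : σ ≠ 0) (t : L ⟶ Coh.structureModule X) (ht : t ≠ 0) :
    t.app ⊤ σ ≠ (0 : Γ(X, ⊤)) := by
  intro h0
  choose W e hW he using fun x : X => Groth.L18.Frame.exists_frame hL x
  choose a ha using fun x : X => (he x).exists_coeff le_rfl (rs L le_top σ)
  simp only [rs_self] at ha
  have hne : ∀ x, Nonempty (W x) := fun x => ⟨⟨x, hW x⟩⟩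
  have hprod : ∀ x, a x * (show Γ(X, W x) from t.app (W x) (e x)) = 0 := by
    intro x
    have h1 : t.app (W x) (rs L le_top σ) = 0 := by rw [app_rs, h0]; exact map_zero _
    rw [← ha x, Scheme.Modules.Hom.app_smul] at h1
    exact h1
  obtain ⟨x₀, hx₀⟩ : ∃ x₀, a x₀ ≠ 0 := by
    by_contra hcon
    push Not at hcon
    refine hσ ?_
    let OM : TopCat.Sheaf Ab.{u} X.toTopCat := ⟨L.presheaf, L.isSheaf⟩
    refine OM.eq_of_locally_eq' W ⊤ (fun x => homOfLE le_top) (fun x _ => Opens.mem_iSup.2 ⟨x, hW x⟩) σ 0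
      fun x => ?_
    show rs L le_top σ = rs L le_top 0
    rw [← ha x, hcon x, zero_smul]
    exact (map_zero _).symm
  have hall : ∀ x, (show Γ(X, W x) from t.app (W x) (e x)) = 0 := by
    intro x
    haveI := hne x
    refine (mul_eq_zero.1 (hprod x)).resolve_left fun hx => hx₀ ?_
    have hne' : Nonempty ↥(W x ⊓ W x₀) :=
      let ⟨y, hy⟩ := nonempty_preirreducible_inter (W x).2 (W x₀).2 ⟨x, hW x⟩ ⟨x₀, hW x₀⟩
      ⟨⟨y, hy⟩⟩
    refine eq_zero_of_ro_eq_zero (inf_le_right : W x ⊓ W x₀ ≤ _) hne' ?_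
    refine (he x₀).inj inf_le_right ?_
    have h1 := congrArg (rs L (inf_le_right : W x ⊓ W x₀ ≤ W x₀)) (ha x₀)
    have h2 := congrArg (rs L (inf_le_left : W x ⊓ W x₀ ≤ W x)) (ha x)
    rw [rs_smul, rs_rs] at h1 h2
    rw [h1, zero_smul, ← h2, hx, show ro inf_le_left (0 : Γ(X, W x)) = 0 from map_zero _, zero_smul]
  refine ht (Scheme.Modules.hom_ext _ _ fun V => ?_)
  ext m
  let OX : TopCat.Sheaf CommRingCat.{u} X.toTopCat := X.sheaf
  refine OX.eq_of_locally_eq' (fun x : X => V ⊓ W x) V (fun x => homOfLE inf_le_left)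
    (fun x hx => Opens.mem_iSup.2 ⟨x, hx, hW x⟩) (show Γ(X, V) from t.app V m) (show Γ(X, V) from 0) fun x => ?_
  obtain ⟨b, hb⟩ := (he x).exists_coeff (inf_le_right : V ⊓ W x ≤ W x) (rs L inf_le_left m)
  show rs (Coh.structureModule X) inf_le_left (t.app V m) = rs (Coh.structureModule X) inf_le_left 0
  rw [← app_rs, ← hb, Scheme.Modules.Hom.app_smul, app_rs]
  show b * ro _ (show Γ(X, W x) from t.app (W x) (e x)) = rs (Coh.structureModule X) inf_le_left 0
  rw [hall x, ro, map_zero, mul_zero]
  exact (map_zero _).symm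

/-- A section with invertible pairing against a cosection is nowhere vanishing. -/
theorem nonempty_iso_of_pairing {L : X.Modules} (hL : PicF.IsInvertible L) (σ : Γ(L, ⊤))
    (t : L ⟶ Coh.structureModule X) (hu : IsUnit (show Γ(X, ⊤) from t.app ⊤ σ)) :
    Nonempty (L ≅ Coh.structureModule X) := by
  choose W e hW he using fun x : X => Groth.L18.Frame.exists_frame hL x
  refine nonempty_iso_of_frame_top (σ := σ)
    (IsFrame.of_cover W (fun _ => le_top) (fun x _ => Opens.mem_iSup.2 ⟨x, hW x⟩) fun x => ?_)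
  obtain ⟨a, ha⟩ := (he x).exists_coeff le_rfl (rs L le_top σ)
  rw [rs_self] at ha
  have h1 : ro le_top (show Γ(X, ⊤) from t.app ⊤ σ) = a * (show Γ(X, W x) from t.app (W x) (e x)) := by
    have h2 := app_rs t (le_top : W x ≤ ⊤) σ
    rw [← ha, Scheme.Modules.Hom.app_smul] at h2
    exact h2.symm
  have hau : IsUnit a := by
    have h3 := hu.map (X.presheaf.map (homOfLE (le_top : W x ≤ ⊤)).op).hom
    rw [show (X.presheaf.map (homOfLE (le_top : W x ≤ ⊤)).op).hom (show Γ(X, ⊤) from t.app ⊤ σ) = _ from h1] at h3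
    exact isUnit_of_mul_isUnit_left h3
  rw [← ha]
  exact (he x).smul_unit hau

/-- An invertible module with a section and a cosection on an integral scheme whose functions form
a field is trivial. -/
theorem nonempty_iso_of_sec_cosec [IsIntegral X] (hfield : IsField (Γ(X, ⊤) : Type u)) {L : X.Modules}
    (hL : PicF.IsInvertible L) (σ : Γ(L, ⊤)) (hσ : σ ≠ 0) (t : L ⟶ Coh.structureModule X) (ht : t ≠ 0) :
    Nonempty (L ≅ Coh.structureModule X) := by
  refine nonempty_iso_of_pairing hL σ t ?_
  letI := hfield.toField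
  exact isUnit_iff_ne_zero.2 (pairing_ne_zero hL σ hσ t ht)

end Groth.L08.Cube

namespace Groth.L08.Cube

open Groth.L18.Frame (rs)

/-- A non-zero map out of the structure sheaf has non-zero section. -/
theorem secOf_ne_zero {X : Scheme.{u}} {L : X.Modules} {s : Coh.structureModule X ⟶ L} (hs : s ≠ 0) :
    Groth.L18.GenLoc.secOf s ≠ 0 := by
  intro h
  refine hs (Scheme.Modules.hom_ext _ _ fun V => ?_)
  ext r
  rw [Groth.L18.GenLoc.app_eq s V r, h, rs, map_zero, smul_zero]
  rfl

end Groth.L08.Cube
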