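import Groth.Agent.L08.Cube.Seesaw
import Groth.Agent.L08.Cube.SecCosec
import Groth.Agent.L29.DCoh.PullTensor
import Groth.Agent.L08.Cube.Semicont
import Groth.Agent.L21.RR.Sections
import Groth.Agent.L19.InvOfTensor
import Mathlib.AlgebraicGeometry.Morphisms.Proper

/-!
# Triviality on fibres spreads from a dense set of fibres
-/

set_option autoImplicit false
set_option linter.style.haveILetI false
set_option linter.unusedSectionVars false
set_option backward.isDefEq.respectTransparency false

universe u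

open CategoryTheory CategoryTheory.Limits AlgebraicGeometry TopologicalSpace Opposite

noncomputable section

namespace Groth.L08.Cube

open Groth.L18.Frame (rs ro rs_rs rs_self rs_smul ro_ro ro_self ro_mul IsFrame)
open Groth.L18.GenLoc (tens tens_rs tens_smul_left tens_smul_right isFrame_tens)

section Cosection

variable {X : Scheme.{u}} {L N : X.Modules} (ε : CohB1.tensorMod L N ≅ Coh.structureModule X)

/-- Pairing with a section of the inverse. -/
def cosec (τ : Γ(N, ⊤)) : L ⟶ Coh.structureModule X :=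
  ⟨PresheafOfModules.homMk
    { app := fun V => AddCommGrpCat.ofHom
        (AddMonoidHom.mk' (fun (m : Γ(L, V.unop)) =>
          (show Γ(Coh.structureModule X, V.unop) from Groth.L19.InvOfTensor.pair ε m (rs N le_top τ))) fun m m' =>
            Groth.L19.InvOfTensor.pair_add_left ε m m' _)
      naturality := fun {V₁ V₂} i => by
        ext m
        show Groth.L19.InvOfTensor.pair ε (rs L i.unop.le m) (rs N le_top τ) =
          ro i.unop.le (Groth.L19.InvOfTensor.pair ε m (rs N le_top τ))
        rw [← Groth.L19.InvOfTensor.pair_rs, rs_rs] }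
    (fun V r m => Groth.L19.InvOfTensor.pair_smul_left ε r m _)⟩

theorem cosec_app (τ : Γ(N, ⊤)) (V : X.Opens) (m : Γ(L, V)) :
    (cosec ε τ).app V m = ε.hom.app V (tens L N V m (rs N le_top τ)) := rfl

include ε in
theorem exists_cosec (hL : PicF.IsInvertible L) (hN : PicF.IsInvertible N) {τ : Γ(N, ⊤)} (hτ : τ ≠ 0) :
    ∃ t : L ⟶ Coh.structureModule X, t ≠ 0 := by
  refine ⟨cosec ε τ, fun h => hτ ?_⟩
  choose W e hW he using fun x : X => Groth.L18.Frame.exists_frame hL x
  choose W' d hW' hd using fun x : X => Groth.L18.Frame.exists_frame hN x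
  let OM : TopCat.Sheaf Ab.{u} X.toTopCat := ⟨N.presheaf, N.isSheaf⟩
  refine OM.eq_of_locally_eq' (fun x : X => W x ⊓ W' x) ⊤ (fun x => homOfLE le_top)
    (fun x _ => Opens.mem_iSup.2 ⟨x, hW x, hW' x⟩) τ 0 fun x => ?_
  have hd' := (hd x).mono (inf_le_right : W x ⊓ W' x ≤ W' x)
  have he' := (he x).mono (inf_le_left : W x ⊓ W' x ≤ W x)
  obtain ⟨b, hb⟩ := hd'.exists_coeff le_rfl (rs N le_top τ)
  rw [rs_self] at hb
  have hu := isUnit_of_isFrame_structure (Groth.L19.ProjBdl.isFrame_of_iso ε (isFrame_tens he' hd'))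
  have h1 : b * (show Γ(X, W x ⊓ W' x) from ε.hom.app _ (tens L N _ (rs L (inf_le_left : W x ⊓ W' x ≤ W x) (e x)) (rs N (inf_le_right : W x ⊓ W' x ≤ W' x) (d x)))) = 0 := by
    have h2 := cosec_app ε τ _ (rs L (inf_le_left : W x ⊓ W' x ≤ W x) (e x))
    rw [h, ← hb, tens_smul_right, Scheme.Modules.Hom.app_smul] at h2
    exact h2.symm
  rw [hu.mul_left_eq_zero] at h1
  show rs N le_top τ = rs N le_top 0
  rw [← hb, h1, zero_smul]
  exact (map_zero _).symm

end Cosection

variable {P B : Scheme.{u}} (f : P ⟶ B) [IsProper f] [Flat f] [LocallyOfFinitePresentation f]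
  [GeometricallyIntegral f]

/-- A trivial fibre has one dimensional sections. -/
theorem fiberRank_of_trivial (L : P.Modules) (w : B)
    (θ : CohIII.fiberMod f L w ≅ Coh.structureModule (f.fiber w)) : CohIII.fiberRank f L 0 w = 1 := by
  let q : f.fiber w ⟶ Spec (CommRingCat.of (B.residueField w)) := f.fiberToSpecResidueField w
  haveI : UniversallyClosed q := MorphismProperty.of_isPullback (IsPullback.of_hasPullback f (B.fromSpecResidueField w)) (inferInstance : UniversallyClosed f)
  haveI : QuasiSeparated q := MorphismProperty.of_isPullback (IsPullback.of_hasPullback f (B.fromSpecResidueField w)) (inferInstance : QuasiSeparated f)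
  haveI : GeometricallyIntegral q := MorphismProperty.of_isPullback (IsPullback.of_hasPullback f (B.fromSpecResidueField w)) ‹GeometricallyIntegral f›
  exact finrank_HH_zero_of_iso q (bijective_toGlobal_of_geometric q) θ

theorem exists_ne_zero_of_fiberRank (L : P.Modules) (w : B) (h : ¬ CohIII.fiberRank f L 0 w < 1) :
    ∃ σ : Γ(CohIII.fiberMod f L w, ⊤), σ ≠ 0 := by
  haveI : Nontrivial (CohIII.fiberH f L w 0) :=
    Module.nontrivial_of_finrank_pos (R := B.residueField w) (Nat.pos_of_ne_zero fun h0 => h (by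
      show CohIII.fiberRank f L 0 w < 1
      rw [show CohIII.fiberRank f L 0 w = 0 from h0]; exact Nat.one_pos))
  obtain ⟨x, hx⟩ := exists_ne (0 : CohIII.fiberH f L w 0)
  exact ⟨Groth.L21.RR.e0 _ x, fun h' => hx ((Groth.L21.RR.e0 _).injective (h'.trans (map_zero _).symm))⟩

/-- If the fibres over a dense set are trivial then so are all fibres. -/
theorem trivial_on_fibres_of_dense [IsLocallyNoetherian B] (L : P.Modules) (hL : PicF.IsInvertible L) {S : Set B} (hS : Dense S)
    (htriv : ∀ w ∈ S, Nonempty (CohIII.fiberMod f L w ≅ Coh.structureModule (f.fiber w))) (w : B) :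
    Nonempty (CohIII.fiberMod f L w ≅ Coh.structureModule (f.fiber w)) := by
  obtain ⟨N, hN, ⟨ε⟩⟩ := exists_inverse hL
  have hflat : ∀ {M : P.Modules}, PicF.IsInvertible M → FlatMod.IsFlatOver f M := fun hM =>
    Groth.L29.DC.RelTor.isFlatOver_of_isFlat f (Groth.L21.RR.isFlat_of_isInvertible hM)
  haveI := Groth.L21.Extend.isQCoh_of_isInvertible hL
  haveI := Groth.L21.Extend.isQCoh_of_isInvertible hN
  let εw : ∀ w : B, CohB1.tensorMod (CohIII.fiberMod f L w) (CohIII.fiberMod f N w) ≅ Coh.structureModule (f.fiber w) :=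
    fun w => Groth.L29.DC.PullTensor.pullTensor (f.fiberι w) L N ≪≫ (Scheme.Modules.pullback (f.fiberι w)).mapIso ε ≪≫
      Groth.L29.LocFree.pullbackUnitIso (f.fiberι w)
  have hN' : ∀ w ∈ S, Nonempty (CohIII.fiberMod f N w ≅ Coh.structureModule (f.fiber w)) := fun w hw => by
    obtain ⟨e⟩ := htriv w hw
    exact ⟨(Groth.L00.Tensor.tensorUnitLeft _).symm ≪≫ Groth.L00.Tensor.tensorIso e.symm (Iso.refl _) ≪≫ εw w⟩
  have key : ∀ (M : P.Modules), PicF.IsInvertible M → (∀ w ∈ S, Nonempty (CohIII.fiberMod f M w ≅ Coh.structureModule (f.fiber w))) →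
      ∃ σ : Γ(CohIII.fiberMod f M w, ⊤), σ ≠ 0 := fun M hM hMS => by
    haveI := Groth.L21.Extend.isQCoh_of_isInvertible hM
    refine exists_ne_zero_of_fiberRank f M w ?_
    have hcl : IsClosed {w : B | ¬ CohIII.fiberRank f M 0 w < 1} :=
      isClosed_not_fiberRank_lt f M (Groth.L18.Ample.isCoh_of_isInvertible hM) (hflat hM) 0 1
    refine hcl.closure_subset_iff.2 (fun v hv => ?_) (hS w)
    obtain ⟨e⟩ := hMS v hv
    show ¬ CohIII.fiberRank f M 0 v < 1
    rw [fiberRank_of_trivial f M v e]
    exact lt_irrefl 1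
  obtain ⟨σ, hσ⟩ := key L hL htriv
  obtain ⟨τ, hτ⟩ := key N hN hN'
  have hLw := Groth.L18.Ample.isInvertible_pullback (f.fiberι w) hL
  obtain ⟨t, ht⟩ := exists_cosec (εw w) hLw (Groth.L18.Ample.isInvertible_pullback (f.fiberι w) hN) hτ
  let q : f.fiber w ⟶ Spec (CommRingCat.of (B.residueField w)) := f.fiberToSpecResidueField w
  haveI : UniversallyClosed q := MorphismProperty.of_isPullback (IsPullback.of_hasPullback f (B.fromSpecResidueField w)) (inferInstance : UniversallyClosed f)
  exact nonempty_iso_of_sec_cosec (isField_of_universallyClosed (B.residueField w) q) hLw σ hσ t ht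

end Groth.L08.Cube
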