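import Groth.Agent.L08.Cube.LocalTriv
import Groth.Agent.L08.Cube.FibreFun
import Groth.Agent.L08.Cube.Inverse
import Groth.Agent.L17.BC.Criteria
import Groth.Agent.L17.BC.Fibre
import Groth.Agent.L18.AmpleLocal
import Mathlib.RingTheory.Flat.EquationalCriterion
import Mathlib.AlgebraicGeometry.ResidueField

/-!
# An invertible module trivial on all fibres and along a section is trivial
-/

set_option autoImplicit false
set_option linter.style.haveILetI false
set_option linter.unusedSectionVars false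
set_option backward.isDefEq.respectTransparency false

universe u

open CategoryTheory CategoryTheory.Limits AlgebraicGeometry TopologicalSpace Opposite

noncomputable section

namespace Groth.L08.Cube

open Groth.L17.BC (C K dL Idx Ub Sec compat_of_isPullback)
open Groth.L18.Frame (rs ro rs_rs rs_self rs_smul ro_ro ro_self ro_mul IsFrame pull)

/-- With a flat cokernel a boundary divisible by an ideal is the boundary of a divisible element. -/
theorem exists_mem_smul_of_flat_coker {A : Type u} [CommRing A] {L₀ L₁ : Type u} [AddCommGroup L₀]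
    [Module A L₀] [AddCommGroup L₁] [Module A L₁] (d : L₀ →ₗ[A] L₁) [Module.Flat A (L₁ ⧸ LinearMap.range d)]
    (I : Ideal A) (l : L₀) (h : d l ∈ I • (⊤ : Submodule A L₁)) :
    ∃ e ∈ I • (⊤ : Submodule A L₀), d e = d l := by
  classical
  rw [← Submodule.span_univ, ← Set.range_id] at h
  obtain ⟨a, ha, hsum⟩ := (Submodule.mem_ideal_smul_span_iff_exists_sum I id (d l)).1 h
  let π := (LinearMap.range d).mkQ
  let eqv := a.support.equivFin
  let v : Fin a.support.card → A := fun i => a (eqv.symm i : L₁)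
  let w : Fin a.support.card → L₁ := fun i => (eqv.symm i : L₁)
  have hvw : ∑ i, v i • w i = d l := by
    rw [← hsum, Finsupp.sum, ← Finset.sum_coe_sort a.support]
    exact Fintype.sum_equiv eqv.symm _ _ (fun i => rfl)
  have h0 : ∑ i, v i • π (w i) = 0 := by
    simp only [← map_smul, ← map_sum, hvw]
    exact (Submodule.Quotient.mk_eq_zero _).2 ⟨l, rfl⟩
  obtain ⟨r, b, y, hby, hb⟩ := (Module.Flat.iff_forall_isTrivialRelation.1 inferInstance) h0
  choose c hc using fun j => Submodule.mkQ_surjective (LinearMap.range d) (y j)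
  have hρ : ∀ i, w i - ∑ j, b i j • c j ∈ LinearMap.range d := fun i => by
    refine (Submodule.Quotient.mk_eq_zero _).1 ?_
    show π (w i - ∑ j, b i j • c j) = 0
    rw [map_sub, map_sum]
    simp only [map_smul, π, hc]
    rw [← hby i]
    exact sub_self _
  choose e he using hρ
  refine ⟨∑ i, v i • e i, Submodule.sum_mem _ fun i _ => Submodule.smul_mem_smul (ha _) trivial, ?_⟩
  rw [map_sum, ← hvw]
  simp only [map_smul, he, smul_sub, Finset.sum_sub_distrib, Finset.smul_sum, smul_smul]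
  rw [Finset.sum_comm (f := fun i j => (v i * b i j) • c j)]
  simp only [← Finset.sum_smul, hb, zero_smul, Finset.sum_const_zero, sub_zero]

section Closed

variable {A k : Type u} [CommRing A] [IsNoetherianRing A] [IsReduced A] [Field k] [Algebra A k]
  {P P₀ : Scheme.{u}}

/-- Over a reduced base, a module trivial on all fibres with constant functions is trivial near a
closed fibre. -/
theorem exists_frame_near_closed_fibre (fP : P ⟶ Spec (CommRingCat.of A)) [IsProper fP] [Flat fP]
    (hk : Function.Surjective (algebraMap A k)) {g₀ : P₀ ⟶ P} {f₀ : P₀ ⟶ Spec (CommRingCat.of k)}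
    (sq₀ : IsPullback g₀ f₀ fP (Spec.map (CommRingCat.ofHom (algebraMap A k))))
    (L : P.Modules) (hL : PicF.IsInvertible L)
    (θ : (Scheme.Modules.pullback g₀).obj L ≅ Coh.structureModule P₀)
    (hfib : ∀ (K : Type u) [Field K] [Algebra A K] (X' : Scheme.{u}) (g : X' ⟶ P) (f' : X' ⟶ Spec (CommRingCat.of K)),
      IsPullback g f' fP (Spec.map (CommRingCat.ofHom (algebraMap A K))) →
        Nonempty X' ∧ Function.Bijective (Coh.toGlobal f') ∧
          Nonempty ((Scheme.Modules.pullback g).obj L ≅ Coh.structureModule X')) :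
    ∃ (σ : Γ(L, ⊤)) (O : P.Opens), (∀ y : P₀, g₀ y ∈ O) ∧ IsFrame L O (rs L le_top σ) := by
  haveI := Groth.L21.Extend.isQCoh_of_isInvertible hL
  obtain ⟨m⟩ := Groth.L17.BC.nonempty_model fP L (Groth.L18.Ample.isCoh_of_isInvertible hL) (flat_sections fP hL)
  haveI := m.finite
  haveI := fun i => (m.finiteFree i).1
  have hLf : ∀ i, Module.Finite A (m.L.X i) ∧ Module.Flat A (m.L.X i) := fun i => ⟨inferInstance, m.flat_X i⟩
  have hrank : CohIII.dRank m.L (0 : ℤ) = fun _ => 1 := by
    funext x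
    let K := x.asIdeal.ResidueField
    let g := pullback.fst fP (Spec.map (CommRingCat.ofHom (algebraMap A K)))
    let f' : pullback fP (Spec.map (CommRingCat.ofHom (algebraMap A K))) ⟶ Spec (CommRingCat.of K) := pullback.snd _ _
    have sq : IsPullback g f' fP (Spec.map (CommRingCat.ofHom (algebraMap A K))) := IsPullback.of_hasPullback _ _
    obtain ⟨hne, hb, ⟨e⟩⟩ := hfib K _ g f' sq
    have h1 := m.finrank_eq_dRank f' g sq 0
    rw [finrank_HH_zero_of_iso f' hb e] at h1
    have hx : PrimeSpectrum.comap (algebraMap A K) ⊥ = x := by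
      apply PrimeSpectrum.ext
      show Ideal.comap (algebraMap A K) (⊥ : PrimeSpectrum K).asIdeal = x.asIdeal
      rw [show (⊥ : PrimeSpectrum K).asIdeal = ⊥ from rfl, ← RingHom.ker_eq_comap_bot,
        Ideal.ker_algebraMap_residueField]
    rw [hx] at h1
    exact_mod_cast h1.symm
  haveI : Module.Flat A ((m.L.X (0 + 1) : Type u) ⧸ LinearMap.range (m.L.d 0 (0 + 1)).hom) := by
    have hfree : ∀ x, Groth.L17.BC.Crit.FreeC m.L 0 x := fun x => by
      have h := (Groth.L17.BC.Crit.freeC_of_isLocallyConstant m.L hLf (j := 0 - 1)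
        (by rw [sub_add_cancel, hrank]; exact IsLocallyConstant.const 1) x).2
      rwa [sub_add_cancel] at h
    haveI : Module.FinitePresentation A (Groth.L01.FlatCx.Coker m.L 0 (0 + 1)) :=
      Module.finitePresentation_of_finite A _
    haveI : Module.Projective A (Groth.L01.FlatCx.Coker m.L 0 (0 + 1)) :=
      Module.freeLocus_eq_univ_iff.1 (Set.eq_univ_of_forall hfree)
    exact (inferInstance : Module.Flat A (Groth.L01.FlatCx.Coker m.L 0 (0 + 1)))
  let I := RingHom.ker (algebraMap A k)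
  let t₀ := Triv.ofIso g₀ L θ
  have hcm := compat_of_isPullback fP f₀ g₀ sq₀
  obtain ⟨c₁, hc₁⟩ := EC_surjective m.U sq₀ hk m.affine θ 0 (oneC (Coh.toGlobal f₀) (Ub g₀ m.U))
  have hdc₁ : dL (Coh.toGlobal fP) L m.U 0 c₁ ∈ I • (⊤ : Submodule A (C (Coh.toGlobal fP) L m.U (0 + 1))) := by
    refine mem_smul_of_EC_eq_zero m.U sq₀ hk m.affine hL θ t₀ (0 + 1) _ ?_
    rw [EC_d, hc₁, dL_oneC]
  obtain ⟨l, hl, hlc⟩ := exists_preimage_mod m.φ m.quasiIso
    (Groth.L17.BC.subsingleton_C (Coh.toGlobal fP) L m.U (by norm_num)) I c₁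
    (by rw [Groth.L17.BC.K_d]; exact hdc₁)
  obtain ⟨e, he, hde⟩ := exists_mem_smul_of_flat_coker (m.L.d 0 (0 + 1)).hom I l hl
  have hx := d_map_eq_zero m.φ (l := l - e) (by rw [map_sub, hde, sub_self])
  rw [Groth.L17.BC.K_d] at hx
  refine exists_frame_of_unit_cycle m.U hL t₀ (Coh.toGlobal fP) (Coh.toGlobal f₀) m.cover _ hx ?_
  rw [← hc₁, ← sub_eq_zero, ← map_sub]
  refine EC_eq_zero_of_mem _ hcm m.U _ _ ?_
  have h2 := Submodule.sub_mem _ hlc (map_mem I (m.φ.f 0).hom he)
  rwa [map_sub, sub_right_comm]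

end Closed

variable {X B : Scheme.{u}}

/-- A trivialisation on a fibre gives one on every field valued point over that point. -/
theorem nonempty_iso_fieldPoint (f : X ⟶ B) {K : Type u} [Field K] (s : Spec (CommRingCat.of K) ⟶ B)
    {T : Scheme.{u}} (h : T ⟶ X) (t : T ⟶ Spec (CommRingCat.of K)) (w : h ≫ f = t ≫ s) (L : X.Modules)
    (htriv : ∀ b : B, Nonempty ((Scheme.Modules.pullback (f.fiberι b)).obj L ≅ Coh.structureModule (f.fiber b))) :
    Nonempty ((Scheme.Modules.pullback h).obj L ≅ Coh.structureModule T) := by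
  let b := s (IsLocalRing.closedPoint K)
  let φ := B.descResidueField (Scheme.stalkClosedPointTo s)
  have hs : Spec.map φ ≫ B.fromSpecResidueField b = s :=
    Scheme.descResidueField_stalkClosedPointTo_fromSpecResidueField K B s
  let T' : T ⟶ f.fiber b := pullback.lift h (t ≫ Spec.map φ) (by rw [Category.assoc, hs, w])
  have hT : T' ≫ f.fiberι b = h := pullback.lift_fst _ _ _
  obtain ⟨e⟩ := htriv b
  exact ⟨((Scheme.Modules.pullbackCongr hT).app L).symm ≪≫
    ((Scheme.Modules.pullbackComp T' (f.fiberι b)).app L).symm ≪≫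
    (Scheme.Modules.pullback T').mapIso e ≪≫ Groth.L29.LocFree.pullbackUnitIso T'⟩

variable (f : X ⟶ B) [IsProper f] [Flat f] [GeometricallyConnected f] [GeometricallyReduced f]

/-- Near any point of a reduced base there is a frame over the preimage of a neighbourhood. -/
theorem exists_frame_over_nhd [IsLocallyNoetherian B] [IsReduced B] [Surjective f] (L : X.Modules)
    (hL : PicF.IsInvertible L)
    (htriv : ∀ b : B, Nonempty ((Scheme.Modules.pullback (f.fiberι b)).obj L ≅ Coh.structureModule (f.fiber b)))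
    (b : B) : ∃ (U : B.Opens) (σ : Γ(L, f ⁻¹ᵁ U)), b ∈ U ∧ IsFrame L (f ⁻¹ᵁ U) σ := by
  obtain ⟨_, ⟨V, hV, rfl⟩, hbV, -⟩ :=
    B.isBasis_affineOpens.exists_subset_of_mem_open (Set.mem_univ b) isOpen_univ
  haveI : IsNoetherianRing Γ(B, V) := IsLocallyNoetherian.component_noetherian ⟨V, hV⟩
  let x := hV.primeIdealOf ⟨b, hbV⟩
  obtain ⟨I, hI, hxI⟩ := Ideal.exists_le_maximal x.asIdeal x.2.ne_top
  let A := Γ(B, V)
  letI : Field (A ⧸ I) := Ideal.Quotient.field I
  let PV : Scheme.{u} := f ⁻¹ᵁ V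
  let j : PV ⟶ X := (f ⁻¹ᵁ V).ι
  let fP : PV ⟶ Spec (CommRingCat.of A) := Groth.L17.BC.fV f hV
  have hj : IsPullback j fP f hV.fromSpec :=
    (isPullback_morphismRestrict f V).flip.of_iso (Iso.refl _) (Iso.refl _) hV.isoSpec (Iso.refl _)
      (by simp [j]) (by simp [fP, Groth.L17.BC.fV]) (by simp) (by simp [IsAffineOpen.isoSpec_hom_fromSpec])
  haveI : IsProper fP := inferInstanceAs (IsProper (Groth.L17.BC.fV f hV))
  haveI : Flat fP := MorphismProperty.of_isPullback hj ‹Flat f›
  let M := (Scheme.Modules.pullback j).obj L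
  have hM : PicF.IsInvertible M := Groth.L18.Ample.isInvertible_pullback j hL
  let sK : Spec (CommRingCat.of (A ⧸ I)) ⟶ Spec (CommRingCat.of A) := Spec.map (CommRingCat.ofHom (algebraMap A (A ⧸ I)))
  have hfib : ∀ (K : Type u) [Field K] [Algebra A K] (X' : Scheme.{u}) (g : X' ⟶ PV) (f' : X' ⟶ Spec (CommRingCat.of K)),
      IsPullback g f' fP (Spec.map (CommRingCat.ofHom (algebraMap A K))) →
        Nonempty X' ∧ Function.Bijective (Coh.toGlobal f') ∧
          Nonempty ((Scheme.Modules.pullback g).obj M ≅ Coh.structureModule X') := by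
    intro K _ _ X' g f' sq
    have big : IsPullback (g ≫ j) f' f (Spec.map (CommRingCat.ofHom (algebraMap A K)) ≫ hV.fromSpec) :=
      sq.paste_horiz hj
    haveI : Surjective f' := MorphismProperty.of_isPullback big ‹Surjective f›
    haveI : UniversallyClosed f' := MorphismProperty.of_isPullback big (inferInstance : UniversallyClosed f)
    haveI : QuasiSeparated f' := MorphismProperty.of_isPullback big (inferInstance : QuasiSeparated f)
    haveI : GeometricallyConnected f' := MorphismProperty.of_isPullback big ‹GeometricallyConnected f›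
    haveI : GeometricallyReduced f' := MorphismProperty.of_isPullback big ‹GeometricallyReduced f›
    haveI : Nonempty X' := ⟨(f'.surjective default).choose⟩
    refine ⟨inferInstance, bijective_toGlobal_of_geometric f', ?_⟩
    obtain ⟨e⟩ := nonempty_iso_fieldPoint f _ (g ≫ j) f' big.w L htriv
    exact ⟨(Scheme.Modules.pullbackComp g j).app L ≪≫ e⟩
  let P₀ := pullback fP sK
  obtain ⟨-, -, ⟨θ⟩⟩ := hfib (A ⧸ I) P₀ (pullback.fst fP sK) (pullback.snd fP sK) (IsPullback.of_hasPullback _ _)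
  haveI : IsReduced A := IsReduced.component_reduced V
  obtain ⟨σ, O, hO, hσ⟩ := exists_frame_near_closed_fibre fP Ideal.Quotient.mk_surjective
    (IsPullback.of_hasPullback fP sK) M hM θ hfib
  -- the open of the base over which the frame lives
  let O' : X.Opens := j ''ᵁ O
  let Z : Set B := f '' (O' : Set X)ᶜ
  have hZ : IsClosed Z := f.isClosedMap _ O'.2.isClosed_compl
  let xI : PrimeSpectrum A := ⟨I, hI.isPrime⟩
  let bI := hV.fromSpec xI
  have hbI : bI ∉ Z := by
    rintro ⟨y, hy, hyb⟩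
    obtain ⟨y', rfl, hy'⟩ : ∃ y' : PV, j y' = y ∧ fP y' = xI := by
      have hyV : y ∈ f ⁻¹ᵁ V := by
        show f y ∈ V
        rw [hyb]
        exact hV.range_fromSpec.le (Set.mem_range_self xI)
      refine ⟨⟨y, hyV⟩, rfl, hV.fromSpec.isOpenEmbedding.injective ?_⟩
      exact (congr(($(hj.w) : _ ⟶ B) ⟨y, hyV⟩)).symm.trans hyb
    refine hy ⟨y', ?_, rfl⟩
    have hr : y' ∈ Set.range (pullback.fst fP sK) := by
      rw [Scheme.Pullback.range_fst]
      refine ⟨default, ?_⟩
      rw [hy']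
      apply PrimeSpectrum.ext
      have : ∀ q : PrimeSpectrum (A ⧸ I), Ideal.comap (algebraMap A (A ⧸ I)) q.asIdeal = I := fun q => by
        rw [Subsingleton.elim q ⊥]
        exact Ideal.mk_ker
      exact this _
    obtain ⟨y₀, rfl⟩ := hr
    exact hO y₀
  let U : B.Opens := ⟨Zᶜ, hZ.isOpen_compl⟩
  have hsp : b ⤳ bI := by
    have := ((PrimeSpectrum.le_iff_specializes x xI).1 hxI).map hV.fromSpec.continuous
    rwa [hV.fromSpec_primeIdealOf ⟨b, hbV⟩] at this
  refine ⟨U, ?_⟩
  have hbU : b ∈ U := hsp.mem_open U.2 hbI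
  have hUO : f ⁻¹ᵁ U ≤ O' := fun y hy => by
    by_contra hcon
    exact hy ⟨y, hcon, rfl⟩
  -- transport the frame to `X`
  let e₁ : M ≅ L.restrict j := ((Scheme.Modules.restrictFunctorIsoPullback j).app L).symm
  have hσ' : IsFrame (L.restrict j) O (e₁.hom.app O (rs M le_top σ)) := Groth.L19.ProjBdl.isFrame_of_iso e₁ hσ
  let τ : Γ(L, O') := e₁.hom.app O (rs M le_top σ)
  have hτ : IsFrame L O' τ := (Groth.L18.Ample.isFrame_restrict_iff L (f ⁻¹ᵁ V) O _).1 hσ'
  exact ⟨rs L hUO τ, hbU, hτ.mono hUO⟩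

end Groth.L08.Cube

namespace Groth.L08.Cube

open Groth.L18.Frame (rs ro rs_rs rs_self rs_smul ro_ro ro_self ro_mul IsFrame)

variable {X B : Scheme.{u}} (f : X ⟶ B) [IsProper f] [Flat f] [GeometricallyConnected f] [GeometricallyReduced f]
  [IsLocallyNoetherian B] [IsReduced B]

/-- A function over an open of a reduced base is determined by its restriction to a section. -/
theorem eq_zero_of_section_eq_zero (x₀ : B ⟶ X) (hx₀ : x₀ ≫ f = 𝟙 B) {U : B.Opens} {W : X.Opens}
    (hW : W = f ⁻¹ᵁ U) (a : Γ(X, W)) (ha : x₀.app W a = 0) : a = 0 := by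
  haveI : IsReduced X := GeometricallyReduced.isReduced_of_flat_of_isLocallyNoetherian f
  rw [← basicOpen_eq_bot_iff]
  refine le_bot_iff.1 fun y hy => ?_
  have hyW : y ∈ W := X.basicOpen_le a hy
  let w := f y
  let g := f.fiberι w
  have hg : ⊤ ≤ g ⁻¹ᵁ W := fun z _ => by
    have h1 : f (g z) = w := by
      have : g z ∈ Set.range g := ⟨z, rfl⟩
      rwa [Scheme.Hom.range_fiberι] at this
    show g z ∈ W
    rw [hW]
    show f (g z) ∈ U
    rw [h1]
    rw [hW] at hyW
    exact hyW
  let c := g.appLE W ⊤ hg a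
  let sw : Spec (B.residueField w) ⟶ f.fiber w :=
    pullback.lift (B.fromSpecResidueField w ≫ x₀) (𝟙 _) (by rw [Category.assoc, hx₀, Category.comp_id, Category.id_comp])
  haveI : Nonempty (f.fiber w) := ⟨sw default⟩
  let q : f.fiber w ⟶ Spec (CommRingCat.of (B.residueField w)) := f.fiberToSpecResidueField w
  haveI : UniversallyClosed q := MorphismProperty.of_isPullback (IsPullback.of_hasPullback f (B.fromSpecResidueField w)) (inferInstance : UniversallyClosed f)
  haveI : QuasiSeparated q := MorphismProperty.of_isPullback (IsPullback.of_hasPullback f (B.fromSpecResidueField w)) (inferInstance : QuasiSeparated f)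
  haveI : GeometricallyConnected q := MorphismProperty.of_isPullback (IsPullback.of_hasPullback f (B.fromSpecResidueField w)) ‹GeometricallyConnected f›
  haveI : GeometricallyReduced q := MorphismProperty.of_isPullback (IsPullback.of_hasPullback f (B.fromSpecResidueField w)) ‹GeometricallyReduced f›
  obtain ⟨e, he⟩ := (bijective_toGlobal_of_geometric q).surjective c
  have hs0 : sw.appLE ⊤ ⊤ le_top c = 0 := by
    have hsg : sw ≫ g = B.fromSpecResidueField w ≫ x₀ := pullback.lift_fst _ _ _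
    have hle : ⊤ ≤ (B.fromSpecResidueField w ≫ x₀) ⁻¹ᵁ W := by
      rw [← hsg, Scheme.Hom.comp_preimage]
      exact fun z _ => hg trivial
    show (g.appLE W ⊤ hg ≫ sw.appLE ⊤ ⊤ le_top) a = 0
    rw [Scheme.Hom.appLE_comp_appLE,
      show (sw ≫ g).appLE W ⊤ _ = (B.fromSpecResidueField w ≫ x₀).appLE W ⊤ hle from by congr 1]
    show ((B.fromSpecResidueField w ≫ x₀).app W ≫ _) a = 0
    rw [Scheme.Hom.comp_app]
    show _ = (0 : Γ(Spec (B.residueField w), ⊤))
    simp [ha]
  have he0 : e = 0 := by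
    have hsq : sw ≫ q = 𝟙 _ := pullback.lift_snd _ _ _
    rw [← he] at hs0
    have h1 : sw.appTop (Coh.toGlobal q e) = 0 := by
      have : sw.appLE ⊤ ⊤ le_top = sw.appTop := sw.app_eq_appLE.symm
      rwa [this] at hs0
    rw [appTop_toGlobal, hsq] at h1
    have h2 : Coh.toGlobal (𝟙 (Spec (CommRingCat.of (B.residueField w)))) e =
        (Scheme.ΓSpecIso (CommRingCat.of (B.residueField w))).inv e := by
      show (Scheme.Hom.appTop (𝟙 (Spec (CommRingCat.of (B.residueField w))))) _ = _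
      rw [Scheme.Hom.id_appTop]
      rfl
    exact (ConcreteCategory.bijective_of_isIso (Scheme.ΓSpecIso (CommRingCat.of (B.residueField w))).inv).1
      ((h2.symm.trans h1).trans (map_zero _).symm)
  obtain ⟨y', hy'⟩ : y ∈ Set.range g := by
    rw [Scheme.Hom.range_fiberι]
    rfl
  have hc : c = 0 := by rw [← he, he0, map_zero]
  have h3 : (f.fiber w).basicOpen c = ⊥ := by rw [hc, Scheme.basicOpen_zero]
  have h4 : y' ∈ (f.fiber w).basicOpen c := by
    show y' ∈ (f.fiber w).basicOpen (ro hg (g.app W a))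
    rw [Scheme.basicOpen_res, ← Scheme.preimage_basicOpen]
    exact ⟨trivial, show g y' ∈ X.basicOpen a from hy' ▸ hy⟩
  rw [h3] at h4
  exact h4

/-- An invertible module trivial on every fibre and along a section, over a reduced base, is
trivial. -/
theorem nonempty_iso_of_trivial_on_fibres (x₀ : B ⟶ X) (hx₀ : x₀ ≫ f = 𝟙 B) (L : X.Modules)
    (hL : PicF.IsInvertible L)
    (htriv : ∀ b : B, Nonempty ((Scheme.Modules.pullback (f.fiberι b)).obj L ≅ Coh.structureModule (f.fiber b)))
    (θ : (Scheme.Modules.pullback x₀).obj L ≅ Coh.structureModule B) :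
    Nonempty (L ≅ Coh.structureModule X) := by
  haveI : Surjective f := ⟨fun b => ⟨x₀ b, congr(($hx₀ : B ⟶ B) b)⟩⟩
  choose U σ hbU hσ using exists_frame_over_nhd f L hL htriv
  let t := Triv.ofIso x₀ L θ
  have hU : ∀ b, f ⁻¹ᵁ U b ≤ f ⁻¹ᵁ (x₀ ⁻¹ᵁ (f ⁻¹ᵁ U b)) := fun b => by
    rw [← Scheme.Hom.comp_preimage x₀ f, hx₀, Scheme.Hom.id_preimage]
  let w : ∀ b, Γ(X, f ⁻¹ᵁ U b) := fun b =>
    f.appLE (x₀ ⁻¹ᵁ (f ⁻¹ᵁ U b)) (f ⁻¹ᵁ U b) (hU b) ↑(t.unit _ _ (hσ b)).unit⁻¹
  have hw : ∀ b, t.E _ (w b • σ b) = 1 := fun b => by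
    rw [t.smul]
    have h1 : f.appLE (x₀ ⁻¹ᵁ (f ⁻¹ᵁ U b)) (f ⁻¹ᵁ U b) (hU b) ≫ x₀.app (f ⁻¹ᵁ U b) = 𝟙 _ := by
      rw [Scheme.Hom.app_eq_appLE, Scheme.Hom.appLE_comp_appLE]
      exact appLE_eq_id hx₀ _
    rw [show x₀.app (f ⁻¹ᵁ U b) (w b) = ↑(t.unit _ _ (hσ b)).unit⁻¹ from congr($h1 _)]
    exact IsUnit.val_inv_mul _
  have hσ' : ∀ b, IsFrame L (f ⁻¹ᵁ U b) (w b • σ b) := fun b =>
    (hσ b).smul_unit ((Units.isUnit _).map _)
  let OM : TopCat.Sheaf Ab.{u} X.toTopCat := ⟨L.presheaf, L.isSheaf⟩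
  obtain ⟨τ, hτ, -⟩ := OM.existsUnique_gluing' (fun b => f ⁻¹ᵁ U b) ⊤ (fun _ => homOfLE le_top)
    (fun x _ => Opens.mem_iSup.2 ⟨f x, hbU (f x)⟩) (fun b => w b • σ b) fun b b' => by
      show rs L inf_le_left (w b • σ b) = rs L inf_le_right (w b' • σ b')
      obtain ⟨a, ha⟩ := (hσ' b).exists_coeff (inf_le_left : f ⁻¹ᵁ U b ⊓ f ⁻¹ᵁ U b' ≤ _)
        (rs L inf_le_right (w b' • σ b'))
      have h := t.smul _ a (rs L inf_le_left (w b • σ b))
      rw [ha, t.nat, t.nat, hw, hw, ro, ro, map_one, map_one, mul_one] at h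
      have ha1 : a = 1 := sub_eq_zero.1 (eq_zero_of_section_eq_zero f x₀ hx₀ (U := U b ⊓ U b')
        (Scheme.Hom.preimage_inf f).symm (a - 1) (by rw [map_sub, map_one, ← h, sub_self]))
      rw [ha1, one_smul] at ha
      exact ha
  refine nonempty_iso_of_frame_top (σ := τ) (IsFrame.of_cover (fun b => f ⁻¹ᵁ U b) (fun _ => le_top)
    (fun x _ => Opens.mem_iSup.2 ⟨f x, hbU (f x)⟩) fun b => ?_)
  rw [show rs L le_top τ = w b • σ b from hτ b]
  exact hσ' b

end Groth.L08.Cube
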