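import Mathlib.RingTheory.Filtration
import Mathlib.RingTheory.Flat.Basic
import Mathlib.RingTheory.Ideal.Cotangent
import Mathlib.RingTheory.Ideal.Quotient.Operations
import Mathlib.LinearAlgebra.Basis.VectorSpace
import Mathlib.LinearAlgebra.TensorProduct.Quotient
import Mathlib.RingTheory.TensorProduct.Basic

/-!
# Lifting cycles to all orders along a maximal ideal

Linear algebra behind the deformation step in the theorem of the cube.
-/

set_option autoImplicit false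
set_option linter.style.haveILetI false
set_option linter.unusedSectionVars false

universe u

open TensorProduct

namespace Groth.L08.Cube

variable {R : Type u} [CommRing R]

/-- Cycles modulo a high power of an ideal are congruent to cycles. -/
theorem exists_cycle_sub_mem [IsNoetherianRing R] {L₀ L₁ : Type*} [AddCommGroup L₀] [Module R L₀]
    [AddCommGroup L₁] [Module R L₁] [Module.Finite R L₁] (d : L₀ →ₗ[R] L₁) (I : Ideal R) :
    ∃ n : ℕ, ∀ l : L₀, d l ∈ I ^ n • (⊤ : Submodule R L₁) →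
      ∃ l' : L₀, d l' = 0 ∧ l' - l ∈ I • (⊤ : Submodule R L₀) := by
  obtain ⟨k, hk⟩ := I.exists_pow_inf_eq_pow_smul (LinearMap.range d)
  refine ⟨k + 1, fun l hl => ?_⟩
  have h1 : d l ∈ I ^ (k + 1) • (⊤ : Submodule R L₁) ⊓ LinearMap.range d := ⟨hl, l, rfl⟩
  rw [hk (k + 1) (Nat.le_succ k), Nat.add_sub_cancel_left, pow_one] at h1
  have h2 : d l ∈ Submodule.map d (I • (⊤ : Submodule R L₀)) := by
    rw [Submodule.map_smul'', Submodule.map_top]
    exact Submodule.smul_mono le_rfl inf_le_right h1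
  obtain ⟨e, he, hde⟩ := h2
  refine ⟨l - e, by rw [map_sub, hde, sub_self], ?_⟩
  rw [sub_sub_cancel_left]
  exact Submodule.neg_mem _ he

section Coeff

variable (m : Ideal R) {J : Ideal R} {r : ℕ} (v : Fin r → R) (hv : ∀ i, v i ∈ J)

/-- In a flat module coefficients along a minimal system of generators are unique modulo the
maximal ideal. -/
theorem coeff_mem {M : Type*} [AddCommGroup M] [Module R M] [Module.Flat R M]
    (co : Fin r → (J →ₗ[R] R ⧸ m)) (hco : ∀ i j, co i ⟨v j, hv j⟩ = if i = j then 1 else 0)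
    (a : Fin r → M) (h : ∑ j, v j • a j ∈ (m * J) • (⊤ : Submodule R M)) (i : Fin r) :
    a i ∈ m • (⊤ : Submodule R M) := by
  let ev : J ⊗[R] M →ₗ[R] M := (TensorProduct.lid R M).toLinearMap ∘ₗ J.subtype.rTensor M
  have hev : Function.Injective ev :=
    (TensorProduct.lid R M).injective.comp
      (Module.Flat.rTensor_preserves_injective_linearMap J.subtype Subtype.val_injective)
  have hev' : ∀ (x : J) (y : M), ev (x ⊗ₜ y) = (x : R) • y := fun x y => by simp [ev]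
  obtain ⟨w, hw, hw0⟩ : ∃ w : J ⊗[R] M, ev w = ∑ j, v j • a j ∧ (co i).rTensor M w = 0 := by
    refine Submodule.smul_induction_on h (fun c hc y _ => ?_) ?_
    · refine Submodule.mul_induction_on hc (fun p hp q hq => ?_) ?_
      · refine ⟨(p • (⟨q, hq⟩ : J)) ⊗ₜ y, by rw [hev']; rfl, ?_⟩
        rw [LinearMap.rTensor_tmul, map_smul, Algebra.smul_def, Ideal.Quotient.algebraMap_eq,
          Ideal.Quotient.eq_zero_iff_mem.2 hp, zero_mul, zero_tmul]
      · rintro p q ⟨w₁, e₁, z₁⟩ ⟨w₂, e₂, z₂⟩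
        exact ⟨w₁ + w₂, by rw [map_add, e₁, e₂, add_smul], by rw [map_add, z₁, z₂, add_zero]⟩
    · rintro p q ⟨w₁, e₁, z₁⟩ ⟨w₂, e₂, z₂⟩
      exact ⟨w₁ + w₂, by rw [map_add, e₁, e₂], by rw [map_add, z₁, z₂, add_zero]⟩
  have hsum : ∑ j, (⟨v j, hv j⟩ : J) ⊗ₜ[R] a j = w := hev (by rw [hw, map_sum]; simp [hev'])
  have h1 : (1 : R ⧸ m) ⊗ₜ[R] a i = 0 := by
    rw [← hw0, ← hsum, map_sum]
    simp only [LinearMap.rTensor_tmul, hco]
    rw [Finset.sum_eq_single i]
    · simp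
    · intro j _ hj; simp [Ne.symm hj]
    · simp
  have h2 := congrArg (TensorProduct.quotTensorEquivQuotSMul M m) h1
  rw [map_zero, ← map_one (Ideal.Quotient.mk m),
    TensorProduct.quotTensorEquivQuotSMul_mk_tmul, one_smul] at h2
  exact (Submodule.Quotient.mk_eq_zero _).1 h2

end Coeff

/-- A system of elements of `m ^ n` inducing a basis of `m ^ n / m ^ (n+1)`. -/
theorem exists_frame_pow (m : Ideal R) [m.IsMaximal] [IsNoetherianRing R] (n : ℕ) :
    ∃ (r : ℕ) (v : Fin r → R) (hv : ∀ i, v i ∈ m ^ n)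
      (co : Fin r → ((m ^ n : Ideal R) →ₗ[R] R ⧸ m)),
      (∀ i j, co i ⟨v j, hv j⟩ = if i = j then 1 else 0) ∧
        m ^ n ≤ Ideal.span (Set.range v) ⊔ m ^ (n + 1) := by
  let J : Ideal R := m ^ n
  let Q := (J : Submodule R R) ⧸ (m • ⊤ : Submodule R J)
  letI : Field (R ⧸ m) := Ideal.Quotient.field m
  haveI : Module.Finite R J := Module.Finite.iff_fg.2 (IsNoetherian.noetherian J)
  letI : Module (R ⧸ m) Q := inferInstance
  haveI : IsScalarTower R (R ⧸ m) Q := inferInstance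
  haveI : Module.Finite (R ⧸ m) Q := Module.Finite.of_restrictScalars_finite R (R ⧸ m) Q
  let b := Module.finBasis (R ⧸ m) Q
  choose v hv using fun i => Submodule.Quotient.mk_surjective (m • ⊤ : Submodule R J) (b i)
  refine ⟨_, fun i => (v i : R), fun i => (v i).2,
    fun i => ((b.coord i).restrictScalars R) ∘ₗ (m • ⊤ : Submodule R J).mkQ, fun i j => ?_, ?_⟩
  · change b.coord i (Submodule.Quotient.mk (v j)) = _
    rw [hv j, Module.Basis.coord_apply, Module.Basis.repr_self, Finsupp.single_apply]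
    simp [eq_comm]
  · intro x hx
    have hb : Submodule.Quotient.mk (⟨x, hx⟩ : J) = ∑ i, b.repr (Submodule.Quotient.mk (⟨x, hx⟩ : J)) i • b i :=
      (b.sum_repr _).symm
    choose c hc using fun i => Ideal.Quotient.mk_surjective (b.repr (Submodule.Quotient.mk (⟨x, hx⟩ : J)) i)
    have hd : (⟨x, hx⟩ : J) - ∑ i, c i • v i ∈ (m • ⊤ : Submodule R J) := by
      rw [← Submodule.Quotient.eq, hb, ← Submodule.mkQ_apply (m • ⊤ : Submodule R J) (∑ i, c i • v i), map_sum]
      refine Finset.sum_congr rfl fun i _ => ?_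
      rw [map_smul, Submodule.mkQ_apply, hv i, ← hc i]
      rfl
    have hval : x - ∑ i, c i * (v i : R) ∈ m ^ (n + 1) := by
      have h' := Submodule.mem_map_of_mem (f := Submodule.subtype J) hd
      rw [Submodule.map_smul'', Submodule.map_top, Submodule.range_subtype] at h'
      have : x - ∑ i, c i * (v i : R) ∈ m * J := by
        simpa [Ideal.mul_top, smul_eq_mul] using h'
      rwa [pow_succ']
    have := Ideal.add_mem (Ideal.span (Set.range fun i => (v i : R)) ⊔ m ^ (n + 1))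
      (Ideal.mem_sup_right hval) (Ideal.mem_sup_left (Ideal.sum_mem _ (t := Finset.univ) fun i _ =>
        Ideal.mul_mem_left _ (c i) (Ideal.subset_span ⟨i, rfl⟩)))
    rwa [sub_add_cancel] at this

/-- Elements of `m ^ n • M` are combinations of the frame modulo `m ^ (n+1) • M`. -/
theorem exists_coeff {M : Type*} [AddCommGroup M] [Module R M] (m : Ideal R) (n : ℕ) {r : ℕ}
    (v : Fin r → R) (hsp : m ^ n ≤ Ideal.span (Set.range v) ⊔ m ^ (n + 1)) (x : M)
    (hx : x ∈ m ^ n • (⊤ : Submodule R M)) :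
    ∃ a : Fin r → M, x - ∑ i, v i • a i ∈ m ^ (n + 1) • (⊤ : Submodule R M) := by
  refine Submodule.smul_induction_on hx (fun c hc y _ => ?_) ?_
  · obtain ⟨p, hp, q, hq, rfl⟩ := Submodule.mem_sup.1 (hsp hc)
    obtain ⟨e, he⟩ := Submodule.mem_span_range_iff_exists_fun R |>.1 hp
    refine ⟨fun i => e i • y, ?_⟩
    have : ∑ i, v i • e i • y = p • y := by
      rw [← he, Finset.sum_smul]
      exact Finset.sum_congr rfl fun i _ => by rw [smul_eq_mul, mul_comm, mul_smul]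
    rw [this, ← sub_smul, add_sub_cancel_left]
    exact Submodule.smul_mem_smul hq trivial
  · rintro p q ⟨a, ha⟩ ⟨b, hb⟩
    refine ⟨a + b, ?_⟩
    have := Submodule.add_mem _ ha hb
    simpa [smul_add, Finset.sum_add_distrib, add_sub_add_comm] using this

section Complex

variable [IsNoetherianRing R] (m : Ideal R) [m.IsMaximal]

theorem sum_smul_mem (n : ℕ) {r : ℕ} {v : Fin r → R} (hv : ∀ i, v i ∈ m ^ n) {M : Type*}
    [AddCommGroup M] [Module R M] {a : Fin r → M} (ha : ∀ i, a i ∈ m • (⊤ : Submodule R M)) :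
    ∑ i, v i • a i ∈ m ^ (n + 1) • (⊤ : Submodule R M) := by
  refine Submodule.sum_mem _ fun i _ => ?_
  rw [pow_succ, ← smul_eq_mul, Submodule.smul_assoc]
  exact Submodule.smul_mem_smul (hv i) (ha i)

theorem map_mem {M N : Type*} [AddCommGroup M] [Module R M] [AddCommGroup N] [Module R N]
    (I : Ideal R) (f : M →ₗ[R] N) {x : M} (hx : x ∈ I • (⊤ : Submodule R M)) :
    f x ∈ I • (⊤ : Submodule R N) :=
  Submodule.smul_mono le_rfl le_top (Submodule.map_smul'' I ⊤ f ▸ Submodule.mem_map_of_mem hx)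

/-- When the cycles modulo `m` are multiples of `t`, so they are modulo every power of `m`. -/
theorem exists_sub_smul_mem {X₀ X₁ : Type*} [AddCommGroup X₀] [Module R X₀] [AddCommGroup X₁]
    [Module R X₁] [Module.Flat R X₁] (d : X₀ →ₗ[R] X₁) (t : X₀) (ht : d t = 0)
    (h1 : ∀ c, d c ∈ m • (⊤ : Submodule R X₁) → ∃ e : R, c - e • t ∈ m • (⊤ : Submodule R X₀))
    (n : ℕ) : ∀ c, d c ∈ m ^ n • (⊤ : Submodule R X₁) →
      ∃ e : R, c - e • t ∈ m ^ n • (⊤ : Submodule R X₀) := by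
  induction n with
  | zero => exact fun c _ => ⟨0, by simp⟩
  | succ n ih =>
    intro c hc
    obtain ⟨e, he⟩ := ih c (Submodule.smul_mono_left (Ideal.pow_le_pow_right n.le_succ) hc)
    obtain ⟨r, v, hv, co, hco, hsp⟩ := exists_frame_pow m n
    obtain ⟨b, hb⟩ := exists_coeff m n v hsp _ he
    have hdb : ∑ i, v i • d (b i) ∈ m ^ (n + 1) • (⊤ : Submodule R X₁) := by
      have h2 := Submodule.sub_mem _ hc (map_mem _ d hb)
      have h3 : ∑ i, v i • d (b i) = d c - d (c - e • t - ∑ i, v i • b i) := by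
        simp only [map_sub, map_smul, ht, smul_zero, sub_zero, map_sum, sub_sub_cancel]
      rwa [h3]
    rw [pow_succ'] at hdb
    choose e' he' using fun i => h1 (b i) (coeff_mem m v hv co hco _ hdb i)
    refine ⟨e + ∑ i, v i * e' i, ?_⟩
    have h4 := Submodule.add_mem _ hb (sum_smul_mem m n hv he')
    have h5 : c - (e + ∑ i, v i * e' i) • t =
        (c - e • t - ∑ i, v i • b i) + ∑ i, v i • (b i - e' i • t) := by
      simp only [smul_sub, Finset.sum_sub_distrib, add_smul, Finset.sum_smul, mul_smul]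
      abel
    rwa [h5]

/-- A cochain whose differential is divisible by `m ^ n` becomes, after subtracting cycles, divisible,
and its obstruction is a coboundary modulo `m`. -/
theorem exists_slice_coboundary {C₀ C₁ X₀ X₁ : Type*} [AddCommGroup C₀] [Module R C₀] [AddCommGroup C₁]
    [Module R C₁] [AddCommGroup X₀] [Module R X₀] [AddCommGroup X₁] [Module R X₁] [Module.Flat R X₁]
    (d₀ : C₀ →ₗ[R] C₁) (dX : X₀ →ₗ[R] X₁) (π₀ : C₀ →ₗ[R] X₀) (π₁ : C₁ →ₗ[R] X₁)
    (hπ : ∀ c, dX (π₀ c) = π₁ (d₀ c)) (t : X₀) (ht : dX t = 0)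
    (h1 : ∀ c, dX c ∈ m • (⊤ : Submodule R X₁) → ∃ e : R, c - e • t ∈ m • (⊤ : Submodule R X₀))
    (n : ℕ) {r : ℕ} (v : Fin r → R) (hv : ∀ i, v i ∈ m ^ n)
    (co : Fin r → ((m ^ n : Ideal R) →ₗ[R] R ⧸ m))
    (hco : ∀ i j, co i ⟨v j, hv j⟩ = if i = j then 1 else 0)
    (hsp : m ^ n ≤ Ideal.span (Set.range v) ⊔ m ^ (n + 1))
    (c : C₀) (a : Fin r → C₁) (hc : d₀ c ∈ m ^ n • (⊤ : Submodule R C₁))
    (ha : d₀ c - ∑ i, v i • a i ∈ m ^ (n + 1) • (⊤ : Submodule R C₁)) (i : Fin r) :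
    ∃ b, π₁ (a i) - dX b ∈ m • (⊤ : Submodule R X₁) := by
  obtain ⟨e, he⟩ := exists_sub_smul_mem m dX t ht h1 n (π₀ c) (hπ c ▸ map_mem _ π₁ hc)
  obtain ⟨b, hb⟩ := exists_coeff m n v hsp _ he
  refine ⟨b i, coeff_mem m v hv co hco (fun i => π₁ (a i) - dX (b i)) ?_ i⟩
  have h2 := Submodule.sub_mem _ (map_mem _ dX hb) (map_mem _ π₁ ha)
  have h3 : ∑ i, v i • (π₁ (a i) - dX (b i)) =
      π₁ (-(d₀ c - ∑ i, v i • a i)) + dX (π₀ c - e • t - ∑ i, v i • b i) := by
    simp only [map_neg, map_sub, map_smul, ht, smul_zero, sub_zero, map_sum, smul_sub,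
      Finset.sum_sub_distrib, hπ]
    abel
  rw [← pow_succ', h3, map_neg, ← sub_eq_neg_add]
  exact h2

/-- The deformation step: a cycle modulo `m ^ n` whose obstruction dies on two slices, which detect
classes modulo `m`, is congruent to a cycle modulo `m ^ (n+1)`. -/
theorem exists_lift_succ {C₀ C₁ C₂ X₀ X₁ Y₀ Y₁ : Type*} [AddCommGroup C₀] [Module R C₀]
    [AddCommGroup C₁] [Module R C₁] [AddCommGroup C₂] [Module R C₂] [AddCommGroup X₀] [Module R X₀]
    [AddCommGroup X₁] [Module R X₁] [AddCommGroup Y₀] [Module R Y₀] [AddCommGroup Y₁] [Module R Y₁]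
    [Module.Flat R C₂] [Module.Flat R X₁] [Module.Flat R Y₁]
    (d₀ : C₀ →ₗ[R] C₁) (d₁ : C₁ →ₗ[R] C₂) (dd : ∀ c, d₁ (d₀ c) = 0)
    (dX : X₀ →ₗ[R] X₁) (dY : Y₀ →ₗ[R] Y₁) (πX₀ : C₀ →ₗ[R] X₀) (πX₁ : C₁ →ₗ[R] X₁)
    (πY₀ : C₀ →ₗ[R] Y₀) (πY₁ : C₁ →ₗ[R] Y₁) (hπX : ∀ c, dX (πX₀ c) = πX₁ (d₀ c))
    (hπY : ∀ c, dY (πY₀ c) = πY₁ (d₀ c))
    (tX : X₀) (htX : dX tX = 0)
    (hX : ∀ c, dX c ∈ m • (⊤ : Submodule R X₁) → ∃ e : R, c - e • tX ∈ m • (⊤ : Submodule R X₀))
    (tY : Y₀) (htY : dY tY = 0)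
    (hY : ∀ c, dY c ∈ m • (⊤ : Submodule R Y₁) → ∃ e : R, c - e • tY ∈ m • (⊤ : Submodule R Y₀))
    (hK : ∀ a : C₁, d₁ a ∈ m • (⊤ : Submodule R C₂) →
      (∃ b, πX₁ a - dX b ∈ m • (⊤ : Submodule R X₁)) →
      (∃ b, πY₁ a - dY b ∈ m • (⊤ : Submodule R Y₁)) →
      ∃ e, a - d₀ e ∈ m • (⊤ : Submodule R C₁))
    (n : ℕ) (c : C₀) (hc : d₀ c ∈ m ^ n • (⊤ : Submodule R C₁)) :
    ∃ c' : C₀, c' - c ∈ m ^ n • (⊤ : Submodule R C₀) ∧
      d₀ c' ∈ m ^ (n + 1) • (⊤ : Submodule R C₁) := by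
  obtain ⟨r, v, hv, co, hco, hsp⟩ := exists_frame_pow m n
  obtain ⟨a, ha⟩ := exists_coeff m n v hsp _ hc
  have hda : ∀ i, d₁ (a i) ∈ m • (⊤ : Submodule R C₂) := by
    intro i
    refine coeff_mem m v hv co hco (fun i => d₁ (a i)) ?_ i
    have h2 := Submodule.neg_mem _ (map_mem _ d₁ ha)
    simp only [map_sub, dd, zero_sub, map_sum, map_smul, neg_neg] at h2
    rwa [← pow_succ']
  choose e he using fun i => hK (a i) (hda i) (exists_slice_coboundary m d₀ dX πX₀ πX₁ hπX tX htX hX n v hv co hco hsp c a hc ha i)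
    (exists_slice_coboundary m d₀ dY πY₀ πY₁ hπY tY htY hY n v hv co hco hsp c a hc ha i)
  refine ⟨c - ∑ i, v i • e i, ?_, ?_⟩
  · rw [sub_sub_cancel_left]
    exact Submodule.neg_mem _ (Submodule.sum_mem _ fun i _ => Submodule.smul_mem_smul (hv i) trivial)
  · have h4 := Submodule.add_mem _ ha (sum_smul_mem m n hv he)
    have h5 : d₀ (c - ∑ i, v i • e i) =
        (d₀ c - ∑ i, v i • a i) + ∑ i, v i • (a i - d₀ (e i)) := by
      simp only [smul_sub, Finset.sum_sub_distrib, map_sub, map_sum, map_smul]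
      abel
    rwa [h5]

end Complex

end Groth.L08.Cube
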