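import Groth.Agent.L08.Cube.AmpleFixed

/-!
# Divisors with finitely many translations fixing all components
-/

set_option autoImplicit false
set_option linter.style.haveILetI false
set_option linter.unusedSectionVars false
set_option backward.isDefEq.respectTransparency false

universe u

open CategoryTheory CategoryTheory.Limits MonoidalCategory CartesianMonoidalCategory AlgebraicGeometry TopologicalSpace

open scoped MonObj

noncomputable section

namespace Groth.L08.Cube

variable {K : Type u} [Field K] [IsAlgClosed K] {A : Over (Spec (CommRingCat.of K))} [GrpObj A] [IsProper A.hom]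
  [GeometricallyIntegral A.hom]

/-- The complement of the support of an effective Cartier divisor on an integral scheme is non-empty. -/
theorem compl_support_nonempty {X : Scheme.{u}} [AlgebraicGeometry.IsIntegral X] (I : X.IdealSheafData)
    (hI : BlowUp.IsEffCartierIdeal I) : ((I.support : Set X)ᶜ).Nonempty := by
  obtain ⟨x⟩ : Nonempty X := inferInstance
  obtain ⟨U, hxU, f, hf, hIU⟩ := hI x
  haveI : Nonempty U.1 := ⟨⟨x, hxU⟩⟩
  have hne : X.basicOpen f ≠ ⊥ := fun h => nonZeroDivisors.ne_zero hf ((AlgebraicGeometry.basicOpen_eq_bot_iff f).1 h)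
  obtain ⟨y, hy⟩ : (X.basicOpen f : Set X).Nonempty := by
    by_contra h
    exact hne (SetLike.coe_injective (Set.not_nonempty_iff_eq_empty.1 h))
  refine ⟨y, fun hys => ?_⟩
  have hyU : y ∈ U.1 := X.basicOpen_le f hy
  rw [SetLike.mem_coe, show y ∈ I.support ↔ y ∈ X.zeroLocus (U := U.1) (I.ideal U) from
    Scheme.IdealSheafData.mem_support_iff_of_mem (I := I) (U := U) hyU, hIU, Scheme.zeroLocus_span,
    Scheme.zeroLocus_singleton] at hys
  exact hys hy

/-- Translations moving one point of a subscheme with trivial square to another map every component of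
the zero locus into itself. -/
theorem translate_component_subset (L : A.left.Modules) (hL : PicF.IsInvertible L)
    (s : Coh.structureModule A.left ⟶ L) (hs : s ≠ 0) {C : Scheme.{u}} (i : C ⟶ A.left) [IsClosedImmersion i]
    [AlgebraicGeometry.IsIntegral C]
    (hC : Nonempty ((Scheme.Modules.pullback i).obj (CohB1.tensorPow L (1 + 1)) ≅ Coh.structureModule C))
    (c c₀ : 𝟙_ (Over (Spec (CommRingCat.of K))) ⟶ subOver (A := A) i)
    (Z : Set A.left) (hZ : IsClosed Z) (hZi : IsIrreducible Z) (W : Set A.left) (hW : IsClosed W) (hWZ : ¬ Z ⊆ W)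
    (hcov : (CohB1.genLocus L s : Set A.left)ᶜ = Z ∪ W) :
    (trK ((c₀ ≫ subHom i)⁻¹ * (c ≫ subHom i))).left '' Z ⊆ Z := by
  haveI : JacobsonSpace A.left := LocallyOfFiniteType.jacobsonSpace A.hom
  set d := (c₀ ≫ subHom i)⁻¹ * (c ≫ subHom i)
  haveI : IsProper (subOver (A := A) i).hom := inferInstanceAs (IsProper (i ≫ A.hom))
  haveI : AlgebraicGeometry.IsIntegral (subOver (A := A) i).left := inferInstanceAs (AlgebraicGeometry.IsIntegral C)
  have hcl : closure ((Z ∩ Wᶜ) ∩ closedPoints A.left) = Z := by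
    rw [JacobsonSpace.closure_inter_closedPoints_eq_closure (S := Z ∩ Wᶜ)
      (hZ.isLocallyClosed.inter hW.isOpen_compl.isLocallyClosed)]
    refine le_antisymm (closure_minimal Set.inter_subset_left hZ) ?_
    refine subset_closure_inter_of_isPreirreducible_of_isOpen hZi.2 hW.isOpen_compl ?_
    obtain ⟨z, hz, hzW⟩ := Set.not_subset.1 hWZ
    exact ⟨z, hz, hzW⟩
  have hsub : (trK d).left '' ((Z ∩ Wᶜ) ∩ closedPoints A.left) ⊆ Z := by
    rintro _ ⟨_, ⟨⟨hzZ, hzW⟩, hzc⟩, rfl⟩
    obtain ⟨e, rfl⟩ := exists_kpt _ (mem_closedPoints_iff.1 hzc)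
    let a := e * (c₀ ≫ subHom i)⁻¹
    obtain ⟨θ⟩ := trivial_translate_of_square L hL s hs i hC a
    let j : C ⟶ A.left := (subHom i ≫ ((toUnit A ≫ a) * 𝟙 A)).left
    have hj : ∀ c' : 𝟙_ (Over (Spec (CommRingCat.of K))) ⟶ subOver (A := A) i,
        j (kpt c') = kpt (a * (c' ≫ subHom i)) := fun c' => by
      show (subHom i ≫ ((toUnit A ≫ a) * 𝟙 A)).left (kpt c') = _
      rw [Over.comp_left, Scheme.Hom.comp_apply, show (subHom i).left (kpt c') = kpt (c' ≫ subHom i) from
        (Scheme.Hom.comp_apply c'.left _ _).symm, kpt_mul']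
    have hj0 : j (kpt c₀) = kpt e := by rw [hj]; simp [a]
    have hout : ∀ x : C, j x ∈ (CohB1.genLocus L s : Set A.left)ᶜ := by
      intro x hx
      have htop := genLocus_eq_top_of_trivial (i ≫ A.hom) θ (Groth.L18.Ample.pullHom j s)
        ⟨x, by rw [Groth.L18.Ample.genLocus_pullHom j hL]; exact hx⟩
      rw [Groth.L18.Ample.genLocus_pullHom j hL] at htop
      have h0 : j (kpt c₀) ∈ CohB1.genLocus L s := htop.ge (x := kpt c₀) trivial
      rw [hj0] at h0
      have h1 : kpt e ∈ (CohB1.genLocus L s : Set A.left)ᶜ := by rw [hcov]; exact Or.inl hzZ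
      exact h1 h0
    have hirr : IsPreirreducible (Set.range j) := by
      rw [← Set.image_univ]
      exact (PreirreducibleSpace.isPreirreducible_univ (X := C)).image j j.continuous.continuousOn
    have hin : Set.range j ⊆ Z := by
      rcases isPreirreducible_iff_isClosed_union_isClosed.1 hirr Z W hZ hW
        (by rintro _ ⟨x, rfl⟩; rw [← hcov]; exact hout x) with h | h
      · exact h
      · exact absurd (h ⟨kpt c₀, hj0⟩) hzW
    rw [kpt_mul]
    have h := hin ⟨kpt c, rfl⟩
    rw [hj] at h
    simpa [a, d, mul_assoc] using h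
  calc (trK d).left '' Z = (trK d).left '' closure ((Z ∩ Wᶜ) ∩ closedPoints A.left) := by rw [hcl]
    _ ⊆ closure ((trK d).left '' ((Z ∩ Wᶜ) ∩ closedPoints A.left)) :=
      image_closure_subset_closure_image (trK d).left.continuous
    _ ⊆ Z := closure_minimal hsub hZ

end Groth.L08.Cube
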