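import Groth.Agent.L08.Cube.NoCurve
import Groth.Agent.L08.Cube.AmpleDiv
import Groth.Agent.L08.Cube.Seesaw
import Groth.Agent.L08.Cube.SecCosec

/-!
# Effective invertible modules fixed by finitely many translations are ample
-/

set_option autoImplicit false
set_option linter.style.haveILetI false
set_option linter.unusedSectionVars false
set_option backward.isDefEq.respectTransparency false

universe u

open CategoryTheory CategoryTheory.Limits MonoidalCategory CartesianMonoidalCategory AlgebraicGeometry TopologicalSpace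

open scoped MonObj

noncomputable section

namespace Groth.L08.Cube

open Groth.Agent.AbDualLib

attribute [local instance] clMonoid

/-- A non-zero section of an invertible module on an integral scheme generates somewhere. -/
theorem genLocus_nonempty {X : Scheme.{u}} [AlgebraicGeometry.IsIntegral X] {L : X.Modules} (hL : PicF.IsInvertible L)
    {s : Coh.structureModule X ⟶ L} (hs : s ≠ 0) : (CohB1.genLocus L s : Set X).Nonempty := by
  by_contra hne
  refine secOf_ne_zero hs ?_
  choose W e hW he using fun x : X => Groth.L18.Frame.exists_frame hL x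
  let OM : TopCat.Sheaf Ab.{u} X.toTopCat := ⟨L.presheaf, L.isSheaf⟩
  refine OM.eq_of_locally_eq' W ⊤ (fun x => homOfLE le_top) (fun x _ => Opens.mem_iSup.2 ⟨x, hW x⟩) _ 0 fun x => ?_
  obtain ⟨a, ha⟩ := (he x).exists_coeff le_rfl (Groth.L18.Frame.rs L (le_top : W x ≤ ⊤) (Groth.L18.GenLoc.secOf s))
  rw [Groth.L18.Frame.rs_self] at ha
  have h := Groth.L18.GenLoc.genLocus_inf_eq s (he x) ha
  rw [show CohB1.genLocus L s = ⊥ from SetLike.coe_injective (Set.not_nonempty_iff_eq_empty.1 hne), bot_inf_eq] at h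
  have ha0 : a = 0 := (AlgebraicGeometry.basicOpen_eq_bot_iff a).1 h.symm
  show Groth.L18.Frame.rs L le_top (Groth.L18.GenLoc.secOf s) = Groth.L18.Frame.rs L le_top 0
  rw [← ha, ha0, zero_smul]
  exact (map_zero _).symm

variable {K : Type u} [Field K] [IsAlgClosed K] {A : Over (Spec (CommRingCat.of K))} [GrpObj A] [IsProper A.hom]
  [GeometricallyIntegral A.hom]

/-- Translation by a rational point. -/
abbrev trK (a : 𝟙_ (Over (Spec (CommRingCat.of K))) ⟶ A) : A ⟶ A := 𝟙 A * (toUnit A ≫ a)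

theorem kpt_mul' (b a : 𝟙_ (Over (Spec (CommRingCat.of K))) ⟶ A) :
    ((toUnit A ≫ b) * 𝟙 A).left (kpt a) = kpt (b * a) := by
  have h : a ≫ ((toUnit A ≫ b) * 𝟙 A) = b * a := by simp [MonObj.comp_mul]
  rw [← h]
  exact (Scheme.Hom.comp_apply a.left ((toUnit A ≫ b) * 𝟙 A).left _).symm

theorem isIso_trL (b : 𝟙_ (Over (Spec (CommRingCat.of K))) ⟶ A) : IsIso ((toUnit A ≫ b) * 𝟙 A).left := by
  let e : A ≅ A :=
    { hom := (toUnit A ≫ b) * 𝟙 A
      inv := (toUnit A ≫ b⁻¹) * 𝟙 A
      hom_inv_id := by simp [MonObj.comp_mul, GrpObj.comp_inv, ← mul_assoc]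
      inv_hom_id := by simp [MonObj.comp_mul, GrpObj.comp_inv, ← mul_assoc] }
  exact ((Over.forget _).mapIso e).isIso_hom

theorem kpt_mul (b a : 𝟙_ (Over (Spec (CommRingCat.of K))) ⟶ A) : (trK a).left (kpt b) = kpt (b * a) := by
  have h : b ≫ trK a = b * a := by simp [trK, MonObj.comp_mul]
  rw [← h]
  exact (Scheme.Hom.comp_apply b.left (trK a).left _).symm

theorem isIso_trK (a : 𝟙_ (Over (Spec (CommRingCat.of K))) ⟶ A) : IsIso (trK a).left := by
  let e : A ≅ A :=
    { hom := trK a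
      inv := trK a⁻¹
      hom_inv_id := by simp [trK, MonObj.comp_mul, GrpObj.comp_inv, mul_assoc]
      inv_hom_id := by simp [trK, MonObj.comp_mul, GrpObj.comp_inv, mul_assoc] }
  exact ((Over.forget _).mapIso e).isIso_hom

/-- Some pair of opposite translations moves a rational point into a given non-empty open. -/
theorem exists_pair {U : A.left.Opens} (hU : (U : Set A.left).Nonempty)
    (b : 𝟙_ (Over (Spec (CommRingCat.of K))) ⟶ A) :
    ∃ V : A.left.Opens, (V : Set A.left).Nonempty ∧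
      ∀ a : 𝟙_ (Over (Spec (CommRingCat.of K))) ⟶ A, kpt a ∈ V → kpt (a * b) ∈ U ∧ kpt (a⁻¹ * b) ∈ U := by
  haveI : AlgebraicGeometry.IsIntegral A.left := GeometricallyIntegral.isIntegral_of_subsingleton A.hom
  haveI := isIso_trK b
  let g : A.left ⟶ A.left := (((𝟙 A)⁻¹ : A ⟶ A) ≫ trK b).left
  haveI : IsIso ((𝟙 A)⁻¹ : A ⟶ A).left := by
    let e : A ≅ A := ⟨(𝟙 A)⁻¹, (𝟙 A)⁻¹, by simp [GrpObj.comp_inv], by simp [GrpObj.comp_inv]⟩
    exact ((Over.forget _).mapIso e).isIso_hom
  haveI : IsIso g := inferInstanceAs (IsIso ((((𝟙 A)⁻¹ : A ⟶ A)).left ≫ (trK b).left))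
  have hpre : ∀ φ : A.left ⟶ A.left, IsIso φ → (φ ⁻¹ᵁ U : Set A.left).Nonempty := fun φ hφ => by
    haveI := hφ
    obtain ⟨x, hx⟩ := hU
    obtain ⟨y, rfl⟩ := φ.homeomorph.surjective x
    exact ⟨y, hx⟩
  refine ⟨(trK b).left ⁻¹ᵁ U ⊓ g ⁻¹ᵁ U, nonempty_preirreducible_inter ((trK b).left ⁻¹ᵁ U).2 (g ⁻¹ᵁ U).2
    (hpre _ inferInstance) (hpre g inferInstance), fun a ha => ⟨?_, ?_⟩⟩
  · have h := ha.1
    change (trK b).left (kpt a) ∈ U at h
    rwa [kpt_mul] at h
  · have h := ha.2
    change (trK b).left (((𝟙 A)⁻¹ : A ⟶ A).left (kpt a)) ∈ U at h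
    rw [show ((𝟙 A)⁻¹ : A ⟶ A).left (kpt a) = kpt a⁻¹ from by
      have h1 : a ≫ (𝟙 A)⁻¹ = a⁻¹ := by simp [GrpObj.comp_inv]
      rw [← h1]
      exact (Scheme.Hom.comp_apply a.left _ _).symm, kpt_mul] at h
    exact h

/-- The theorem of the square for opposite translations. -/
theorem pc_trL_sq (L : A.left.Modules) (hL : PicF.IsInvertible L) (a : 𝟙_ (Over (Spec (CommRingCat.of K))) ⟶ A) :
    pc L (𝟙 A) * pc L (𝟙 A) = pc L ((toUnit A ≫ a) * 𝟙 A) * pc L ((toUnit A ≫ a⁻¹) * 𝟙 A) := by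
  haveI : Subsingleton (𝟙_ (Over (Spec (CommRingCat.of K)))).left :=
    inferInstanceAs (Subsingleton (PrimeSpectrum K))
  have h1 : ∀ b : 𝟙_ (Over (Spec (CommRingCat.of K))) ⟶ A, pc L (toUnit A ≫ b) = 1 := fun b => by
    rw [← pullCl_pc L (toUnit A) b, show pc L b = 1 from eq_oneCl_of_subsingleton (isInvertibleCl_pc L hL b),
      pullCl_one]
  have h := cube_relation L hL (toUnit A ≫ a) (toUnit A ≫ a⁻¹) (𝟙 A)
  have he : (toUnit A ≫ a) * (toUnit A ≫ a⁻¹) = 1 := by simp [GrpObj.comp_inv]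
  rw [he, one_mul, h1, h1, mul_one, mul_one, pc_one L hL, one_mul] at h
  exact h

/-- A sum of pullbacks of the section by opposite translations, as a section of the square. -/
theorem exists_sq_section (L : A.left.Modules) (hL : PicF.IsInvertible L) (s : Coh.structureModule A.left ⟶ L)
    (a : 𝟙_ (Over (Spec (CommRingCat.of K))) ⟶ A) :
    ∃ σ : Coh.structureModule A.left ⟶ CohB1.tensorPow L (1 + 1),
      CohB1.genLocus _ σ = ((toUnit A ≫ a) * 𝟙 A).left ⁻¹ᵁ CohB1.genLocus L s ⊓
        ((toUnit A ≫ a⁻¹) * 𝟙 A).left ⁻¹ᵁ CohB1.genLocus L s := by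
  let fP : A.left ⟶ A.left := ((toUnit A ≫ a) * 𝟙 A).left
  let fM : A.left ⟶ A.left := ((toUnit A ≫ a⁻¹) * 𝟙 A).left
  let LP := (Scheme.Modules.pullback fP).obj L
  let LM := (Scheme.Modules.pullback fM).obj L
  obtain ⟨θ⟩ : Nonempty (CohB1.tensorMod LP LM ≅ CohB1.tensorPow L (1 + 1)) := by
    refine (PicGrp.cl_eq_cl_iff _ _).1 ?_
    rw [cl_tensorPow, pow_two]
    refine (pc_trL_sq L hL a).symm.trans ?_
    rw [show pc L (𝟙 A) = PicF.cl L from PicLoc.pullCl_id _]
  refine ⟨Groth.L18.GenLoc.tensHom (Groth.L18.Ample.pullHom fP s) (Groth.L18.Ample.pullHom fM s) ≫ θ.hom, ?_⟩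
  rw [Groth.L16.genLocus_comp_iso, Groth.L18.GenLoc.genLocus_tensHom (Groth.L18.Ample.isInvertible_pullback _ hL)
    (Groth.L18.Ample.isInvertible_pullback _ hL), Groth.L18.Ample.genLocus_pullHom _ hL,
    Groth.L18.Ample.genLocus_pullHom _ hL]

/-- An invertible module with a non-zero section, whose square is trivial on no integral closed
subscheme with more than one point, is ample. -/
theorem isAmple_of_no_square_trivial (L : A.left.Modules) (hL : PicF.IsInvertible L)
    (s : Coh.structureModule A.left ⟶ L) (hs : s ≠ 0)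
    (h : ∀ (C : Scheme.{u}) (i : C ⟶ A.left) [IsClosedImmersion i] [AlgebraicGeometry.IsIntegral C],
      Nonempty ((Scheme.Modules.pullback i).obj (CohB1.tensorPow L (1 + 1)) ≅ Coh.structureModule C) → ∀ x y : C, x = y) :
    CohB1.IsAmple L := by
  classical
  haveI : AlgebraicGeometry.IsIntegral A.left := GeometricallyIntegral.isIntegral_of_subsingleton A.hom
  haveI : JacobsonSpace A.left := LocallyOfFiniteType.jacobsonSpace A.hom
  haveI : CompactSpace A.left := QuasiCompact.compactSpace_of_compactSpace A.hom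
  haveI : IsLocallyNoetherian A.left := LocallyOfFiniteType.isLocallyNoetherian A.hom
  set U := CohB1.genLocus L s with hUdef
  have hU : (U : Set A.left).Nonempty := genLocus_nonempty hL hs
  choose σ hσ using exists_sq_section L hL s
  have hcov : ⨆ a, CohB1.genLocus _ (σ a) = ⊤ := eq_top_of_closedPoints _ fun x hx => by
    obtain ⟨b, rfl⟩ := exists_kpt x hx
    obtain ⟨V, hV, hVU⟩ := exists_pair hU b
    obtain ⟨y, hyV, hyc⟩ := nonempty_inter_closedPoints hV V.2.isLocallyClosed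
    obtain ⟨a, rfl⟩ := exists_kpt y (mem_closedPoints_iff.1 hyc)
    refine Opens.mem_iSup.2 ⟨a, ?_⟩
    rw [hσ]
    refine ⟨?_, ?_⟩
    · show ((toUnit A ≫ a) * 𝟙 A).left (kpt b) ∈ U
      rw [kpt_mul']
      exact (hVU a hyV).1
    · show ((toUnit A ≫ a⁻¹) * 𝟙 A).left (kpt b) ∈ U
      rw [kpt_mul']
      exact (hVU a hyV).2
  obtain ⟨F, hF⟩ := isCompact_univ.elim_finite_subcover (fun a => (CohB1.genLocus _ (σ a) : Set A.left))
    (fun a => (CohB1.genLocus _ (σ a)).2) (fun x _ => by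
      have hx : x ∈ ⨆ a, CohB1.genLocus _ (σ a) := by rw [hcov]; trivial
      exact Set.mem_iUnion.2 (Opens.mem_iSup.1 hx))
  obtain ⟨n, hn⟩ : ∃ n, F.card = n + 1 := by
    obtain ⟨x⟩ : Nonempty A.left := inferInstance
    obtain ⟨a, ha, -⟩ := Set.mem_iUnion₂.1 (hF (Set.mem_univ x))
    exact ⟨F.card - 1, by have := Finset.card_pos.2 ⟨a, ha⟩; omega⟩
  let e : Fin (n + 1) ≃ F := (F.equivFinOfCardEq hn).symm
  have hL2 : PicF.IsInvertible (CohB1.tensorPow L (1 + 1)) := Groth.L18.Ample.isInvertible_tensorPow hL _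
  refine (Groth.L18.Ample.isAmple_pow_iff hL (n := 1 + 1) (by norm_num)).2 ?_
  refine isAmple_of_no_trivial_curve A.hom hL2 (fun i => Groth.L18.GenLoc.secOf (σ (e i))) ?_ fun C i _ _ hC => ⟨h C i hC⟩
  · refine Groth.L18.SpecLine.generatedBy_of_frames _ fun x => ?_
    obtain ⟨a, ha, hxa⟩ := Set.mem_iUnion₂.1 (hF (Set.mem_univ x))
    refine ⟨CohB1.genLocus _ (σ a), e.symm ⟨a, ha⟩, hxa, ?_⟩
    simp only [Equiv.apply_symm_apply]
    exact Groth.L18.GenLoc.isFrame_genLocus (σ a)

section Curve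

variable (L : A.left.Modules) (hL : PicF.IsInvertible L) (s : Coh.structureModule A.left ⟶ L) (hs : s ≠ 0)
  {C : Scheme.{u}} (i : C ⟶ A.left) [IsClosedImmersion i] [AlgebraicGeometry.IsIntegral C]
  (hC : Nonempty ((Scheme.Modules.pullback i).obj (CohB1.tensorPow L (1 + 1)) ≅ Coh.structureModule C))

/-- The subscheme as a scheme over the ground field. -/
abbrev subOver : Over (Spec (CommRingCat.of K)) := Over.mk (i ≫ A.hom)

/-- Its inclusion. -/
abbrev subHom : subOver (A := A) i ⟶ A := Over.homMk i rfl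

include hL hs hC

/-- A translated subscheme carries the trivial module if the square is trivial on it. -/
theorem fiber_trivial_of_square (y : A.left) :
    Nonempty (CohIII.fiberMod (snd (subOver i) A).left
      ((Scheme.Modules.pullback (snd (subOver i) A * (fst (subOver i) A ≫ subHom i)).left).obj L) y ≅
        Coh.structureModule ((snd (subOver i) A).left.fiber y)) := by
  haveI : AlgebraicGeometry.IsIntegral A.left := GeometricallyIntegral.isIntegral_of_subsingleton A.hom
  haveI : JacobsonSpace A.left := LocallyOfFiniteType.jacobsonSpace A.hom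
  haveI : IsLocallyNoetherian A.left := LocallyOfFiniteType.isLocallyNoetherian A.hom
  set U := CohB1.genLocus L s with hUdef
  have hU : (U : Set A.left).Nonempty := genLocus_nonempty hL hs
  choose σ hσ using exists_sq_section L hL s
  have hL2 : PicF.IsInvertible (CohB1.tensorPow L (1 + 1)) := Groth.L18.Ample.isInvertible_tensorPow hL _
  let Cv : Over (Spec (CommRingCat.of K)) := Over.mk (i ≫ A.hom)
  let iv : Cv ⟶ A := Over.homMk i rfl
  haveI : IsProper Cv.hom := inferInstanceAs (IsProper (i ≫ A.hom))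
  haveI : GeometricallyIntegral Cv.hom := geometricallyIntegral_of_isAlgClosed (i ≫ A.hom)
  haveI : JacobsonSpace Cv.left := LocallyOfFiniteType.jacobsonSpace Cv.hom
  haveI : AlgebraicGeometry.IsIntegral Cv.left := inferInstanceAs (AlgebraicGeometry.IsIntegral C)
  obtain ⟨θ⟩ := hC
  obtain ⟨c₀, -⟩ : ∃ c₀ : 𝟙_ (Over (Spec (CommRingCat.of K))) ⟶ Cv, True := by
    obtain ⟨z, -, hz⟩ := nonempty_inter_closedPoints (X := Cv.left) (Z := Set.univ) Set.univ_nonempty
      isOpen_univ.isLocallyClosed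
    obtain ⟨c, -⟩ := exists_kpt z (mem_closedPoints_iff.1 hz)
    exact ⟨c, trivial⟩
  obtain ⟨V, hV, hVU⟩ := exists_pair hU (c₀ ≫ iv)
  let Φ : Cv ⊗ A ⟶ A := snd Cv A * (fst Cv A ≫ iv)
  let Λ := (Scheme.Modules.pullback Φ.left).obj L
  have hΛ : PicF.IsInvertible Λ := Groth.L18.Ample.isInvertible_pullback _ hL
  have hgood : ∀ a : 𝟙_ (Over (Spec (CommRingCat.of K))) ⟶ A, kpt a ∈ V →
      Nonempty (CohIII.fiberMod (snd Cv A).left Λ (kpt a) ≅ Coh.structureModule ((snd Cv A).left.fiber (kpt a))) := by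
    intro a ha
    rw [fiber_trivial_iff_slice]
    have hg : CohB1.genLocus _ (Groth.L18.Ample.pullHom i (σ a)) = ⊤ := by
      refine genLocus_eq_top_of_trivial (i ≫ A.hom) θ _ ⟨kpt c₀, ?_⟩
      rw [Groth.L18.Ample.genLocus_pullHom i hL2, hσ]
      have h0 : i (kpt c₀) = kpt (c₀ ≫ iv) := (Scheme.Hom.comp_apply c₀.left i _).symm
      refine ⟨?_, ?_⟩
      · show ((toUnit A ≫ a) * 𝟙 A).left (i (kpt c₀)) ∈ U
        rw [h0, kpt_mul']
        exact (hVU a ha).1
      · show ((toUnit A ≫ a⁻¹) * 𝟙 A).left (i (kpt c₀)) ∈ U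
        rw [h0, kpt_mul']
        exact (hVU a ha).2
    rw [Groth.L18.Ample.genLocus_pullHom i hL2, hσ] at hg
    have htop : i ⁻¹ᵁ (((toUnit A ≫ a) * 𝟙 A).left ⁻¹ᵁ U) = ⊤ :=
      top_le_iff.1 fun z hz => (hg.ge hz).1
    have hΦ : slice Cv a ≫ Φ = iv ≫ ((toUnit A ≫ a) * 𝟙 A) := by simp [Φ, slice, MonObj.comp_mul]
    refine (nonempty_iso_of_genLocus_eq_top (Groth.L18.Ample.pullHom (slice Cv a ≫ Φ).left s) ?_).map
      fun e => (Scheme.Modules.pullbackComp (slice Cv a).left Φ.left).app L ≪≫ e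
    rw [Groth.L18.Ample.genLocus_pullHom _ hL, hΦ]
    exact htop
  haveI : GeometricallyIntegral (snd Cv A).left :=
    MorphismProperty.of_isPullback (isPullback_prod Cv A) ‹GeometricallyIntegral Cv.hom›
  haveI : Flat (snd Cv A).left := flat_snd Cv A
  haveI : IsProper (snd Cv A).left := isProper_snd Cv A
  haveI : LocallyOfFinitePresentation (snd Cv A).left := inferInstance
  have hall : ∀ y, Nonempty (CohIII.fiberMod (snd Cv A).left Λ y ≅ Coh.structureModule ((snd Cv A).left.fiber y)) := by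
    intro y
    refine trivial_on_fibres_of_mem_closure (snd Cv A).left Λ hΛ (S := (V : Set A.left) ∩ closedPoints A.left)
      (fun w hw => ?_) y ?_
    · obtain ⟨a, rfl⟩ := exists_kpt w (mem_closedPoints_iff.1 hw.2)
      exact hgood a hw.1
    · rw [JacobsonSpace.closure_inter_closedPoints_eq_closure (S := (V : Set A.left)) V.2.isLocallyClosed,
        show closure (V : Set A.left) = Set.univ from (V.2.dense hV).closure_eq]
      trivial
  exact hall y

/-- Translations moving one point of the subscheme to another fix the module. -/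
theorem fixed_of_square (c c₀ : 𝟙_ (Over (Spec (CommRingCat.of K))) ⟶ subOver (A := A) i) :
    Nonempty ((Scheme.Modules.pullback (trK ((c₀ ≫ subHom i)⁻¹ * (c ≫ subHom i))).left).obj L ≅ L) := by
  haveI : AlgebraicGeometry.IsIntegral A.left := GeometricallyIntegral.isIntegral_of_subsingleton A.hom
  haveI : IsLocallyNoetherian A.left := LocallyOfFiniteType.isLocallyNoetherian A.hom
  let Cv : Over (Spec (CommRingCat.of K)) := Over.mk (i ≫ A.hom)
  let iv : Cv ⟶ A := Over.homMk i rfl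
  haveI : IsProper Cv.hom := inferInstanceAs (IsProper (i ≫ A.hom))
  haveI : GeometricallyIntegral Cv.hom := geometricallyIntegral_of_isAlgClosed (i ≫ A.hom)
  haveI : JacobsonSpace Cv.left := LocallyOfFiniteType.jacobsonSpace Cv.hom
  haveI : AlgebraicGeometry.IsIntegral Cv.left := inferInstanceAs (AlgebraicGeometry.IsIntegral C)
  let Φ : Cv ⊗ A ⟶ A := snd Cv A * (fst Cv A ≫ iv)
  let Λ := (Scheme.Modules.pullback Φ.left).obj L
  have hΛ : PicF.IsInvertible Λ := Groth.L18.Ample.isInvertible_pullback _ hL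
  haveI : GeometricallyIntegral (snd Cv A).left :=
    MorphismProperty.of_isPullback (isPullback_prod Cv A) ‹GeometricallyIntegral Cv.hom›
  haveI : Flat (snd Cv A).left := flat_snd Cv A
  haveI : IsProper (snd Cv A).left := isProper_snd Cv A
  have hall := fiber_trivial_of_square L hL s hs i hC
  let jc : (𝟙_ (Over (Spec (CommRingCat.of K))) ⟶ Cv) → (A ⟶ Cv ⊗ A) := fun c => lift (toUnit A ≫ c) (𝟙 A)
  obtain ⟨N, hNi, hN⟩ := exists_inverseCl (PicLoc.isInvertibleCl_pullCl (jc c₀).left (⟨Λ, rfl, hΛ⟩ : PicF.IsInvertibleCl (PicF.cl Λ)))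
  obtain ⟨N₀, rfl, hN₀⟩ := hNi
  let Λ' := CohB1.tensorMod Λ ((Scheme.Modules.pullback (snd Cv A).left).obj N₀)
  have hjc : ∀ c, PicF.pullCl (jc c).left (PicF.cl Λ') = pc L (trK (c ≫ iv)) * PicF.cl N₀ := fun c => by
    show PicF.pullCl (jc c).left (PicF.cl Λ * PicF.pullCl (snd Cv A).left (PicF.cl N₀)) = _
    rw [pullCl_mul, show PicF.cl Λ = pc L Φ from rfl, pullCl_pc, ← PicLoc.pullCl_comp, ← Over.comp_left, lift_snd,
      Over.id_left, PicLoc.pullCl_id]
    congr 2
    simp [Φ, jc, MonObj.comp_mul]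
  obtain ⟨triv⟩ : Nonempty (Λ' ≅ Coh.structureModule (Cv ⊗ A).left) := by
    obtain ⟨θ₀⟩ : Nonempty ((Scheme.Modules.pullback (jc c₀).left).obj Λ' ≅ Coh.structureModule A.left) := by
      refine (nonempty_iso_structure_iff _).2 ?_
      show PicF.pullCl (jc c₀).left (PicF.cl Λ * PicF.pullCl (snd Cv A).left (PicF.cl N₀)) = 1
      rw [pullCl_mul, ← PicLoc.pullCl_comp, ← Over.comp_left, lift_snd, Over.id_left, PicLoc.pullCl_id]
      exact hN
    refine nonempty_iso_of_trivial_on_fibres (snd Cv A).left (jc c₀).left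
      (by rw [← Over.comp_left, lift_snd]; rfl) Λ'
      (Groth.L18.GenLoc.isInvertible_tensor hΛ (Groth.L18.Ample.isInvertible_pullback _ hN₀)) (fun y => ?_) θ₀
    refine (nonempty_iso_structure_iff _).2 ?_
    show PicF.pullCl ((snd Cv A).left.fiberι y) (PicF.cl Λ * PicF.pullCl (snd Cv A).left (PicF.cl N₀)) = 1
    haveI : Subsingleton ↥(Spec (A.left.residueField y)) :=
      inferInstanceAs (Subsingleton (PrimeSpectrum (A.left.residueField y)))
    have hf : (snd Cv A).left.fiberι y ≫ (snd Cv A).left =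
        (snd Cv A).left.fiberToSpecResidueField y ≫ A.left.fromSpecResidueField y := pullback.condition
    rw [pullCl_mul, ← PicLoc.pullCl_comp, hf, PicLoc.pullCl_comp,
      show PicF.pullCl (A.left.fromSpecResidueField y) (PicF.cl N₀) = 1 from
        eq_oneCl_of_subsingleton (PicLoc.isInvertibleCl_pullCl _ ⟨N₀, rfl, hN₀⟩), pullCl_one, mul_one]
    exact (nonempty_iso_structure_iff _).1 (hall y)
  have hsame : ∀ c, pc L (trK (c ≫ iv)) * PicF.cl N₀ = 1 := fun c => by
    rw [← hjc, (nonempty_iso_structure_iff _).1 ⟨triv⟩, pullCl_one]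
  have hfix : ∀ c, (c₀ ≫ iv)⁻¹ * (c ≫ iv) ∈ {a : 𝟙_ (Over (Spec (CommRingCat.of K))) ⟶ A |
      Nonempty ((Scheme.Modules.pullback (trK a).left).obj L ≅ L)} := fun c => by
    have heq : pc L (trK (c ≫ iv)) = pc L (trK (c₀ ≫ iv)) := by
      rw [← mul_one (pc L (trK (c ≫ iv))), ← hsame c₀, mul_left_comm, hsame c, mul_one]
    refine (PicGrp.cl_eq_cl_iff _ _).1 ?_
    show pc L (trK ((c₀ ≫ iv)⁻¹ * (c ≫ iv))) = PicF.cl L
    have h := congrArg (PicF.pullCl (trK (c₀ ≫ iv)⁻¹).left) heq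
    rw [pullCl_pc, pullCl_pc] at h
    have h2 : ∀ b b' : 𝟙_ (Over (Spec (CommRingCat.of K))) ⟶ A, trK b ≫ trK b' = trK (b * b') := fun b b' => by
      simp [trK, MonObj.comp_mul, mul_assoc]
    rw [h2, h2, inv_mul_cancel] at h
    rw [h, show trK (1 : 𝟙_ (Over (Spec (CommRingCat.of K))) ⟶ A) = 𝟙 A by simp [trK]]
    exact PicLoc.pullCl_id _
  exact hfix c

/-- Every translate of the subscheme carries the trivial module. -/
theorem trivial_translate_of_square (a : 𝟙_ (Over (Spec (CommRingCat.of K))) ⟶ A) :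
    Nonempty ((Scheme.Modules.pullback (subHom i ≫ ((toUnit A ≫ a) * 𝟙 A)).left).obj L ≅
      Coh.structureModule C) := by
  have h := (fiber_trivial_iff_slice a _).1 (fiber_trivial_of_square L hL s hs i hC (kpt a))
  have e : slice (subOver i) a ≫ (snd (subOver i) A * (fst (subOver i) A ≫ subHom i)) =
      subHom i ≫ ((toUnit A ≫ a) * 𝟙 A) := by simp [slice, MonObj.comp_mul]
  obtain ⟨θ⟩ := h
  exact ⟨((Scheme.Modules.pullbackCongr (show (slice (subOver i) a).left ≫
      (snd (subOver i) A * (fst (subOver i) A ≫ subHom i)).left = _ by rw [← Over.comp_left, e])).app L).symm ≪≫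
    ((Scheme.Modules.pullbackComp _ _).app L).symm ≪≫ θ⟩

end Curve

/-- An invertible module with a non-zero section, fixed by finitely many translations only, is ample. -/
theorem isAmple_of_finite_fixed (L : A.left.Modules) (hL : PicF.IsInvertible L)
    (s : Coh.structureModule A.left ⟶ L) (hs : s ≠ 0)
    (hnd : Set.Finite {a : 𝟙_ (Over (Spec (CommRingCat.of K))) ⟶ A |
      Nonempty ((Scheme.Modules.pullback (trK a).left).obj L ≅ L)}) :
    CohB1.IsAmple L := by
  refine isAmple_of_no_square_trivial L hL s hs fun C i _ _ hC => ?_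
  let Cv : Over (Spec (CommRingCat.of K)) := Over.mk (i ≫ A.hom)
  let iv : Cv ⟶ A := Over.homMk i rfl
  haveI : IsProper Cv.hom := inferInstanceAs (IsProper (i ≫ A.hom))
  haveI : GeometricallyIntegral Cv.hom := geometricallyIntegral_of_isAlgClosed (i ≫ A.hom)
  haveI : JacobsonSpace Cv.left := LocallyOfFiniteType.jacobsonSpace Cv.hom
  haveI : AlgebraicGeometry.IsIntegral Cv.left := inferInstanceAs (AlgebraicGeometry.IsIntegral C)
  obtain ⟨c₀, -⟩ : ∃ c₀ : 𝟙_ (Over (Spec (CommRingCat.of K))) ⟶ Cv, True := by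
    obtain ⟨z, -, hz⟩ := nonempty_inter_closedPoints (X := Cv.left) (Z := Set.univ) Set.univ_nonempty
      isOpen_univ.isLocallyClosed
    obtain ⟨c, -⟩ := exists_kpt z (mem_closedPoints_iff.1 hz)
    exact ⟨c, trivial⟩
  have hfix := fun c => fixed_of_square L hL s hs i hC c c₀
  haveI : Finite (𝟙_ (Over (Spec (CommRingCat.of K))) ⟶ Cv) := by
    haveI := hnd.to_subtype
    refine Finite.of_injective (fun c => (⟨_, hfix c⟩ : {a : 𝟙_ (Over (Spec (CommRingCat.of K))) ⟶ A |
      Nonempty ((Scheme.Modules.pullback (trK a).left).obj L ≅ L)})) fun c c' h => ?_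
    have h1 : c ≫ iv = c' ≫ iv := mul_left_cancel (congrArg Subtype.val h)
    haveI : Mono iv := Over.mono_of_mono_left iv
    exact (cancel_mono iv).1 h1
  have hfin : (closedPoints Cv.left).Finite := (Set.finite_range (kpt (A := Cv))).subset fun x hx => by
    obtain ⟨c, hc⟩ := exists_kpt x (mem_closedPoints_iff.1 hx)
    exact ⟨c, hc⟩
  haveI := JacobsonSpace.discreteTopology hfin
  show ∀ a b : Cv.left, a = b
  intro a b
  obtain ⟨c, hca, hcb⟩ := nonempty_preirreducible_inter (isOpen_discrete ({a} : Set Cv.left)) (isOpen_discrete {b})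
    (Set.singleton_nonempty a) (Set.singleton_nonempty b)
  exact (Set.mem_singleton_iff.1 hca).symm.trans (Set.mem_singleton_iff.1 hcb)

end Groth.L08.Cube
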