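import Groth.Agent.L17.BC.Model
import Groth.Agent.L08.Cube.Algebra

/-!
# Cycles of a Čech complex from approximate cycles
-/

set_option autoImplicit false
set_option linter.style.haveILetI false
set_option linter.unusedSectionVars false
set_option backward.isDefEq.respectTransparency false

universe u

open CategoryTheory CategoryTheory.Limits AlgebraicGeometry TopologicalSpace Opposite MonoidalCategory
open scoped TensorProduct

noncomputable section

namespace Groth.L08.Cube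

open Groth.L17.BC Groth.L02.PC
open Groth.L01.FlatCx (dd)

variable {A : Type u} [CommRing A] [IsNoetherianRing A]

/-- A finite free complex computing cohomology universally, for a given cover. -/
theorem exists_model_of_cover {X : Scheme.{u}} (f : X ⟶ Spec (CommRingCat.of A)) [IsProper f]
    (F : X.Modules) (hF : Coh.IsCoh F)
    (hfl : ∀ V : X.Opens, IsAffineOpen V → Module.Flat A (Sec (Coh.toGlobal f) F V))
    {ι : Type u} [Finite ι] (U : ι → X.Opens) (hcov : ⨆ i, U i = ⊤)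
    (haff : ∀ (n : ℕ) (a : Fin (n + 1) → ι), IsAffineOpen (⨅ k, U (a k))) :
    ∃ (L : CochainComplex (ModuleCat.{u} A) ℤ) (φ : L ⟶ K (Coh.toGlobal f) F U),
      (∀ i, Module.Finite A (L.X i)) ∧ ∀ M : ModuleCat.{u} A,
        QuasiIso (((tensorRight M).mapHomologicalComplex (ComplexShape.up ℤ)).map φ) := by
  classical
  haveI : Coh.IsQCoh F := hF.1
  letI : X.Over (Spec (CommRingCat.of A)) := ⟨f⟩
  haveI : IsProper (X ↘ Spec (CommRingCat.of A)) := inferInstanceAs (IsProper f)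
  let Kc := K (Coh.toGlobal f) F U
  let N : ℤ := Nat.card ι
  have hfin : ∀ i, Module.Finite A (Kc.homology i) := fun i => by
    rcases Int.lt_or_le i 0 with hi | hi
    · haveI : Subsingleton (Kc.homology i) := ModuleCat.subsingleton_of_isZero
        ((HomologicalComplex.exactAt_iff_isZero_homology _ _).1
          (ShortComplex.exact_of_isZero_X₂ _ (isZero_K U _ F hi)))
      infer_instance
    · obtain ⟨p, rfl⟩ : ∃ p : ℕ, i = p := ⟨i.toNat, (Int.toNat_of_nonneg hi).symm⟩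
      obtain ⟨e⟩ := exists_homology_equiv (Coh.toGlobal f) F U hcov haff p
      haveI := Groth.L16.ProperFinite.finite_HH A hF p
      exact Module.Finite.equiv e.symm
  obtain ⟨L, φ, hLF, ⟨b, hb⟩, hq⟩ := FlatModel.exists_finite_free_model Kc N hfin
    fun i hi => isZero_homology_K U (Coh.toGlobal f) F hcov haff i (by omega)
  refine ⟨L, φ, fun i => (hLF i).1, fun M => ?_⟩
  refine FlatModel.quasiIso_tensor φ (fun i => ?_) (flat_K f U F hfl haff) (max b N) (fun M i hi => ?_)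
    (fun M i hi => isZero_T_K f U F hcov haff M i ((le_max_right b N).trans hi.le)) M
  · haveI := (hLF i).2
    infer_instance
  · refine (HomologicalComplex.exactAt_iff_isZero_homology _ _).1 (ShortComplex.exact_of_isZero_X₂ _ ?_)
    exact (tensorRight M).map_isZero (hb i (lt_of_le_of_lt (le_max_left b N) hi))

omit [IsNoetherianRing A] in
theorem tmul_one_eq_zero_iff {M : Type u} [AddCommGroup M] [Module A M] (J : Ideal A) (x : M) :
    x ⊗ₜ[A] (1 : A ⧸ J) = 0 ↔ x ∈ J • (⊤ : Submodule A M) := by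
  rw [← (TensorProduct.comm A M (A ⧸ J)).map_eq_zero_iff, TensorProduct.comm_tmul,
    ← (TensorProduct.quotTensorEquivQuotSMul M J).map_eq_zero_iff, ← map_one (Ideal.Quotient.mk J),
    TensorProduct.quotTensorEquivQuotSMul_mk_tmul, one_smul, Submodule.Quotient.mk_eq_zero]

omit [IsNoetherianRing A] in
theorem exists_tmul_one {M : Type u} [AddCommGroup M] [Module A M] (J : Ideal A) (z : M ⊗[A] (A ⧸ J)) :
    ∃ x : M, x ⊗ₜ[A] (1 : A ⧸ J) = z := by
  induction z using TensorProduct.induction_on with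
  | zero => exact ⟨0, TensorProduct.zero_tmul _ _⟩
  | tmul m b =>
    obtain ⟨a, rfl⟩ := Ideal.Quotient.mk_surjective b
    exact ⟨a • m, by rw [TensorProduct.smul_tmul, Algebra.smul_def, mul_one, Ideal.Quotient.algebraMap_eq]⟩
  | add z z' hz hz' =>
    obtain ⟨x, rfl⟩ := hz
    obtain ⟨x', rfl⟩ := hz'
    exact ⟨x + x', TensorProduct.add_tmul _ _ _⟩

/-- A cycle modulo an ideal comes from a cycle modulo the ideal of the model. -/
theorem exists_preimage_mod {L Kc : CochainComplex (ModuleCat.{u} A) ℤ} (φ : L ⟶ Kc)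
    (hq : ∀ M : ModuleCat.{u} A, QuasiIso (((tensorRight M).mapHomologicalComplex (ComplexShape.up ℤ)).map φ))
    (hneg : Subsingleton (Kc.X (0 - 1))) (J : Ideal A) (c : Kc.X 0)
    (hdc : Kc.d 0 (0 + 1) c ∈ J • (⊤ : Submodule A (Kc.X (0 + 1)))) :
    ∃ l : L.X 0, (L.d 0 (0 + 1)).hom l ∈ J • (⊤ : Submodule A (L.X (0 + 1))) ∧
      (φ.f 0).hom l - c ∈ J • (⊤ : Submodule A (Kc.X 0)) := by
  let B := ModuleCat.of A (A ⧸ J)
  set φB := ((tensorRight B).mapHomologicalComplex (ComplexShape.up ℤ)).map φ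
  haveI : QuasiIso φB := hq B
  have h1 : ConeExact φB (0 - 1) 0 (0 + 1) (0 + 1 + 1) :=
    (coneExact_iff φB _ _ _ _ (by omega) rfl rfl).2 (FlatModel.isZero_cone_homology φB 0)
  obtain ⟨q, y, hdq, hy⟩ := h1 0 (c ⊗ₜ[A] (1 : A ⧸ J)) (map_zero _) (by
    rw [map_zero]
    show 0 = (dd Kc 0 (0 + 1)).rTensor (A ⧸ J) (c ⊗ₜ[A] (1 : A ⧸ J))
    rw [LinearMap.rTensor_tmul, (tmul_one_eq_zero_iff J _).2 hdc])
  obtain ⟨l, rfl⟩ : ∃ l : L.X 0, l ⊗ₜ[A] (1 : A ⧸ J) = q := exists_tmul_one J q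
  have hy0 : y = 0 := by
    haveI : Subsingleton ((Kc.X (0 - 1)) ⊗[A] (A ⧸ J)) := ⟨fun a b => by
      obtain ⟨a', rfl⟩ := exists_tmul_one J a
      obtain ⟨b', rfl⟩ := exists_tmul_one J b
      rw [Subsingleton.elim a' b']⟩
    exact Subsingleton.elim (α := (Kc.X (0 - 1)) ⊗[A] (A ⧸ J)) _ _
  refine ⟨l, (tmul_one_eq_zero_iff J _).1
    ((LinearMap.rTensor_tmul (A ⧸ J) (dd L 0 (0 + 1)) 1 l).symm.trans hdq), (tmul_one_eq_zero_iff J _).1 ?_⟩
  rw [TensorProduct.sub_tmul, sub_eq_zero]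
  rw [hy0, map_zero, add_zero] at hy
  exact (LinearMap.rTensor_tmul (A ⧸ J) (φ.f 0).hom 1 l).symm.trans hy

omit [IsNoetherianRing A] in
/-- A cycle of the model gives a cycle. -/
theorem d_map_eq_zero {L Kc : CochainComplex (ModuleCat.{u} A) ℤ} (φ : L ⟶ Kc) {l : L.X 0}
    (hl : (L.d 0 (0 + 1)).hom l = 0) : Kc.d 0 (0 + 1) ((φ.f 0).hom l) = 0 := by
  have := congr($(φ.comm 0 (0 + 1)) l)
  simp only [ModuleCat.hom_comp, LinearMap.comp_apply] at this
  rw [hl, map_zero] at this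
  exact this

/-- Approximate cycles to every order give a cycle with the same reduction. -/
theorem exists_cycle_of_approx {L Kc : CochainComplex (ModuleCat.{u} A) ℤ} (φ : L ⟶ Kc)
    [∀ i, Module.Finite A (L.X i)]
    (hq : ∀ M : ModuleCat.{u} A, QuasiIso (((tensorRight M).mapHomologicalComplex (ComplexShape.up ℤ)).map φ))
    (hneg : Subsingleton (Kc.X (0 - 1))) (I : Ideal A) (c₁ : Kc.X 0)
    (happ : ∀ n : ℕ, ∃ c : Kc.X 0, c - c₁ ∈ I • (⊤ : Submodule A (Kc.X 0)) ∧
      Kc.d 0 (0 + 1) c ∈ I ^ n • (⊤ : Submodule A (Kc.X (0 + 1)))) :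
    ∃ x : Kc.X 0, Kc.d 0 (0 + 1) x = 0 ∧ x - c₁ ∈ I • (⊤ : Submodule A (Kc.X 0)) := by
  obtain ⟨n₀, hn₀⟩ := exists_cycle_sub_mem (L.d 0 (0 + 1)).hom I
  obtain ⟨c, hc, hdc⟩ := happ (n₀ + 1)
  obtain ⟨l, hl, hφ⟩ := exists_preimage_mod φ hq hneg _ c hdc
  obtain ⟨l', hl', hll'⟩ := hn₀ l (Submodule.smul_mono_left (Ideal.pow_le_pow_right n₀.le_succ) hl)
  refine ⟨(φ.f 0).hom l', d_map_eq_zero φ hl', ?_⟩
  have h := Submodule.add_mem _ (map_mem I (φ.f 0).hom hll')
    (Submodule.add_mem _ (Submodule.smul_mono_left (Ideal.pow_le_self (Nat.succ_ne_zero n₀)) hφ) hc)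
  have e : (φ.f 0).hom l' - c₁ = (φ.f 0).hom (l' - l) + (((φ.f 0).hom l - c) + (c - c₁)) := by
    rw [map_sub]; abel
  rwa [e]

end Groth.L08.Cube
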