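import Groth.Agent.L08.Cube.Triv
import Groth.Agent.L17.BC.Change
import Mathlib.LinearAlgebra.TensorProduct.Quotient

/-!
# Čech cochains of coefficient functions
-/

set_option autoImplicit false
set_option linter.style.haveILetI false
set_option linter.unusedSectionVars false
set_option backward.isDefEq.respectTransparency false

universe u

open CategoryTheory AlgebraicGeometry TopologicalSpace Opposite
open scoped TensorProduct

noncomputable section

namespace Groth.L08.Cube

open Groth.L17.BC (C dL dL_apply Idx opn opn_le_opn opn_le_erase Ub preimage_opn Sec resL act Compat Φ Fb)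
open Groth.L18.Frame (rs ro rs_rs rs_self rs_smul ro_ro ro_self ro_mul pull pull_rs pull_smul IsFrame)

/-- A base change along a surjection is surjective with kernel the multiples of the kernel ideal. -/
theorem surjective_and_ker_of_isBaseChange {A B : Type u} [CommRing A] [CommRing B] [Algebra A B]
    (hs : Function.Surjective (algebraMap A B)) {M N : Type u} [AddCommGroup M] [Module A M]
    [AddCommGroup N] [Module A N] [Module B N] [IsScalarTower A B N] {f : M →ₗ[A] N}
    (hf : IsBaseChange B f) :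
    Function.Surjective f ∧ ∀ x, f x = 0 → x ∈ RingHom.ker (algebraMap A B) • (⊤ : Submodule A M) := by
  constructor
  · intro y
    obtain ⟨z, rfl⟩ := hf.equiv.surjective y
    suffices ∃ m : M, (1 : B) ⊗ₜ[A] m = z by
      obtain ⟨m, rfl⟩ := this
      exact ⟨m, by rw [hf.equiv_tmul, one_smul]⟩
    induction z using TensorProduct.induction_on with
    | zero => exact ⟨0, TensorProduct.tmul_zero _ _⟩
    | tmul b m =>
      obtain ⟨a, rfl⟩ := hs b
      exact ⟨a • m, by rw [Algebra.algebraMap_eq_smul_one, TensorProduct.smul_tmul]⟩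
    | add z z' hz hz' =>
      obtain ⟨m, rfl⟩ := hz
      obtain ⟨m', rfl⟩ := hz'
      exact ⟨m + m', TensorProduct.tmul_add _ _ _⟩
  · intro x hx
    have h1 : (1 : B) ⊗ₜ[A] x = 0 := by
      refine hf.equiv.injective ?_
      rw [hf.equiv_tmul, one_smul, hx, map_zero]
    let I := RingHom.ker (algebraMap A B)
    let e : (A ⧸ I) ≃ₐ[A] B := Ideal.quotientKerAlgEquivOfSurjective (f := Algebra.ofId A B) hs
    have h2 : (1 : A ⧸ I) ⊗ₜ[A] x = 0 := by
      have := congrArg (TensorProduct.congr e.symm.toLinearEquiv (LinearEquiv.refl A M)) h1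
      rwa [TensorProduct.congr_tmul, map_zero, AlgEquiv.toLinearEquiv_apply, map_one] at this
    have h3 := congrArg (TensorProduct.quotTensorEquivQuotSMul M I) h2
    rw [map_zero, ← map_one (Ideal.Quotient.mk I),
      TensorProduct.quotTensorEquivQuotSMul_mk_tmul, one_smul] at h3
    exact (Submodule.Quotient.mk_eq_zero _).1 h3

variable {Q P : Scheme.{u}} {g : Q ⟶ P} {L : P.Modules} {A B : Type u} [CommRing A] [CommRing B]
  {ρ : A →+* Coh.Γtop P} (ρ' : B →+* Coh.Γtop Q) {ι : Type u} (U : ι → P.Opens)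

/-- Coefficient functions of a cochain. -/
def EC (t : Triv g L) (i : ℤ) : C ρ L U i →+ C ρ' (Coh.structureModule Q) (Ub g U) i :=
  AddMonoidHom.mk' (fun x a => ro (preimage_opn g U a.1).ge (t.E (opn U a.1) (x a))) fun x y => by
    funext a
    show ro _ (t.E (opn U a.1) ((show Γ(L, opn U a.1) from x a) + (show Γ(L, opn U a.1) from y a))) = _
    rw [map_add, ro, map_add]
    rfl

theorem EC_apply (t : Triv g L) (i : ℤ) (x : C ρ L U i) (a : Idx ι i) :
    EC ρ' U t i x a = ro (preimage_opn g U a.1).ge (t.E (opn U a.1) (x a)) := rfl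

theorem EC_d (t : Triv g L) (i : ℤ) (x : C ρ L U i) :
    EC ρ' U t (i + 1) (dL ρ L U i x) = dL ρ' (Coh.structureModule Q) (Ub g U) i (EC ρ' U t i x) := by
  by_cases hi : 0 ≤ i
  · funext a
    rw [dL_apply ρ' (Coh.structureModule Q) (Ub g U) hi, EC_apply, dL_apply ρ L U hi]
    let G : Γ(L, opn U a.1) →+ Γ(Q, opn (Ub g U) a.1) :=
      (Q.presheaf.map (homOfLE (preimage_opn g U a.1).ge).op).hom.toAddMonoidHom.comp (t.E _)
    show G _ = _
    rw [map_sum]
    refine Finset.sum_congr rfl fun k _ => ?_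
    refine (map_zsmul G _ _).trans ?_
    refine congrArg _ ?_
    show ro _ (t.E _ (rs L _ _)) = ro _ (ro _ (t.E _ _))
    rw [t.nat, ro_ro, ro_ro]
  · haveI := Groth.L17.BC.subsingleton_C ρ L U (i := i) (by omega)
    rw [Subsingleton.elim x 0, map_zero, map_zero, map_zero, map_zero]

section Linear

variable {ρ'' : A →+* Coh.Γtop Q} (hc : ∀ a, g.appTop (ρ a) = ρ'' a)

/-- Coefficient functions, linearly over the ring of the base. -/
def ECl (t : Triv g L) (i : ℤ) : C ρ L U i →ₗ[A] C ρ'' (Coh.structureModule Q) (Ub g U) i where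
  toFun := EC ρ'' U t i
  map_add' := map_add _
  map_smul' r x := by
    funext a
    show ro _ (t.E _ (act ρ (opn U a.1) r • (show Γ(L, opn U a.1) from x a))) =
      act ρ'' (opn (Ub g U) a.1) r * ro _ (t.E _ (x a))
    rw [t.smul, ro_mul]
    congr 1
    exact Groth.L17.BC.app_act g ρ ρ'' (preimage_opn g U a.1).ge r r (hc r)

end Linear

section Kernel

variable [Algebra A B] {f : P ⟶ Spec (CommRingCat.of A)} {f' : Q ⟶ Spec (CommRingCat.of B)}

theorem EC_ofIso (hcm : Compat g (Coh.toGlobal f) (Coh.toGlobal f'))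
    (θ : (Scheme.Modules.pullback g).obj L ≅ Coh.structureModule Q) (i : ℤ)
    (x : C (Coh.toGlobal f) L U i) (a : Idx ι i) :
    EC (Coh.toGlobal f') U (Triv.ofIso g L θ) i x a =
      θ.hom.app (opn (Ub g U) a.1) (Φ g (Coh.toGlobal f) (Coh.toGlobal f') L hcm U i x a) :=
  (congr($(θ.hom.mapPresheaf.naturality (homOfLE (preimage_opn g U a.1).ge).op)
    (pull g L (opn U a.1) (x a)))).symm

variable (sq : IsPullback g f' f (Spec.map (CommRingCat.ofHom (algebraMap A B)))) [Coh.IsQCoh L]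
  (hs : Function.Surjective (algebraMap A B)) [Finite ι]
  (haff : ∀ (n : ℕ) (a : Fin (n + 1) → ι), IsAffineOpen (⨅ k, U (a k)))

include sq hs haff

theorem EC_surjective (θ : (Scheme.Modules.pullback g).obj L ≅ Coh.structureModule Q) (i : ℤ) :
    Function.Surjective (EC (ρ := Coh.toGlobal f) (Coh.toGlobal f') U (Triv.ofIso g L θ) i) := by
  intro y
  have hcm := Groth.L17.BC.compat_of_isPullback f f' g sq
  obtain ⟨x, hx⟩ := (surjective_and_ker_of_isBaseChange hs (Groth.L17.BC.isBaseChange_Φ g _ _ L hcm U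
    (Groth.L17.BC.hasBC_of_isPullback f f' g sq L) haff i)).1
    (fun a => θ.inv.app (opn (Ub g U) a.1) (y a))
  refine ⟨x, funext fun a => ?_⟩
  rw [EC_ofIso U hcm θ i x a, congrFun hx a]
  exact congr($(congrArg (fun φ => Scheme.Modules.Hom.app φ (opn (Ub g U) a.1)) θ.inv_hom_id) (y a))

theorem mem_smul_of_EC_eq_zero (hL : PicF.IsInvertible L)
    (θ : (Scheme.Modules.pullback g).obj L ≅ Coh.structureModule Q) (t : Triv g L) (i : ℤ)
    (x : C (Coh.toGlobal f) L U i) (hx : EC (Coh.toGlobal f') U t i x = 0) :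
    x ∈ RingHom.ker (algebraMap A B) • (⊤ : Submodule A (C (Coh.toGlobal f) L U i)) := by
  have hcm := Groth.L17.BC.compat_of_isPullback f f' g sq
  refine (surjective_and_ker_of_isBaseChange hs (Groth.L17.BC.isBaseChange_Φ g _ _ L hcm U
    (Groth.L17.BC.hasBC_of_isPullback f f' g sq L) haff i)).2 x ?_
  obtain ⟨v, hv⟩ := t.exists_mul rfl hL (Triv.ofIso g L θ)
  funext a
  refine (ConcreteCategory.bijective_of_isIso (θ.hom.app (opn (Ub g U) a.1))).injective ?_
  refine (EC_ofIso U hcm θ i x a).symm.trans ?_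
  have h1 : ro (preimage_opn g U a.1).ge (t.E (opn U a.1) (x a)) = 0 := congrFun hx a
  rw [EC_apply, hv, ro_mul, ro_ro, ro_ro, h1, mul_zero]
  exact (map_zero _).symm

end Kernel

/-! ### Cochains in low degrees -/

section Low

variable {X : Scheme.{u}} {A : Type u} [CommRing A] (ρ : A →+* Coh.Γtop X) (F : X.Modules)
  {ι : Type u} (U : ι → X.Opens)

/-- The index of a vertex. -/
def i0 (j : ι) : Idx ι 0 := ⟨[j], by simp, by simp⟩

/-- The index of an edge. -/
def i1 (j l : ι) : Idx ι (0 + 1) := ⟨[j, l], by simp, by simp⟩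

/-- The index of a triangle. -/
def i2 (j l k : ι) : Idx ι (0 + 1 + 1) := ⟨[j, l, k], by simp, by simp⟩

omit [CommRing A] in
theorem exists_eq_i0 (a : Idx ι 0) : ∃ j, a = i0 j := by
  obtain ⟨j, hj⟩ := List.length_eq_one_iff.1 (show a.1.length = 1 by have := a.2.1; omega)
  exact ⟨j, Subtype.ext hj⟩

omit [CommRing A] in
theorem exists_eq_i1 (a : Idx ι (0 + 1)) : ∃ j l, a = i1 j l := by
  obtain ⟨j, l, hj⟩ := List.length_eq_two.1 (show a.1.length = 2 by have := a.2.1; omega)
  exact ⟨j, l, Subtype.ext hj⟩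

omit [CommRing A] in
theorem le_opn0 (j : ι) : U j ≤ opn U (i0 j).1 := le_iInf fun k => by
  match k with
  | ⟨0, _⟩ => exact le_rfl

omit [CommRing A] in
theorem opn0_le (j : ι) : opn U (i0 j).1 ≤ U j :=
  iInf_le (fun k : Fin [j].length => U [j][k.1]) ⟨0, by simp⟩

omit [CommRing A] in
theorem le_opn1 (j l : ι) : U j ⊓ U l ≤ opn U (i1 j l).1 := le_iInf fun k => by
  match k with
  | ⟨0, _⟩ => exact inf_le_left
  | ⟨1, _⟩ => exact inf_le_right

omit [CommRing A] in
theorem opn1_le (j l : ι) : opn U (i1 j l).1 ≤ U j ⊓ U l :=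
  le_inf (iInf_le (fun k : Fin [j, l].length => U [j, l][k.1]) ⟨0, by simp⟩)
    (iInf_le (fun k : Fin [j, l].length => U [j, l][k.1]) ⟨1, by simp⟩)

omit [CommRing A] in
theorem le_opn2 (j l k : ι) : U j ⊓ U l ⊓ U k ≤ opn U (i2 j l k).1 := le_iInf fun m => by
  match m with
  | ⟨0, _⟩ => exact inf_le_left.trans inf_le_left
  | ⟨1, _⟩ => exact inf_le_left.trans inf_le_right
  | ⟨2, _⟩ => exact inf_le_right

theorem dL_i1 (x : C ρ F U 0) (j l : ι) {W : X.Opens} (hW : W ≤ opn U (i1 j l).1)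
    (hl : W ≤ opn U (i0 l).1) (hj : W ≤ opn U (i0 j).1) :
    rs F hW (dL ρ F U 0 x (i1 j l)) = rs F hl (x (i0 l)) - rs F hj (x (i0 j)) := by
  rw [dL_apply ρ F U le_rfl]
  show rs F hW (∑ k : Fin 2, _) = _
  rw [Fin.sum_univ_two]
  simp only [Fin.val_zero, Fin.val_one, pow_zero, pow_one, one_smul, neg_smul, ← sub_eq_add_neg]
  refine (map_sub (F.presheaf.map (homOfLE hW).op).hom _ _).trans ?_
  exact congrArg₂ (· - ·) (rs_rs F _ _ _) (rs_rs F _ _ _)

theorem dL_i2 (x : C ρ F U (0 + 1)) (j l k : ι) {W : X.Opens} (hW : W ≤ opn U (i2 j l k).1)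
    (hlk : W ≤ opn U (i1 l k).1) (hjk : W ≤ opn U (i1 j k).1) (hjl : W ≤ opn U (i1 j l).1) :
    rs F hW (dL ρ F U (0 + 1) x (i2 j l k)) =
      rs F hlk (x (i1 l k)) - rs F hjk (x (i1 j k)) + rs F hjl (x (i1 j l)) := by
  rw [dL_apply ρ F U (by norm_num)]
  show rs F hW (∑ m : Fin 3, _) = _
  rw [Fin.sum_univ_three]
  simp only [Fin.val_zero, Fin.val_one, Fin.val_two, pow_zero, pow_one, neg_one_sq, one_smul, neg_smul,
    ← sub_eq_add_neg]
  refine (map_add (F.presheaf.map (homOfLE hW).op).hom _ _).trans ?_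
  refine congrArg₂ (· + ·) ((map_sub (F.presheaf.map (homOfLE hW).op).hom _ _).trans
    (congrArg₂ (· - ·) (rs_rs F _ _ _) (rs_rs F _ _ _))) (rs_rs F _ _ _)

/-- A cycle in degree zero is a global section. -/
theorem exists_glue (x : C ρ F U 0) (hx : dL ρ F U 0 x = 0) (hcov : ⨆ i, U i = ⊤) :
    ∃ s : Γ(F, ⊤), ∀ a, rs F le_top s = x a := by
  let OM : TopCat.Sheaf Ab.{u} X.toTopCat := ⟨F.presheaf, F.isSheaf⟩
  obtain ⟨s, hs, -⟩ := OM.existsUnique_gluing' U ⊤ (fun i => homOfLE le_top) hcov.ge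
    (fun j => rs F (le_opn0 U j) (x (i0 j))) fun j l => by
      show rs F inf_le_left (rs F _ (x (i0 j))) = rs F inf_le_right (rs F _ (x (i0 l)))
      rw [rs_rs, rs_rs]
      have h := dL_i1 ρ F U x j l (le_opn1 U j l) (inf_le_right.trans (le_opn0 U l))
        (inf_le_left.trans (le_opn0 U j))
      rw [hx] at h
      exact (sub_eq_zero.1 (h.symm.trans (map_zero _))).symm
  refine ⟨s, fun a => ?_⟩
  obtain ⟨j, rfl⟩ := exists_eq_i0 a
  have := congrArg (rs F (opn0_le U j)) (show rs F le_top s = _ from hs j)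
  rwa [rs_rs, rs_rs, rs_self] at this

end Low

end Groth.L08.Cube
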