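import Groth.Agent.L08.Cube.LocalTriv

/-!
# Lifting trivialisations along small extensions of a local base, given trivialisations on two slices
-/

set_option autoImplicit false
set_option linter.style.haveILetI false
set_option linter.unusedSectionVars false
set_option backward.isDefEq.respectTransparency false

universe u

open CategoryTheory CategoryTheory.Limits AlgebraicGeometry TopologicalSpace Opposite

noncomputable section

namespace Groth.L08.Cube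

open Groth.L17.BC (C K dL dL_apply Idx opn Ub preimage_opn Sec resL act Compat isAffineOpen_opn
  compat_of_isPullback isAffineHom_of_isPullback isAffineOpen_iInf_preimage)
open Groth.L18.Frame (rs ro rs_rs rs_self rs_smul ro_ro ro_self ro_mul IsFrame)

section Algebra

variable {R : Type u} [CommRing R] (m J : Ideal R)

/-- Generators of a finitely generated ideal killed by a maximal ideal, with coordinates. -/
theorem exists_frame_killed [m.IsMaximal] (hJ : J.FG) (hmJ : m * J = ⊥) :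
    ∃ (r : ℕ) (v : Fin r → R) (hv : ∀ i, v i ∈ J) (co : Fin r → (J →ₗ[R] R ⧸ m)),
      (∀ i j, co i ⟨v j, hv j⟩ = if i = j then 1 else 0) ∧ J ≤ Ideal.span (Set.range v) := by
  let Q := (J : Submodule R R) ⧸ (m • ⊤ : Submodule R J)
  letI : Field (R ⧸ m) := Ideal.Quotient.field m
  haveI : Module.Finite R J := Module.Finite.iff_fg.2 hJ
  letI : Module (R ⧸ m) Q := inferInstance
  haveI : IsScalarTower R (R ⧸ m) Q := inferInstance
  haveI : Module.Finite (R ⧸ m) Q := Module.Finite.of_restrictScalars_finite R (R ⧸ m) Q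
  let b := Module.finBasis (R ⧸ m) Q
  choose v hv using fun i => Submodule.Quotient.mk_surjective (m • ⊤ : Submodule R J) (b i)
  refine ⟨_, fun i => (v i : R), fun i => (v i).2,
    fun i => ((b.coord i).restrictScalars R) ∘ₗ (m • ⊤ : Submodule R J).mkQ, fun i j => ?_, ?_⟩
  · change b.coord i (Submodule.Quotient.mk (v j)) = _
    rw [hv j, Module.Basis.coord_apply, Module.Basis.repr_self, Finsupp.single_apply]
    simp [eq_comm]
  · intro x hx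
    choose c hc using fun i => Ideal.Quotient.mk_surjective (b.repr (Submodule.Quotient.mk (⟨x, hx⟩ : J)) i)
    have hd : (⟨x, hx⟩ : J) - ∑ i, c i • v i ∈ (m • ⊤ : Submodule R J) := by
      rw [← Submodule.Quotient.eq, ← b.sum_repr (Submodule.Quotient.mk (⟨x, hx⟩ : J)),
        ← Submodule.mkQ_apply (m • ⊤ : Submodule R J) (∑ i, c i • v i), map_sum]
      refine Finset.sum_congr rfl fun i _ => ?_
      rw [map_smul, Submodule.mkQ_apply, hv i, ← hc i]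
      rfl
    have hval : x - ∑ i, c i * (v i : R) ∈ m * J := by
      have h' := Submodule.mem_map_of_mem (f := Submodule.subtype J) hd
      rw [Submodule.map_smul'', Submodule.map_top, Submodule.range_subtype] at h'
      simpa [Ideal.mul_top, smul_eq_mul] using h'
    rw [hmJ, Ideal.mem_bot, sub_eq_zero] at hval
    rw [hval]
    exact Ideal.sum_mem _ fun i _ => Ideal.mul_mem_left _ (c i) (Ideal.subset_span ⟨i, rfl⟩)

/-- Multiples of an ideal are combinations of its generators. -/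
theorem exists_coeff_killed {M : Type*} [AddCommGroup M] [Module R M] {r : ℕ} (v : Fin r → R)
    (hsp : J ≤ Ideal.span (Set.range v)) (x : M) (hx : x ∈ J • (⊤ : Submodule R M)) :
    ∃ a : Fin r → M, x = ∑ i, v i • a i := by
  refine Submodule.smul_induction_on hx (fun c hc y _ => ?_) ?_
  · obtain ⟨e, he⟩ := Submodule.mem_span_range_iff_exists_fun R |>.1 (hsp hc)
    refine ⟨fun i => e i • y, ?_⟩
    rw [← he, Finset.sum_smul]
    exact Finset.sum_congr rfl fun i _ => by rw [smul_eq_mul, mul_comm, mul_smul]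
  · rintro p q ⟨a, rfl⟩ ⟨b, rfl⟩
    exact ⟨a + b, by simp [smul_add, Finset.sum_add_distrib]⟩

/-- The obstruction of a cochain dies on a slice modulo the maximal ideal. -/
theorem exists_slice_killed {r : ℕ} (v : Fin r → R) (hv : ∀ i, v i ∈ J)
    (co : Fin r → (J →ₗ[R] R ⧸ m)) (hco : ∀ i j, co i ⟨v j, hv j⟩ = if i = j then 1 else 0)
    (hsp : J ≤ Ideal.span (Set.range v)) {C₀ C₁ Z₀ Z₁ : Type*} [AddCommGroup C₀] [Module R C₀]
    [AddCommGroup C₁] [Module R C₁] [AddCommGroup Z₀] [Module R Z₀] [AddCommGroup Z₁] [Module R Z₁]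
    [Module.Flat R Z₁] (d₀ : C₀ →ₗ[R] C₁) (dZ : Z₀ →ₗ[R] Z₁) (π₀ : C₀ →ₗ[R] Z₀) (π₁ : C₁ →ₗ[R] Z₁)
    (hπ : ∀ c, dZ (π₀ c) = π₁ (d₀ c)) (t : Z₀) (ht : dZ t = 0)
    (h1 : ∀ c, dZ c ∈ J • (⊤ : Submodule R Z₁) → ∃ e : R, c - e • t ∈ J • (⊤ : Submodule R Z₀))
    (c : C₀) (hc : d₀ c ∈ J • (⊤ : Submodule R C₁)) (a : Fin r → C₁) (ha : d₀ c = ∑ i, v i • a i) (i : Fin r) :
    ∃ b, π₁ (a i) - dZ b ∈ m • (⊤ : Submodule R Z₁) := by
  obtain ⟨e, he⟩ := h1 (π₀ c) (hπ c ▸ (Submodule.smul_mono le_rfl le_top)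
    (Submodule.map_smul'' J ⊤ π₁ ▸ Submodule.mem_map_of_mem hc))
  obtain ⟨b, hb⟩ := exists_coeff_killed J v hsp _ he
  refine ⟨b i, coeff_mem m v hv co hco (fun i => π₁ (a i) - dZ (b i)) ?_ i⟩
  have h : ∑ i, v i • (π₁ (a i) - dZ (b i)) = 0 := by
    simp only [smul_sub, Finset.sum_sub_distrib, ← map_smul, ← map_sum, ← ha, ← hb]
    rw [map_sub, map_smul, ht, smul_zero, sub_zero, hπ, sub_self]
  rw [h]
  exact Submodule.zero_mem _

/-- The deformation step across an ideal killed by the maximal ideal. -/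
theorem exists_lift_killed [m.IsMaximal] (hJ : J.FG) (hmJ : m * J = ⊥)
    {C₀ C₁ C₂ X₀ X₁ Y₀ Y₁ : Type*} [AddCommGroup C₀] [Module R C₀]
    [AddCommGroup C₁] [Module R C₁] [AddCommGroup C₂] [Module R C₂] [AddCommGroup X₀] [Module R X₀]
    [AddCommGroup X₁] [Module R X₁] [AddCommGroup Y₀] [Module R Y₀] [AddCommGroup Y₁] [Module R Y₁]
    [Module.Flat R C₂] [Module.Flat R X₁] [Module.Flat R Y₁]
    (d₀ : C₀ →ₗ[R] C₁) (d₁ : C₁ →ₗ[R] C₂) (dd : ∀ c, d₁ (d₀ c) = 0)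
    (dX : X₀ →ₗ[R] X₁) (dY : Y₀ →ₗ[R] Y₁) (πX₀ : C₀ →ₗ[R] X₀) (πX₁ : C₁ →ₗ[R] X₁)
    (πY₀ : C₀ →ₗ[R] Y₀) (πY₁ : C₁ →ₗ[R] Y₁) (hπX : ∀ c, dX (πX₀ c) = πX₁ (d₀ c))
    (hπY : ∀ c, dY (πY₀ c) = πY₁ (d₀ c))
    (tX : X₀) (htX : dX tX = 0)
    (hX : ∀ c, dX c ∈ J • (⊤ : Submodule R X₁) → ∃ e : R, c - e • tX ∈ J • (⊤ : Submodule R X₀))
    (tY : Y₀) (htY : dY tY = 0)
    (hY : ∀ c, dY c ∈ J • (⊤ : Submodule R Y₁) → ∃ e : R, c - e • tY ∈ J • (⊤ : Submodule R Y₀))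
    (hK : ∀ a : C₁, d₁ a ∈ m • (⊤ : Submodule R C₂) →
      (∃ b, πX₁ a - dX b ∈ m • (⊤ : Submodule R X₁)) →
      (∃ b, πY₁ a - dY b ∈ m • (⊤ : Submodule R Y₁)) →
      ∃ e, a - d₀ e ∈ m • (⊤ : Submodule R C₁))
    (c : C₀) (hc : d₀ c ∈ J • (⊤ : Submodule R C₁)) :
    ∃ c' : C₀, c' - c ∈ J • (⊤ : Submodule R C₀) ∧ d₀ c' = 0 := by
  obtain ⟨r, v, hv, co, hco, hsp⟩ := exists_frame_killed m J hJ hmJ
  obtain ⟨a, ha⟩ := exists_coeff_killed J v hsp _ hc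
  have hda : ∀ i, d₁ (a i) ∈ m • (⊤ : Submodule R C₂) := fun i => by
    refine coeff_mem m v hv co hco (fun i => d₁ (a i)) ?_ i
    have h : ∑ j, v j • d₁ (a j) = 0 := by
      simp only [← map_smul]
      rw [← map_sum, ← ha, dd]
    rw [h]
    exact Submodule.zero_mem _
  choose e he using fun i => hK (a i) (hda i) (exists_slice_killed m J v hv co hco hsp d₀ dX πX₀ πX₁ hπX tX htX hX c hc a ha i)
    (exists_slice_killed m J v hv co hco hsp d₀ dY πY₀ πY₁ hπY tY htY hY c hc a ha i)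
  refine ⟨c - ∑ i, v i • e i, ?_, ?_⟩
  · rw [sub_sub_cancel_left]
    exact Submodule.neg_mem _ (Submodule.sum_mem _ fun i _ => Submodule.smul_mem_smul (hv i) trivial)
  · rw [map_sub, map_sum, ha, ← Finset.sum_sub_distrib]
    refine Finset.sum_eq_zero fun i _ => ?_
    rw [map_smul, ← smul_sub]
    refine Submodule.smul_induction_on (he i) (fun p hp y _ => ?_) fun y z hy hz => by rw [smul_add, hy, hz, add_zero]
    have : v i * p ∈ (⊥ : Ideal R) := hmJ ▸ mul_comm p (v i) ▸ Ideal.mul_mem_mul hp (hv i)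
    rw [← mul_smul, Ideal.mem_bot.1 this, zero_smul]

end Algebra

section Main

variable {R k B₁ : Type u} [CommRing R] [Field k] [Algebra R k] [CommRing B₁] [Algebra R B₁]

variable {X Y P P₀ P₁ QX QY X₀ Y₀ X₁ Y₁ : Scheme.{u}} {fP : P ⟶ Spec (CommRingCat.of R)}
  {fQX : QX ⟶ Spec (CommRingCat.of R)} {fQY : QY ⟶ Spec (CommRingCat.of R)}
  {pX : P ⟶ QX} {pY : P ⟶ QY} {sX : QX ⟶ P} {sY : QY ⟶ P}
  {fX : X₀ ⟶ Spec (CommRingCat.of k)} {fY : Y₀ ⟶ Spec (CommRingCat.of k)}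
  {p : P₀ ⟶ X₀} {q : P₀ ⟶ Y₀} {g₀ : P₀ ⟶ P} {gX : X₀ ⟶ QX} {gY : Y₀ ⟶ QY} {jX : X₀ ⟶ P₀} {jY : Y₀ ⟶ P₀}
  {fP₁ : P₁ ⟶ Spec (CommRingCat.of B₁)} {g₁ : P₁ ⟶ P} {u₀ : P₀ ⟶ P₁}
  {fX₁ : X₁ ⟶ Spec (CommRingCat.of B₁)} {gX₁ : X₁ ⟶ QX}
  {fY₁ : Y₁ ⟶ Spec (CommRingCat.of B₁)} {gY₁ : Y₁ ⟶ QY}

theorem exists_frame_of_killed [Flat fP] [Flat fQX] [Flat fQY] [IsAffineHom gX] [IsAffineHom gY]
    [IsAffineHom sX] [IsAffineHom sY] [QX.IsSeparated] [QY.IsSeparated] [CompactSpace QX] [CompactSpace QY]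
    [P.IsSeparated] [X₀.IsSeparated] [Y₀.IsSeparated] [CompactSpace X₀]
    (hk : Function.Surjective (algebraMap R k)) (hk₁ : Function.Surjective (algebraMap R B₁))
    (hJfg : (RingHom.ker (algebraMap R B₁)).FG)
    (hmJ : RingHom.ker (algebraMap R k) * RingHom.ker (algebraMap R B₁) = ⊥)
    (hP : IsPullback pX pY fQX fQY) (hfP : pX ≫ fQX = fP) (hP₀ : IsPullback p q fX fY)
    (hΓX : Function.Bijective (Coh.toGlobal fX)) (hΓY : Function.Bijective (Coh.toGlobal fY))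
    (hΓX₁ : Function.Bijective (Coh.toGlobal fX₁)) (hΓY₁ : Function.Bijective (Coh.toGlobal fY₁))
    (sq₀ : IsPullback g₀ (p ≫ fX) fP (Spec.map (CommRingCat.ofHom (algebraMap R k))))
    (hgp : g₀ ≫ pX = p ≫ gX) (hgq : g₀ ≫ pY = q ≫ gY)
    (sqX : IsPullback gX fX fQX (Spec.map (CommRingCat.ofHom (algebraMap R k))))
    (sqY : IsPullback gY fY fQY (Spec.map (CommRingCat.ofHom (algebraMap R k))))
    (sq₁ : IsPullback g₁ fP₁ fP (Spec.map (CommRingCat.ofHom (algebraMap R B₁))))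
    (sqX₁ : IsPullback gX₁ fX₁ fQX (Spec.map (CommRingCat.ofHom (algebraMap R B₁))))
    (sqY₁ : IsPullback gY₁ fY₁ fQY (Spec.map (CommRingCat.ofHom (algebraMap R B₁))))
    (hu : u₀ ≫ g₁ = g₀)
    (x₀ : Spec (CommRingCat.of k) ⟶ X₀) (y₀ : Spec (CommRingCat.of k) ⟶ Y₀) (hy₀ : y₀ ≫ fY = 𝟙 _)
    (hjXp : jX ≫ p = 𝟙 X₀) (hjXq : jX ≫ q = fX ≫ y₀) (hjYq : jY ≫ q = 𝟙 Y₀) (hjYp : jY ≫ p = fY ≫ x₀)
    (hsX : sX ≫ fP = fQX) (hcX : gX ≫ sX = jX ≫ g₀)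
    (hsY : sY ≫ fP = fQY) (hcY : gY ≫ sY = jY ≫ g₀)
    (L : P.Modules) (hL : PicF.IsInvertible L)
    (θ₁ : (Scheme.Modules.pullback g₁).obj L ≅ Coh.structureModule P₁)
    (θX : (Scheme.Modules.pullback sX).obj L ≅ Coh.structureModule QX)
    (θY : (Scheme.Modules.pullback sY).obj L ≅ Coh.structureModule QY) :
    ∃ (σ : Γ(L, ⊤)) (O : P.Opens), (∀ y : P₁, g₁ y ∈ O) ∧ IsFrame L O (rs L le_top σ) := by
  classical
  haveI := Groth.L21.Extend.isQCoh_of_isInvertible hL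
  obtain ⟨S, W, hWc, hW⟩ := Groth.L17.BC.exists_affine_cover (X := QX)
  obtain ⟨T, V, hVc, hV⟩ := Groth.L17.BC.exists_affine_cover (X := QY)
  let W' : Fin S → QX.Opens := fun s => W ⟨s⟩
  let V' : Fin T → QY.Opens := fun t => V ⟨t⟩
  have hW' : ∀ s, IsAffineOpen (W' s) := fun s => by simpa using hW 0 fun _ => ⟨s⟩
  have hV' : ∀ t, IsAffineOpen (V' t) := fun t => by simpa using hV 0 fun _ => ⟨t⟩
  let W₀ : Fin S → X₀.Opens := fun s => gX ⁻¹ᵁ W' s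
  let V₀ : Fin T → Y₀.Opens := fun t => gY ⁻¹ᵁ V' t
  have hW₀c : ⨆ s, W₀ s = ⊤ := top_unique fun x _ => by
    obtain ⟨i, hi⟩ := Opens.mem_iSup.1 (hWc.ge (Opens.mem_top (gX x)))
    exact Opens.mem_iSup.2 ⟨i.down, hi⟩
  have hV₀c : ⨆ t, V₀ t = ⊤ := top_unique fun x _ => by
    obtain ⟨i, hi⟩ := Opens.mem_iSup.1 (hVc.ge (Opens.mem_top (gY x)))
    exact Opens.mem_iSup.2 ⟨i.down, hi⟩
  let ι : Type u := ULift.{u} (Fin S × Fin T)
  let U : ι → P.Opens := fun i => boxU W' V' pX pY i.down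
  have hU : ∀ i, IsAffineOpen (U i) := fun i => by
    haveI : IsAffine (W' i.down.1).toScheme := hW' _
    haveI : IsAffine (V' i.down.2).toScheme := hV' _
    haveI : IsAffine (⊤ : (Spec (CommRingCat.of R)).Opens).toScheme := isAffineOpen_top _
    exact .of_isIso (Scheme.Hom.isPullback_resLE hP (US := ⊤) (UX := W' i.down.1) (UT := V' i.down.2)
      le_top le_top rfl).isoPullback.hom
  let bx : ι → P₀.Opens := fun i => boxU W₀ V₀ p q i.down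
  have hU₀ : ∀ i, g₀ ⁻¹ᵁ U i = bx i := fun i => by
    show g₀ ⁻¹ᵁ (pX ⁻¹ᵁ _ ⊓ pY ⁻¹ᵁ _) = p ⁻¹ᵁ (gX ⁻¹ᵁ _) ⊓ q ⁻¹ᵁ (gY ⁻¹ᵁ _)
    rw [Scheme.Hom.preimage_inf, ← Scheme.Hom.comp_preimage, ← Scheme.Hom.comp_preimage, hgp, hgq,
      Scheme.Hom.comp_preimage, Scheme.Hom.comp_preimage]
  have haff : ∀ (n : ℕ) (a : Fin (n + 1) → ι), IsAffineOpen (⨅ k, U (a k)) := fun n a =>
    IsAffineOpen.iInf fun k => hU _
  have hcov : ⨆ i, U i = ⊤ := top_unique fun x _ => by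
    obtain ⟨s, hs⟩ := Opens.mem_iSup.1 (hWc.ge (Opens.mem_top (pX x)))
    obtain ⟨t, ht⟩ := Opens.mem_iSup.1 (hVc.ge (Opens.mem_top (pY x)))
    exact Opens.mem_iSup.2 ⟨⟨(s.down, t.down)⟩, hs, ht⟩
  have hcovc : ∀ {Q : Scheme.{u}} (s : Q ⟶ P), ⨆ i, Ub s U i = ⊤ := fun {Q} s => top_unique fun x _ => by
    obtain ⟨i, hi⟩ := Opens.mem_iSup.1 (hcov.ge (Opens.mem_top (s x)))
    exact Opens.mem_iSup.2 ⟨i, hi⟩
  have hQ : ∀ {Q : Scheme.{u}} (fQ : Q ⟶ Spec (CommRingCat.of R)) [Flat fQ] (s : Q ⟶ P) [IsAffineHom s] (i : ℤ),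
      Module.Flat R (C (Coh.toGlobal fQ) (Coh.structureModule Q) (Ub s U) i) := fun {Q} fQ _ s _ i =>
    Groth.L17.BC.flat_K fQ (Ub s U) _ (flat_sections fQ (Groth.L18.Ample.isInvertible_structureModule Q))
      (isAffineOpen_iInf_preimage s U haff) i
  let m := RingHom.ker (algebraMap R k)
  let J := RingHom.ker (algebraMap R B₁)
  haveI : m.IsMaximal := RingHom.ker_isMaximal_of_surjective _ hk
  haveI : Module.Flat R (C (Coh.toGlobal fP) L U (0 + 1 + 1)) :=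
    Groth.L17.BC.flat_K fP U L (flat_sections fP hL) haff _
  haveI := hQ fQX sX (0 + 1)
  haveI := hQ fQY sY (0 + 1)
  let f₀ := p ≫ fX
  let θ : (Scheme.Modules.pullback g₀).obj L ≅ Coh.structureModule P₀ :=
    ((Scheme.Modules.pullbackCongr hu).app L).symm ≪≫ ((Scheme.Modules.pullbackComp u₀ g₁).app L).symm ≪≫
      (Scheme.Modules.pullback u₀).mapIso θ₁ ≪≫ Groth.L29.LocFree.pullbackUnitIso u₀
  let t₀ := Triv.ofIso g₀ L θ
  let t₁ := Triv.ofIso g₁ L θ₁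
  let tX := Triv.ofIso sX L θX
  let tY := Triv.ofIso sY L θY
  have hcm := compat_of_isPullback fP f₀ g₀ sq₀
  have hcm₁ := compat_of_isPullback fP fP₁ g₁ sq₁
  have hcomp : ∀ {Q : Scheme.{u}} (fQ : Q ⟶ Spec (CommRingCat.of R)) (s : Q ⟶ P), s ≫ fP = fQ →
      ∀ r, s.appTop (Coh.toGlobal fP r) = Coh.toGlobal fQ r := fun {Q} fQ s hs r => by
    rw [← hs]; exact congr($((Scheme.Hom.comp_appTop s fP).symm) _)
  let d₀ := dL (Coh.toGlobal fP) L U 0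
  let πX := fun i => ECl U (ρ'' := Coh.toGlobal fQX) (hcomp fQX sX hsX) tX i
  let πY := fun i => ECl U (ρ'' := Coh.toGlobal fQY) (hcomp fQY sY hsY) tY i
  have hK : ∀ a : C (Coh.toGlobal fP) L U (0 + 1),
      dL (Coh.toGlobal fP) L U (0 + 1) a ∈ m • (⊤ : Submodule R _) →
      (∃ b, πX (0 + 1) a - dL _ _ _ 0 b ∈ m • (⊤ : Submodule R _)) →
      (∃ b, πY (0 + 1) a - dL _ _ _ 0 b ∈ m • (⊤ : Submodule R _)) →
      ∃ e, a - d₀ e ∈ m • (⊤ : Submodule R (C (Coh.toGlobal fP) L U (0 + 1))) := by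
    intro a ha ⟨b, hb⟩ ⟨b', hb'⟩
    obtain ⟨βX, hβX⟩ := exists_slice_bound U hL hsX sq₀ sqX hcX tX t₀ a b hb
    obtain ⟨βY, hβY⟩ := exists_slice_bound U hL hsY sq₀ sqY hcY tY t₀ a b' hb'
    let a' := EC (Coh.toGlobal f₀) U t₀ (0 + 1) a
    have hz : dL (Coh.toGlobal f₀) (Coh.structureModule P₀) (Ub g₀ U) (0 + 1) a' = 0 := by
      rw [← EC_d]
      exact EC_eq_zero_of_mem _ hcm U _ _ ha
    have hle : ∀ i l : ι, bx i ⊓ bx l ≤ opn (Ub g₀ U) (i1 i l).1 := fun i l =>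
      (inf_le_inf (hU₀ i).ge (hU₀ l).ge).trans (le_opn1 (Ub g₀ U) i l)
    refine Exists.elim (kunneth hP₀ W₀ V₀ (fun s => (hW' s).preimage gX) (fun t => (hV' t).preimage gY)
      hW₀c hV₀c hΓX hΓY x₀ y₀ hy₀ jX hjXp hjXq jY hjYq hjYp
      (fun i l => ro (hle ⟨i⟩ ⟨l⟩) (a' (i1 ⟨i⟩ ⟨l⟩))) (fun i l r O hil hlr hir => ?_)
      (fun i => ro (jX.preimage_mono (hU₀ ⟨i⟩).ge) (βX ⟨i⟩)) (fun i l O hi hl => ?_)
      (fun i => ro (jY.preimage_mono (hU₀ ⟨i⟩).ge) (βY ⟨i⟩)) (fun i l O hi hl => ?_)) fun e he => ?_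
    · have hO : O ≤ opn (Ub g₀ U) (i2 (⟨i⟩ : ι) ⟨l⟩ ⟨r⟩).1 :=
        (le_inf (le_inf ((hil.trans inf_le_left).trans (hU₀ ⟨i⟩).ge) ((hlr.trans inf_le_left).trans (hU₀ ⟨l⟩).ge))
          ((hlr.trans inf_le_right).trans (hU₀ ⟨r⟩).ge)).trans (le_opn2 (Ub g₀ U) ⟨i⟩ ⟨l⟩ ⟨r⟩)
      have h1 := dL_i2 _ _ _ a' (⟨i⟩ : ι) ⟨l⟩ ⟨r⟩ hO (hlr.trans (hle ⟨l⟩ ⟨r⟩)) (hir.trans (hle ⟨i⟩ ⟨r⟩))
        (hil.trans (hle ⟨i⟩ ⟨l⟩))
      rw [hz] at h1
      rw [ro_ro, ro_ro, ro_ro]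
      exact h1.symm.trans (map_zero _)
    · have h1 := hβX ⟨i⟩ ⟨l⟩ O (hi.trans (jX.preimage_mono (hU₀ ⟨i⟩).ge))
        (hl.trans (jX.preimage_mono (hU₀ ⟨l⟩).ge))
      rw [appLE_ro] at h1 ⊢
      rw [ro_ro, ro_ro]
      exact h1
    · have h1 := hβY ⟨i⟩ ⟨l⟩ O (hi.trans (jY.preimage_mono (hU₀ ⟨i⟩).ge))
        (hl.trans (jY.preimage_mono (hU₀ ⟨l⟩).ge))
      rw [appLE_ro] at h1 ⊢
      rw [ro_ro, ro_ro]
      exact h1
    · let y : C (Coh.toGlobal f₀) (Coh.structureModule P₀) (Ub g₀ U) 0 := fun a =>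
        ro ((iInf_le (fun k : Fin a.1.length => Ub g₀ U a.1[k.1]) ⟨0, List.length_pos_iff.2 a.2.2⟩).trans
          (hU₀ _).le) (e (a.1[0]'(List.length_pos_iff.2 a.2.2)).down)
      obtain ⟨x, hx⟩ := EC_surjective U sq₀ hk haff θ 0 y
      refine ⟨x, mem_smul_of_EC_eq_zero U sq₀ hk haff hL θ t₀ (0 + 1) _ ?_⟩
      rw [map_sub, EC_d, sub_eq_zero]
      funext c
      obtain ⟨i, l, rfl⟩ := exists_eq_i1 c
      have h1 := dL_i1 (Coh.toGlobal f₀) (Coh.structureModule P₀) (Ub g₀ U) y i l le_rfl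
        ((opn1_le (Ub g₀ U) i l).trans (inf_le_right.trans (le_opn0 (Ub g₀ U) l)))
        ((opn1_le (Ub g₀ U) i l).trans (inf_le_left.trans (le_opn0 (Ub g₀ U) i)))
      rw [rs_self, ← hx] at h1
      refine Eq.trans ?_ h1.symm
      rw [hx]
      have h2 := congrArg (ro ((opn1_le (Ub g₀ U) i l).trans (inf_le_inf (hU₀ i).le (hU₀ l).le)))
        (he i.down l.down)
      rw [ro_ro, ro_self, ro_sub, ro_ro, ro_ro] at h2
      refine h2.trans ?_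
      show _ = ro _ (ro _ (e l.down)) - ro _ (ro _ (e i.down))
      rw [ro_ro, ro_ro]
  obtain ⟨c₁, hc₁⟩ := EC_surjective U sq₁ hk₁ haff θ₁ 0 (oneC (Coh.toGlobal fP₁) (Ub g₁ U))
  have hdc₁ : d₀ c₁ ∈ J • (⊤ : Submodule R (C (Coh.toGlobal fP) L U (0 + 1))) := by
    refine mem_smul_of_EC_eq_zero U sq₁ hk₁ haff hL θ₁ t₁ (0 + 1) _ ?_
    rw [EC_d, hc₁, dL_oneC]
  obtain ⟨x, hxc, hx⟩ := exists_lift_killed m J hJfg hmJ d₀ (dL (Coh.toGlobal fP) L U (0 + 1))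
        (fun x => Groth.L17.BC.dL_dL (Coh.toGlobal fP) L U 0 x)
        (dL (Coh.toGlobal fQX) (Coh.structureModule QX) (Ub sX U) 0)
        (dL (Coh.toGlobal fQY) (Coh.structureModule QY) (Ub sY U) 0)
        (πX 0) (πX (0 + 1)) (πY 0) (πY (0 + 1))
        (fun x => (EC_d _ U tX 0 x).symm) (fun x => (EC_d _ U tY 0 x).symm)
        (oneC _ _) (dL_oneC _ _)
        (exists_sub_smul_oneC hk₁ sqX₁ hΓX₁ (Ub sX U) (hcovc sX) (isAffineOpen_iInf_preimage sX U haff))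
        (oneC _ _) (dL_oneC _ _)
        (exists_sub_smul_oneC hk₁ sqY₁ hΓY₁ (Ub sY U) (hcovc sY) (isAffineOpen_iInf_preimage sY U haff))
        hK c₁ hdc₁
  have hx1 : EC (Coh.toGlobal fP₁) U t₁ 0 x = oneC (Coh.toGlobal fP₁) (Ub g₁ U) := by
    rw [← hc₁, ← sub_eq_zero, ← map_sub]
    exact EC_eq_zero_of_mem _ hcm₁ U _ _ hxc
  exact exists_frame_of_unit_cycle U hL t₁ (Coh.toGlobal fP) (Coh.toGlobal fP₁) hcov x hx hx1

end Main

end Groth.L08.Cube
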