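import Groth.Agent.L08.Cube.Fibrewise
import Mathlib.CategoryTheory.Monoidal.Cartesian.Over
import Mathlib.AlgebraicGeometry.Morphisms.Flat
import Mathlib.AlgebraicGeometry.PullbackCarrier

/-!
# The theorem of the cube over a field
-/

set_option autoImplicit false
set_option linter.style.haveILetI false
set_option linter.unusedSectionVars false
set_option backward.isDefEq.respectTransparency false

universe u

open CategoryTheory CategoryTheory.Limits MonoidalCategory CartesianMonoidalCategory AlgebraicGeometry TopologicalSpace Opposite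

noncomputable section

namespace Groth.L08.Cube

open Groth.L18.Frame (rs ro IsFrame pull)

/-- A trivial module pulls back to a trivial module. -/
theorem trivial_of_eq {T Q P : Scheme.{u}} (h : T ⟶ Q) (g : Q ⟶ P) {k : T ⟶ P} (e : h ≫ g = k) (L : P.Modules)
    (θ : Nonempty ((Scheme.Modules.pullback k).obj L ≅ Coh.structureModule T)) :
    Nonempty ((Scheme.Modules.pullback h).obj ((Scheme.Modules.pullback g).obj L) ≅ Coh.structureModule T) := by
  obtain ⟨θ⟩ := θ
  exact ⟨(Scheme.Modules.pullbackComp h g).app L ≪≫ (Scheme.Modules.pullbackCongr e).app L ≪≫ θ⟩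

theorem trivial_comp {T Q P : Scheme.{u}} (h : T ⟶ Q) (g : Q ⟶ P) {k : T ⟶ P} (e : h ≫ g = k) (L : P.Modules)
    (θ : Nonempty ((Scheme.Modules.pullback g).obj L ≅ Coh.structureModule Q)) :
    Nonempty ((Scheme.Modules.pullback k).obj L ≅ Coh.structureModule T) := by
  obtain ⟨θ⟩ := θ
  exact ⟨((Scheme.Modules.pullbackCongr e).app L).symm ≪≫ ((Scheme.Modules.pullbackComp h g).app L).symm ≪≫
    (Scheme.Modules.pullback h).mapIso θ ≪≫ Groth.L29.LocFree.pullbackUnitIso h⟩

variable {B : Scheme.{u}}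

theorem isPullback_prod (A W : Over B) : IsPullback (fst A W).left (snd A W).left A.hom W.hom :=
  IsPullback.of_hasPullback A.hom W.hom

theorem isPullback_whiskerLeft (A : Over B) {W Z : Over B} (j : W ⟶ Z) :
    IsPullback (A ◁ j).left (snd A W).left (snd A Z).left j.left := by
  refine IsPullback.of_right (h₁₂ := (fst A Z).left) (v₁₃ := A.hom) (h₂₂ := Z.hom) ?_ ?_ (isPullback_prod A Z)
  · rw [← Over.comp_left, whiskerLeft_fst, Over.w j]
    exact isPullback_prod A W
  · exact congr(($(whiskerLeft_snd A j)).left)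

theorem isPullback_section (A : Over B) {W : Over B} (w : 𝟙_ (Over B) ⟶ W) :
    IsPullback (lift (𝟙 A) (toUnit A ≫ w)).left A.hom (snd A W).left w.left := by
  refine IsPullback.of_right (h₁₂ := (fst A W).left) (v₁₃ := A.hom) (h₂₂ := W.hom) ?_ ?_ (isPullback_prod A W)
  · rw [← Over.comp_left, lift_fst, show w.left ≫ W.hom = 𝟙 B from Over.w w, Over.id_left]
    exact IsPullback.of_horiz_isIso ⟨by simp⟩
  · exact congr(($(lift_snd (𝟙 A) (toUnit A ≫ w))).left)

theorem flat_snd (A W : Over B) [Flat A.hom] : Flat (snd A W).left :=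
  MorphismProperty.of_isPullback (isPullback_prod A W) ‹Flat A.hom›

theorem isProper_snd (A W : Over B) [IsProper A.hom] : IsProper (snd A W).left :=
  MorphismProperty.of_isPullback (isPullback_prod A W) ‹IsProper A.hom›

theorem isAffineHom_slice {A W Q : Over B} [IsSeparated A.hom] [IsSeparated W.hom] (s : Q ⟶ A ⊗ W)
    (r : A ⊗ W ⟶ Q) (h : s ≫ r = 𝟙 Q) : IsAffineHom s.left := by
  haveI : IsSeparated (fst A W).left :=
    MorphismProperty.of_isPullback (isPullback_prod A W).flip ‹IsSeparated W.hom›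
  haveI : IsSeparated (r.left ≫ Q.hom) := by
    rw [Over.w r]
    exact inferInstanceAs (IsSeparated ((fst A W).left ≫ A.hom))
  haveI : IsSeparated r.left := IsSeparated.of_comp r.left Q.hom
  haveI : IsClosedImmersion (s.left ≫ r.left) := by
    rw [← Over.comp_left, h]
    exact inferInstanceAs (IsClosedImmersion (𝟙 Q.left))
  haveI := IsClosedImmersion.of_comp s.left r.left
  infer_instance

section Local

variable {k : Type u} [Field k] (X Y Z : Over (Spec (CommRingCat.of k)))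
  [IsProper X.hom] [GeometricallyConnected X.hom] [GeometricallyReduced X.hom]
  [IsProper Y.hom] [GeometricallyConnected Y.hom] [GeometricallyReduced Y.hom]
  [LocallyOfFiniteType Z.hom]
  (x₀ : 𝟙_ (Over (Spec (CommRingCat.of k))) ⟶ X) (y₀ : 𝟙_ (Over (Spec (CommRingCat.of k))) ⟶ Y)
  (z₀ : 𝟙_ (Over (Spec (CommRingCat.of k))) ⟶ Z)

/-- The projection to the last factor. -/
abbrev prLast : X ⊗ Y ⊗ Z ⟶ Z := snd X (Y ⊗ Z) ≫ snd Y Z

theorem exists_nhd_trivial (L : (X ⊗ Y ⊗ Z).left.Modules) (hL : PicF.IsInvertible L)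
    (hx : Nonempty ((Scheme.Modules.pullback (lift (toUnit (Y ⊗ Z) ≫ x₀) (𝟙 (Y ⊗ Z))).left).obj L ≅ Coh.structureModule (Y ⊗ Z).left))
    (hy : Nonempty ((Scheme.Modules.pullback (lift (fst X Z) (lift (toUnit (X ⊗ Z) ≫ y₀) (snd X Z))).left).obj L ≅ Coh.structureModule (X ⊗ Z).left))
    (hz : Nonempty ((Scheme.Modules.pullback (lift (fst X Y) (lift (snd X Y) (toUnit (X ⊗ Y) ≫ z₀))).left).obj L ≅ Coh.structureModule (X ⊗ Y).left)) :
    ∃ U : Z.left.Opens, z₀.left (default : PrimeSpectrum k) ∈ U ∧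
      ∀ (T : Scheme.{u}) (h : T ⟶ (X ⊗ Y ⊗ Z).left), (∀ t, (prLast X Y Z).left (h t) ∈ U) →
        Nonempty ((Scheme.Modules.pullback h).obj L ≅ Coh.structureModule T) := by
  haveI : IsLocallyNoetherian Z.left := LocallyOfFiniteType.isLocallyNoetherian Z.hom
  obtain ⟨_, ⟨V, hV, rfl⟩, hzV, -⟩ := Z.left.isBasis_affineOpens.exists_subset_of_mem_open
    (Set.mem_univ (z₀.left (default : PrimeSpectrum k))) isOpen_univ
  let R : CommRingCat.{u} := Γ(Z.left, V)
  haveI : IsNoetherianRing R := IsLocallyNoetherian.component_noetherian ⟨V, hV⟩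
  let W : Over (Spec (CommRingCat.of k)) := Over.mk (hV.fromSpec ≫ Z.hom)
  let j : W ⟶ Z := Over.homMk hV.fromSpec
  have hr : Set.range z₀.left ⊆ Set.range hV.fromSpec := by
    rintro _ ⟨t, rfl⟩
    rw [hV.range_fromSpec, Subsingleton.elim (α := PrimeSpectrum k) t default]
    exact hzV
  let z₁ : Spec (CommRingCat.of k) ⟶ Spec R := IsOpenImmersion.lift hV.fromSpec z₀.left hr
  have hz₁ : z₁ ≫ hV.fromSpec = z₀.left := IsOpenImmersion.lift_fac _ _ _
  let z' : 𝟙_ (Over (Spec (CommRingCat.of k))) ⟶ W := Over.homMk z₁ (by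
    show z₁ ≫ hV.fromSpec ≫ Z.hom = 𝟙 _
    rw [← Category.assoc, hz₁]
    exact Over.w z₀)
  have hzj : z' ≫ j = z₀ := Over.OverMorphism.ext hz₁
  letI : Algebra R k := (Spec.preimage z₁).hom.toAlgebra
  have hz₁' : Spec.map (CommRingCat.ofHom (algebraMap R k)) = z₁ := Spec.map_preimage z₁
  have hk : Function.Surjective (algebraMap R k) := by
    have h1 : Spec.preimage (hV.fromSpec ≫ Z.hom) ≫ Spec.preimage z₁ = 𝟙 _ := Spec.map_injective (by
      rw [Spec.map_comp, Spec.map_preimage, Spec.map_preimage, Spec.map_id]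
      exact Over.w z')
    exact fun a => ⟨Spec.preimage (hV.fromSpec ≫ Z.hom) a, congr($h1 a)⟩
  haveI : IsAffine W.left := inferInstanceAs (IsAffine (Spec R))
  haveI : IsAffineHom W.hom := inferInstance
  haveI : IsSeparated W.hom := inferInstance
  let A := X ⊗ Y
  haveI : IsProper A.hom := by
    haveI := isProper_snd X Y
    haveI : IsProper (fst X Y).left := MorphismProperty.of_isPullback (isPullback_prod X Y).flip ‹IsProper Y.hom›
    exact inferInstanceAs (IsProper ((fst X Y).left ≫ X.hom))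
  haveI := isProper_snd A W
  haveI := flat_snd A W
  haveI := flat_snd X W
  haveI := flat_snd Y W
  haveI : IsAffineHom (fst A W).left :=
    MorphismProperty.of_isPullback (isPullback_prod A W).flip ‹IsAffineHom W.hom›
  haveI : CompactSpace X.left := QuasiCompact.compactSpace_of_compactSpace X.hom
  haveI : CompactSpace Y.left := QuasiCompact.compactSpace_of_compactSpace Y.hom
  haveI : X.left.IsSeparated := ⟨by rw [← terminal.comp_from X.hom]; infer_instance⟩
  haveI : Y.left.IsSeparated := ⟨by rw [← terminal.comp_from Y.hom]; infer_instance⟩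
  haveI : A.left.IsSeparated := ⟨by rw [← terminal.comp_from A.hom]; infer_instance⟩
  haveI : Nonempty X.left := ⟨x₀.left (default : PrimeSpectrum k)⟩
  haveI : Nonempty Y.left := ⟨y₀.left (default : PrimeSpectrum k)⟩
  let φ : A ⊗ W ⟶ X ⊗ Y ⊗ Z := A ◁ j ≫ (α_ X Y Z).hom
  let sX : X ⊗ W ⟶ A ⊗ W := lift (lift (fst X W) (toUnit _ ≫ y₀)) (snd X W)
  let sY : Y ⊗ W ⟶ A ⊗ W := lift (lift (toUnit _ ≫ x₀) (fst Y W)) (snd Y W)
  haveI : IsAffineHom sX.left := isAffineHom_slice sX (lift (fst A W ≫ fst X Y) (snd A W)) (by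
    apply CartesianMonoidalCategory.hom_ext <;> simp [sX, A])
  haveI : IsAffineHom sY.left := isAffineHom_slice sY (lift (fst A W ≫ snd X Y) (snd A W)) (by
    apply CartesianMonoidalCategory.hom_ext <;> simp [sY, A])
  let jX : X ⟶ A := lift (𝟙 X) (toUnit X ≫ y₀)
  let jY : Y ⟶ A := lift (toUnit Y ≫ x₀) (𝟙 Y)
  let g₀ : A ⟶ A ⊗ W := lift (𝟙 A) (toUnit A ≫ z')
  let gX : X ⟶ X ⊗ W := lift (𝟙 X) (toUnit X ≫ z')
  let gY : Y ⟶ Y ⊗ W := lift (𝟙 Y) (toUnit Y ≫ z')
  let M := (Scheme.Modules.pullback φ.left).obj L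
  have hM : PicF.IsInvertible M := Groth.L18.Ample.isInvertible_pullback φ.left hL
  obtain ⟨θ⟩ := trivial_of_eq g₀.left φ.left (k := (lift (fst X Y) (lift (snd X Y) (toUnit (X ⊗ Y) ≫ z₀))).left)
    (congrArg (fun m : A ⟶ X ⊗ Y ⊗ Z => m.left) (show g₀ ≫ φ = _ by
      apply CartesianMonoidalCategory.hom_ext
      · simp [g₀, φ, A]
      · apply CartesianMonoidalCategory.hom_ext <;> simp [g₀, φ, A, hzj])) L hz
  obtain ⟨θX⟩ := trivial_of_eq sX.left φ.left rfl L (trivial_comp (X ◁ j).left _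
    (congrArg (fun m : X ⊗ W ⟶ X ⊗ Y ⊗ Z => m.left)
      (show X ◁ j ≫ lift (fst X Z) (lift (toUnit (X ⊗ Z) ≫ y₀) (snd X Z)) = sX ≫ φ by
        apply CartesianMonoidalCategory.hom_ext
        · simp [sX, φ, A]
        · apply CartesianMonoidalCategory.hom_ext <;> simp [sX, φ, A])) L hy)
  obtain ⟨θY⟩ := trivial_of_eq sY.left φ.left rfl L (trivial_comp (Y ◁ j).left _
    (congrArg (fun m : Y ⊗ W ⟶ X ⊗ Y ⊗ Z => m.left)
      (show Y ◁ j ≫ lift (toUnit (Y ⊗ Z) ≫ x₀) (𝟙 (Y ⊗ Z)) = sY ≫ φ by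
        apply CartesianMonoidalCategory.hom_ext
        · simp [sY, φ, A]
        · apply CartesianMonoidalCategory.hom_ext <;> simp [sY, φ, A])) L hx)
  obtain ⟨σ, O, hO, hσ⟩ := exists_frame_near_fibre (R := R) (k := k) (fX := X.hom) (fY := Y.hom)
    (p := (fst X Y).left) (q := (snd X Y).left) (fP := (snd A W).left) (g₀ := g₀.left) (π := (fst A W).left)
    (fQX := (snd X W).left) (sX := sX.left) (gX := gX.left) (jX := jX.left)
    (fQY := (snd Y W).left) (sY := sY.left) (gY := gY.left) (jY := jY.left)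
    hk (isPullback_prod X Y) (bijective_toGlobal_of_geometric X.hom) (bijective_toGlobal_of_geometric Y.hom)
    (by rw [hz₁']; exact isPullback_section A z')
    (congrArg (fun m : A ⟶ A => m.left) (show g₀ ≫ fst A W = 𝟙 A by simp [g₀]))
    x₀.left y₀.left (Over.w y₀)
    (congrArg (fun m : X ⟶ X => m.left) (show jX ≫ fst X Y = 𝟙 X by simp [jX]))
    (congrArg (fun m : X ⟶ Y => m.left) (show jX ≫ snd X Y = toUnit X ≫ y₀ by simp [jX]))
    (congrArg (fun m : Y ⟶ Y => m.left) (show jY ≫ snd X Y = 𝟙 Y by simp [jY]))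
    (congrArg (fun m : Y ⟶ X => m.left) (show jY ≫ fst X Y = toUnit Y ≫ x₀ by simp [jY]))
    (congrArg (fun m : X ⊗ W ⟶ W => m.left) (show sX ≫ snd A W = snd X W by simp [sX]))
    (by rw [hz₁']; exact isPullback_section X z')
    (congrArg (fun m : X ⟶ A ⊗ W => m.left) (show gX ≫ sX = jX ≫ g₀ by
      apply CartesianMonoidalCategory.hom_ext
      · apply CartesianMonoidalCategory.hom_ext <;> simp [gX, sX, jX, g₀, A]
      · simp [gX, sX, jX, g₀, A]))
    (congrArg (fun m : Y ⊗ W ⟶ W => m.left) (show sY ≫ snd A W = snd Y W by simp [sY]))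
    (by rw [hz₁']; exact isPullback_section Y z')
    (congrArg (fun m : Y ⟶ A ⊗ W => m.left) (show gY ≫ sY = jY ≫ g₀ by
      apply CartesianMonoidalCategory.hom_ext
      · apply CartesianMonoidalCategory.hom_ext <;> simp [gY, sY, jY, g₀, A]
      · simp [gY, sY, jY, g₀, A]))
    M hM θ θX θY
  let fP := (snd A W).left
  let C : Set (Spec R) := fP '' (O : Set (A ⊗ W).left)ᶜ
  have hC : IsClosed C := fP.isClosedMap _ O.2.isClosed_compl
  let U₁ : (Spec R).Opens := ⟨Cᶜ, hC.isOpen_compl⟩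
  have hU₁ : z₁ (default : PrimeSpectrum k) ∈ U₁ := by
    rintro ⟨y, hy, hyz⟩
    obtain ⟨y₁, hy₁, -⟩ := Scheme.exists_preimage_of_isPullback (isPullback_section A z') y
      (default : PrimeSpectrum k) hyz
    exact hy (hy₁ ▸ hO y₁)
  refine ⟨hV.fromSpec ''ᵁ U₁, ⟨z₁ (default : PrimeSpectrum k), hU₁,
    congr(($hz₁ : _ ⟶ Z.left) (default : PrimeSpectrum k))⟩, fun T h hT => ?_⟩
  have hr' : Set.range (h ≫ (prLast X Y Z).left) ⊆ Set.range hV.fromSpec := by
    rintro _ ⟨t, rfl⟩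
    obtain ⟨r, -, e⟩ := hT t
    exact ⟨r, e⟩
  have sqφ : IsPullback φ.left fP (prLast X Y Z).left hV.fromSpec := by
    have h2 : IsPullback (α_ X Y Z).hom.left (snd (X ⊗ Y) Z).left (prLast X Y Z).left (𝟙 Z.left) :=
      IsPullback.of_horiz_isIso ⟨congrArg (fun m : (X ⊗ Y) ⊗ Z ⟶ Z => m.left)
        (show (α_ X Y Z).hom ≫ prLast X Y Z = snd (X ⊗ Y) Z ≫ 𝟙 Z by simp [prLast])⟩
    have h3 := (isPullback_whiskerLeft A j).paste_horiz h2
    rwa [Category.comp_id] at h3
  let hZ : T ⟶ Spec R := IsOpenImmersion.lift hV.fromSpec (h ≫ (prLast X Y Z).left) hr'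
  have hhZ : hZ ≫ hV.fromSpec = h ≫ (prLast X Y Z).left := IsOpenImmersion.lift_fac _ _ _
  let h' : T ⟶ (A ⊗ W).left := sqφ.lift h hZ hhZ.symm
  have hmem : ⊤ ≤ h' ⁻¹ᵁ O := fun t _ => by
    by_contra hcon
    obtain ⟨r, hr₁, e⟩ := hT t
    have e1 : hV.fromSpec (hZ t) = hV.fromSpec r :=
      (congr(($hhZ : _ ⟶ Z.left) t)).trans e.symm
    rw [← hV.fromSpec.isOpenEmbedding.injective e1] at hr₁
    refine hr₁ ⟨h' t, hcon, ?_⟩
    exact congr(($(sqφ.lift_snd h hZ hhZ.symm) : _ ⟶ Spec R) t)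
  obtain ⟨e⟩ := nonempty_iso_of_frame_top ((hσ.pullback h' M).mono hmem)
  exact ⟨((Scheme.Modules.pullbackCongr (sqφ.lift_fst h hZ hhZ.symm)).app L).symm ≪≫
    ((Scheme.Modules.pullbackComp h' φ.left).app L).symm ≪≫ e⟩

end Local

end Groth.L08.Cube

namespace Groth.L08.Cube

variable {k : Type u} [Field k] (X Y Z : Over (Spec (CommRingCat.of k)))
  [IsProper X.hom] [GeometricallyIntegral X.hom]
  [IsProper Y.hom] [GeometricallyReduced Y.hom] [GeometricallyConnected Y.hom]
  [LocallyOfFiniteType Z.hom] [GeometricallyIntegral Z.hom]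

/-- The theorem of the cube over a field. -/
theorem cube_field (x₀ : 𝟙_ (Over (Spec (CommRingCat.of k))) ⟶ X) (y₀ : 𝟙_ (Over (Spec (CommRingCat.of k))) ⟶ Y)
    (z₀ : 𝟙_ (Over (Spec (CommRingCat.of k))) ⟶ Z)
    (L : (X ⊗ Y ⊗ Z).left.Modules) (hL : PicF.IsInvertible L)
    (hx : Nonempty ((Scheme.Modules.pullback (lift (toUnit (Y ⊗ Z) ≫ x₀) (𝟙 (Y ⊗ Z))).left).obj L ≅ Coh.structureModule (Y ⊗ Z).left))
    (hy : Nonempty ((Scheme.Modules.pullback (lift (fst X Z) (lift (toUnit (X ⊗ Z) ≫ y₀) (snd X Z))).left).obj L ≅ Coh.structureModule (X ⊗ Z).left))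
    (hz : Nonempty ((Scheme.Modules.pullback (lift (fst X Y) (lift (snd X Y) (toUnit (X ⊗ Y) ≫ z₀))).left).obj L ≅ Coh.structureModule (X ⊗ Y).left)) :
    Nonempty (L ≅ Coh.structureModule (X ⊗ Y ⊗ Z).left) := by
  obtain ⟨U, hzU, hU⟩ := exists_nhd_trivial X Y Z x₀ y₀ z₀ L hL hx hy hz
  haveI : IsLocallyNoetherian Z.left := LocallyOfFiniteType.isLocallyNoetherian Z.hom
  haveI : IsIntegral Z.left := GeometricallyIntegral.isIntegral_of_subsingleton Z.hom
  let B := Y ⊗ Z
  haveI : LocallyOfFiniteType B.hom := by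
    haveI : LocallyOfFiniteType (fst Y Z).left :=
      MorphismProperty.of_isPullback (isPullback_prod Y Z).flip ‹LocallyOfFiniteType Z.hom›
    exact inferInstanceAs (LocallyOfFiniteType ((fst Y Z).left ≫ Y.hom))
  haveI : IsLocallyNoetherian B.left := LocallyOfFiniteType.isLocallyNoetherian B.hom
  haveI : IsReduced B.left := inferInstanceAs (IsReduced (pullback Y.hom Z.hom))
  let f := (snd X B).left
  haveI := isProper_snd X B
  haveI := flat_snd X B
  haveI : GeometricallyIntegral f := MorphismProperty.of_isPullback (isPullback_prod X B) ‹GeometricallyIntegral X.hom›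
  haveI : LocallyOfFinitePresentation X.hom := inferInstance
  haveI : LocallyOfFinitePresentation f :=
    MorphismProperty.of_isPullback (isPullback_prod X B) ‹LocallyOfFinitePresentation X.hom›
  haveI : LocallyOfFinitePresentation Y.hom := inferInstance
  haveI : LocallyOfFinitePresentation (snd Y Z).left :=
    MorphismProperty.of_isPullback (isPullback_prod Y Z) ‹LocallyOfFinitePresentation Y.hom›
  haveI := flat_snd Y Z
  haveI : UniversallyOpen (snd Y Z).left := inferInstance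
  have hS : Dense ((snd Y Z).left ⁻¹' (U : Set Z.left)) :=
    (U.2.dense ⟨_, hzU⟩).preimage (snd Y Z).left.isOpenMap
  have hfib : ∀ w ∈ (snd Y Z).left ⁻¹' (U : Set Z.left),
      Nonempty (CohIII.fiberMod f L w ≅ Coh.structureModule (f.fiber w)) := fun w hw => by
    refine hU (f.fiber w) (f.fiberι w) fun t => ?_
    have h1 : f (f.fiberι w t) = w := by
      have : f.fiberι w t ∈ Set.range (f.fiberι w) := ⟨t, rfl⟩
      rwa [Scheme.Hom.range_fiberι] at this
    show (snd Y Z).left (f (f.fiberι w t)) ∈ U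
    rw [h1]
    exact hw
  obtain ⟨θ⟩ := hx
  exact nonempty_iso_of_trivial_on_fibres f (lift (toUnit B ≫ x₀) (𝟙 B)).left
    (congrArg (fun m : B ⟶ B => m.left) (show lift (toUnit B ≫ x₀) (𝟙 B) ≫ snd X B = 𝟙 B by simp))
    L hL (fun w => trivial_on_fibres_of_dense f L hL hS hfib w) θ

end Groth.L08.Cube
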