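import Mathlib.LinearAlgebra.TensorProduct.RightExactness
import Mathlib.LinearAlgebra.TensorProduct.Basis
import Mathlib.LinearAlgebra.Basis.VectorSpace

/-!
# Classes with coefficients in glued rings
-/

set_option autoImplicit false
set_option linter.style.haveILetI false
set_option linter.unusedSectionVars false

universe u

open TensorProduct

namespace Groth.L08.Cube

variable {k : Type u} [Field k]

/-- Elements of a tensor product over a field killed by all functionals on the left factor vanish. -/
theorem eq_zero_of_forall_functional {M N : Type u} [AddCommGroup M] [Module k M] [AddCommGroup N]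
    [Module k N] (z : M ⊗[k] N)
    (h : ∀ φ : M →ₗ[k] k, TensorProduct.lid k N (φ.rTensor N z) = 0) : z = 0 := by
  let b := Module.Free.chooseBasis k M
  classical
  have key : ∀ (w : M ⊗[k] N) i,
      TensorProduct.equivFinsuppOfBasisLeft b w i = TensorProduct.lid k N ((b.coord i).rTensor N w) := by
    intro w i
    induction w using TensorProduct.induction_on with
    | zero => simp
    | tmul m n => simp [TensorProduct.equivFinsuppOfBasisLeft_apply_tmul_apply]
    | add w w' hw hw' => simp [map_add, Finsupp.add_apply, hw, hw']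
  refine (TensorProduct.equivFinsuppOfBasisLeft b).injective (Finsupp.ext fun i => ?_)
  rw [key, h, map_zero, Finsupp.coe_zero, Pi.zero_apply]

theorem functional_comm {K B : Type u} [AddCommGroup K] [Module k K] [AddCommGroup B] [Module k B]
    (ψ : K →ₗ[k] k) (ev : B →ₗ[k] k) (z : K ⊗[k] B) :
    ev (TensorProduct.lid k B (ψ.rTensor B z)) = ψ (TensorProduct.rid k K (ev.lTensor K z)) := by
  induction z using TensorProduct.induction_on with
  | zero => simp
  | tmul a b => simp [mul_comm]
  | add w w' hw hw' => simp [map_add, hw, hw']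

theorem functional_natural {K B B' : Type u} [AddCommGroup K] [Module k K] [AddCommGroup B] [Module k B]
    [AddCommGroup B'] [Module k B'] (ψ : K →ₗ[k] k) (r : B →ₗ[k] B') (z : K ⊗[k] B) :
    r (TensorProduct.lid k B (ψ.rTensor B z)) = TensorProduct.lid k B' (ψ.rTensor B' (r.lTensor K z)) := by
  induction z using TensorProduct.induction_on with
  | zero => simp
  | tmul a b => simp
  | add w w' hw hw' => simp [map_add, hw, hw']

/-- Classes in `coker δ` with coefficients in rings glueing to the ground field are constant, hence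
vanish when their value at one point does. -/
theorem mem_range_rTensor_of_glue {K₀ K₁ : Type u} [AddCommGroup K₀] [Module k K₀] [AddCommGroup K₁]
    [Module k K₁] (δ : K₀ →ₗ[k] K₁) {T : Type*} {B : T → Type u} [∀ t, AddCommGroup (B t)]
    [∀ t, Module k (B t)] {B₂ : T → T → Type u} [∀ t t', AddCommGroup (B₂ t t')]
    [∀ t t', Module k (B₂ t t')] (r₁ : ∀ t t', B t →ₗ[k] B₂ t t') (r₂ : ∀ t t', B t' →ₗ[k] B₂ t t')
    (one : ∀ t, B t)
    (glue : ∀ c : ∀ t, B t, (∀ t t', r₁ t t' (c t) = r₂ t t' (c t')) → ∃ e : k, ∀ t, c t = e • one t)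
    (z : ∀ t, K₁ ⊗[k] B t)
    (hz : ∀ t t', ∃ g, (r₁ t t').lTensor K₁ (z t) - (r₂ t t').lTensor K₁ (z t') = δ.rTensor (B₂ t t') g)
    (t₀ : T) (ev : B t₀ →ₗ[k] k) (hev : ev (one t₀) = 1)
    (h₀ : ∃ y, TensorProduct.rid k K₁ (ev.lTensor K₁ (z t₀)) = δ y) (t : T) :
    ∃ g, δ.rTensor (B t) g = z t := by
  let M := K₁ ⧸ LinearMap.range δ
  let π : K₁ →ₗ[k] M := (LinearMap.range δ).mkQ
  have hex : Function.Exact (δ.rTensor (B t)) (π.rTensor (B t)) :=
    rTensor_exact (B t) (LinearMap.exact_iff.mpr (Submodule.ker_mkQ _)) (Submodule.mkQ_surjective _)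
  refine (hex _).1 (eq_zero_of_forall_functional _ fun φ => ?_)
  rw [← LinearMap.rTensor_comp_apply]
  let ψ := φ ∘ₗ π
  let c : ∀ t, B t := fun t => TensorProduct.lid k (B t) (ψ.rTensor (B t) (z t))
  have hδ : ψ ∘ₗ δ = 0 := by
    ext x
    simp only [ψ, LinearMap.coe_comp, Function.comp_apply, LinearMap.zero_apply]
    rw [(Submodule.Quotient.mk_eq_zero _).2 ⟨x, rfl⟩ |> (id : π (δ x) = 0 → π (δ x) = 0), map_zero]
  obtain ⟨e, he⟩ := glue c fun a b => by
    obtain ⟨g, hg⟩ := hz a b
    rw [functional_natural, functional_natural, ← sub_eq_zero, ← map_sub, ← map_sub, hg,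
      ← LinearMap.rTensor_comp_apply, hδ, LinearMap.rTensor_zero, LinearMap.zero_apply, map_zero]
  obtain ⟨y, hy⟩ := h₀
  have h1 : ev (c t₀) = 0 := by
    rw [functional_comm, hy]
    exact LinearMap.congr_fun hδ y
  rw [he t₀, map_smul, hev, smul_eq_mul, mul_one] at h1
  show c t = 0
  rw [he t, h1, zero_smul]

end Groth.L08.Cube
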