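import Groth.Agent.L08.Cube.ProdSec
import Groth.Agent.L08.Cube.Glue
import Mathlib.Algebra.Module.Equiv.Basic

/-!
# Degree one classes on a product of proper varieties are detected by the slices
-/

set_option autoImplicit false
set_option linter.style.haveILetI false
set_option linter.unusedSectionVars false
set_option backward.isDefEq.respectTransparency false

universe u

open CategoryTheory AlgebraicGeometry TopologicalSpace Opposite
open scoped TensorProduct

noncomputable section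

namespace Groth.L08.Cube

open Groth.L17.BC (Sec resL act app_act)
open Groth.L18.Frame (rs ro rs_rs rs_self rs_smul ro_ro ro_self ro_mul)

theorem ro_sub {Z : Scheme.{u}} {U V : Z.Opens} (h : V ≤ U) (a b : Γ(Z, U)) :
    ro h (a - b) = ro h a - ro h b := map_sub (Z.presheaf.map (homOfLE h).op).hom a b

theorem appLE_eq_id {Z : Scheme.{u}} {h : Z ⟶ Z} (hh : h = 𝟙 Z) {W : Z.Opens} (e : W ≤ h ⁻¹ᵁ W) :
    h.appLE W W e = 𝟙 _ := by
  subst hh
  simp [Scheme.Hom.appLE]
  exact Z.presheaf.map_id _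

theorem ro_add {Z : Scheme.{u}} {U V : Z.Opens} (h : V ≤ U) (a b : Γ(Z, U)) :
    ro h (a + b) = ro h a + ro h b := map_add (Z.presheaf.map (homOfLE h).op).hom a b

variable {k : Type u} [Field k]
variable {X Y P : Scheme.{u}} {fX : X ⟶ Spec (CommRingCat.of k)} {fY : Y ⟶ Spec (CommRingCat.of k)}
  {p : P ⟶ X} {q : P ⟶ Y} (hP : IsPullback p q fX fY)

theorem taup_sub {K : Type u} [AddCommGroup K] [Module k K] {W : X.Opens} (π π' : K →ₗ[k] Fn fX W)
    (V : Y.Opens) (z : K ⊗[k] Fn fY V) :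
    taup hP (π - π') V z = taup hP π V z - taup hP π' V z := by
  simp only [taup, LinearMap.rTensor_sub, LinearMap.coe_comp, Function.comp_apply, LinearMap.sub_apply,
    map_sub]

theorem taup_comp {K K' : Type u} [AddCommGroup K] [Module k K] [AddCommGroup K'] [Module k K']
    {W : X.Opens} (π : K →ₗ[k] Fn fX W) (δ : K' →ₗ[k] K) (V : Y.Opens) (z : K' ⊗[k] Fn fY V) :
    taup hP (π ∘ₗ δ) V z = taup hP π V (δ.rTensor (Fn fY V) z) := by
  simp only [taup, LinearMap.rTensor_comp, LinearMap.coe_comp, Function.comp_apply]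

theorem resF_self {Z : Scheme.{u}} (f : Z ⟶ Spec (CommRingCat.of k)) {W : Z.Opens} :
    resF f (le_refl W) = LinearMap.id :=
  LinearMap.ext fun a => rs_self (Coh.structureModule Z) _ a

section Eval

variable {y₀ : Spec (CommRingCat.of k) ⟶ Y} (hy₀ : y₀ ≫ fY = 𝟙 _) {V : Y.Opens} (hV : ⊤ ≤ y₀ ⁻¹ᵁ V)

/-- Evaluation at a rational point. -/
def evalAt : Fn fY V →ₗ[k] k where
  toFun c := (Scheme.ΓSpecIso (CommRingCat.of k)).hom (y₀.appLE V ⊤ hV (fv c))
  map_add' c c' := by
    show (Scheme.ΓSpecIso (CommRingCat.of k)).hom (y₀.appLE V ⊤ hV (fv c + fv c')) = _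
    simp only [map_add]
  map_smul' r c := by
    show (Scheme.ΓSpecIso (CommRingCat.of k)).hom (y₀.appLE V ⊤ hV (act (Coh.toGlobal fY) V r * fv c)) =
      r * (Scheme.ΓSpecIso (CommRingCat.of k)).hom (y₀.appLE V ⊤ hV (fv c))
    rw [map_mul, map_mul, ← ro_app y₀ hV (act (Coh.toGlobal fY) V r),
      app_act y₀ _ (Coh.toGlobal (𝟙 (Spec (CommRingCat.of k)))) hV r r (by rw [appTop_toGlobal, hy₀])]
    congr 1
    show (Scheme.ΓSpecIso (CommRingCat.of k)).hom
      (((Spec (CommRingCat.of k)).presheaf.map (𝟙 _)) ((Scheme.Hom.appTop (𝟙 (Spec (CommRingCat.of k))))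
        ((Scheme.ΓSpecIso (CommRingCat.of k)).inv r))) = r
    rw [(Spec (CommRingCat.of k)).presheaf.map_id, Scheme.Hom.id_appTop]
    exact Iso.inv_hom_id_apply (Scheme.ΓSpecIso (CommRingCat.of k)) r

theorem appLE_taup {jX : X ⟶ P} (hjp : jX ≫ p = 𝟙 X) (hjq : jX ≫ q = fX ≫ y₀) {W : X.Opens}
    {K : Type u} [AddCommGroup K] [Module k K] (π : K →ₗ[k] Fn fX W) (h : W ≤ jX ⁻¹ᵁ box p q W V)
    (z : K ⊗[k] Fn fY V) :
    jX.appLE (box p q W V) W h (fv (taup hP π V z)) =
      fv (π (TensorProduct.rid k K ((evalAt hy₀ hV).lTensor K z))) := by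
  induction z using TensorProduct.induction_on with
  | zero => simp [fv, map_zero]
  | add w w' hw hw' =>
    simp only [map_add]
    exact (map_add (jX.appLE (box p q W V) W h).hom _ _).trans (congrArg₂ (· + ·) hw hw')
  | tmul a b =>
    show jX.appLE (box p q W V) W h (p.appLE W _ inf_le_left (fv (π a)) * q.appLE V _ inf_le_right (fv b)) =
      fv (π ((evalAt hy₀ hV b) • a))
    rw [map_smul, map_mul]
    have h1 : p.appLE W (box p q W V) inf_le_left ≫ jX.appLE (box p q W V) W h = 𝟙 _ := by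
      rw [Scheme.Hom.appLE_comp_appLE]
      exact appLE_eq_id hjp _
    have h2 : q.appLE V (box p q W V) inf_le_right ≫ jX.appLE (box p q W V) W h =
        y₀.appLE V ⊤ hV ≫ fX.appLE ⊤ W le_top := by
      rw [Scheme.Hom.appLE_comp_appLE, Scheme.Hom.appLE_comp_appLE]
      simp [hjq]
    rw [show jX.appLE (box p q W V) W h (p.appLE W _ inf_le_left (fv (π a))) = fv (π a) from congr($h1 _),
      show jX.appLE (box p q W V) W h (q.appLE V _ inf_le_right (fv b)) =
        fX.appLE ⊤ W le_top (y₀.appLE V ⊤ hV (fv b)) from congr($h2 _), mul_comm]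
    show _ = act (Coh.toGlobal fX) W ((Scheme.ΓSpecIso (CommRingCat.of k)).hom (y₀.appLE V ⊤ hV (fv b))) * fv (π a)
    congr 1
    show fX.appLE ⊤ W le_top (y₀.appLE V ⊤ hV (fv b)) = fX.appLE ⊤ W le_top
      ((Scheme.ΓSpecIso (CommRingCat.of k)).inv ((Scheme.ΓSpecIso (CommRingCat.of k)).hom _))
    rw [Iso.hom_inv_id_apply]

end Eval

variable {S T : Type} [Finite S] [Finite T] (W : S → X.Opens) (V : T → Y.Opens)

/-- The product cover. -/
abbrev boxU (p : P ⟶ X) (q : P ⟶ Y) (i : S × T) : P.Opens := box p q (W i.1) (V i.2)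

include hP in
/-- A one-cocycle of functions on a product which cobounds on both slices cobounds. -/
theorem kunneth [X.IsSeparated] [Y.IsSeparated] [CompactSpace X]
    (hW : ∀ s, IsAffineOpen (W s)) (hV : ∀ t, IsAffineOpen (V t)) (hWc : ⨆ s, W s = ⊤) (hVc : ⨆ t, V t = ⊤)
    (hΓX : Function.Bijective (Coh.toGlobal fX)) (hΓY : Function.Bijective (Coh.toGlobal fY))
    (x₀ : Spec (CommRingCat.of k) ⟶ X) (y₀ : Spec (CommRingCat.of k) ⟶ Y) (hy₀ : y₀ ≫ fY = 𝟙 _)
    (jX : X ⟶ P) (hjXp : jX ≫ p = 𝟙 X) (hjXq : jX ≫ q = fX ≫ y₀)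
    (jY : Y ⟶ P) (hjYq : jY ≫ q = 𝟙 Y) (hjYp : jY ≫ p = fY ≫ x₀)
    (a : ∀ i j : S × T, Γ(P, boxU W V p q i ⊓ boxU W V p q j))
    (hcoc : ∀ (i j l : S × T) (O : P.Opens) (hij : O ≤ boxU W V p q i ⊓ boxU W V p q j)
      (hjl : O ≤ boxU W V p q j ⊓ boxU W V p q l) (hil : O ≤ boxU W V p q i ⊓ boxU W V p q l),
      ro hjl (a j l) - ro hil (a i l) + ro hij (a i j) = 0)
    (bX : ∀ i : S × T, Γ(X, jX ⁻¹ᵁ boxU W V p q i))
    (hbX : ∀ (i j : S × T) (O : X.Opens) (hi : O ≤ jX ⁻¹ᵁ boxU W V p q i) (hj : O ≤ jX ⁻¹ᵁ boxU W V p q j),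
      jX.appLE (boxU W V p q i ⊓ boxU W V p q j) O (le_inf hi hj) (a i j) = ro hj (bX j) - ro hi (bX i))
    (bY : ∀ i : S × T, Γ(Y, jY ⁻¹ᵁ boxU W V p q i))
    (hbY : ∀ (i j : S × T) (O : Y.Opens) (hi : O ≤ jY ⁻¹ᵁ boxU W V p q i) (hj : O ≤ jY ⁻¹ᵁ boxU W V p q j),
      jY.appLE (boxU W V p q i ⊓ boxU W V p q j) O (le_inf hi hj) (a i j) = ro hj (bY j) - ro hi (bY i)) :
    ∃ e : ∀ i : S × T, Γ(P, boxU W V p q i), ∀ i j, a i j = ro inf_le_right (e j) - ro inf_le_left (e i) := by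
  classical
  haveI : QuasiSeparatedSpace X := inferInstance
  obtain ⟨t₀, ht₀⟩ := Opens.mem_iSup.1 (hVc.ge (Opens.mem_top (y₀ default)))
  obtain ⟨s₀, hs₀⟩ := Opens.mem_iSup.1 (hWc.ge (Opens.mem_top (x₀ default)))
  have hy₀V : ⊤ ≤ y₀ ⁻¹ᵁ V t₀ := fun x _ => by rwa [Subsingleton.elim x default]
  have hx₀W : ⊤ ≤ x₀ ⁻¹ᵁ W s₀ := fun x _ => by rwa [Subsingleton.elim x default]
  have hsliceX : ∀ {W' : X.Opens}, W' ≤ jX ⁻¹ᵁ box p q W' (V t₀) := fun {W'} => by
    rw [Scheme.Hom.preimage_inf]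
    refine le_inf ?_ ?_
    · rw [← Scheme.Hom.comp_preimage, hjXp, Scheme.Hom.id_preimage]
    · rw [← Scheme.Hom.comp_preimage, hjXq, Scheme.Hom.comp_preimage]
      exact fun x _ => hy₀V trivial
  have hsliceY : ∀ {V' : Y.Opens}, V' ≤ jY ⁻¹ᵁ box p q (W s₀) V' := fun {V'} => by
    rw [Scheme.Hom.preimage_inf]
    refine le_inf ?_ ?_
    · rw [← Scheme.Hom.comp_preimage, hjYp, Scheme.Hom.comp_preimage]
      exact fun x _ => hx₀W trivial
    · rw [← Scheme.Hom.comp_preimage, hjYq, Scheme.Hom.id_preimage]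
  let W2 : S × S → X.Opens := fun ss => W ss.1 ⊓ W ss.2
  have hW2 : ∀ ss, IsAffineOpen (W2 ss) := fun ss => (hW _).inf (hW _)
  have hV2 : ∀ t t', IsAffineOpen (V t ⊓ V t') := fun t t' => (hV _).inf (hV _)
  let K₀ := ∀ s, Fn fX (W s)
  let K₁ := ∀ ss, Fn fX (W2 ss)
  let pr₀ : ∀ s, K₀ →ₗ[k] Fn fX (W s) := fun s => LinearMap.proj s
  let pr₁ : ∀ ss, K₁ →ₗ[k] Fn fX (W2 ss) := fun ss => LinearMap.proj ss
  let δ : K₀ →ₗ[k] K₁ := LinearMap.pi fun ss =>
    resF fX (inf_le_right : W2 ss ≤ W ss.2) ∘ₗ pr₀ ss.2 - resF fX (inf_le_left : W2 ss ≤ W ss.1) ∘ₗ pr₀ ss.1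
  choose z hz using fun t => (bijective_taup_pi hP W2 hW2 (hV t)).surjective fun ss =>
    fn (p ≫ fX) (ro (le_inf (box_mono inf_le_left le_rfl) (box_mono inf_le_right le_rfl))
      (a (ss.1, t) (ss.2, t)))
  replace hz : ∀ t ss, fv (taup hP (pr₁ ss) (V t) (z t)) =
      ro (le_inf (box_mono inf_le_left le_rfl) (box_mono inf_le_right le_rfl)) (a (ss.1, t) (ss.2, t)) :=
    fun t ss => congrFun (hz t) ss
  have step : ∀ t, ∃ g, δ.rTensor (Fn fY (V t)) g = z t := by
    refine mem_range_rTensor_of_glue δ (T := T) (B := fun t => Fn fY (V t))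
      (B₂ := fun t t' => Fn fY (V t ⊓ V t')) (fun t t' => resF fY inf_le_left) (fun t t' => resF fY inf_le_right)
      (fun t => fn fY 1) ?_ z ?_ t₀ (evalAt hy₀ hy₀V) ?_ ?_
    · intro c hc
      let OY : TopCat.Sheaf CommRingCat.{u} Y.toTopCat := Y.sheaf
      obtain ⟨G, hG, -⟩ := OY.existsUnique_gluing' V ⊤ (fun t => homOfLE le_top) hVc.ge (fun t => fv (c t))
        fun t t' => hc t t'
      obtain ⟨e, he⟩ := hΓY.surjective G
      refine ⟨e, fun t => ?_⟩
      show _ = fn fY (act (Coh.toGlobal fY) (V t) e * (1 : Γ(Y, V t)))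
      rw [mul_one]
      exact (hG t).symm.trans (by rw [← he]; rfl)
    · intro t t'
      obtain ⟨g, hg⟩ := (bijective_taup_pi hP W hW (hV2 t t')).surjective fun s =>
        fn (p ≫ fX) (- ro (le_inf (box_mono le_rfl inf_le_left) (box_mono le_rfl inf_le_right)) (a (s, t) (s, t')))
      refine ⟨g, (bijective_taup_pi hP W2 hW2 (hV2 t t')).injective (funext fun ss => ?_)⟩
      obtain ⟨s, s'⟩ := ss
      show taup hP (pr₁ (s, s')) _ _ = taup hP (pr₁ (s, s')) _ (δ.rTensor _ g)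
      rw [map_sub, ← taup_comp, show pr₁ (s, s') ∘ₗ δ = resF fX (inf_le_right : W2 (s, s') ≤ W s') ∘ₗ pr₀ s' -
        resF fX (inf_le_left : W2 (s, s') ≤ W s) ∘ₗ pr₀ s from rfl, taup_sub]
      have e1 : ∀ (t'' : T) (h : V t ⊓ V t' ≤ V t''),
          fv (taup hP (pr₁ (s, s')) (V t ⊓ V t') ((resF fY h).lTensor K₁ (z t''))) =
            ro (le_inf (box_mono inf_le_left h) (box_mono inf_le_right h)) (a (s, t'') (s', t'')) := by
        intro t'' h
        have := res_taup hP (pr₁ (s, s')) le_rfl h (z t'')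
        rw [resF_self, LinearMap.id_comp] at this
        rw [← this]
        show ro _ (fv (taup hP (pr₁ (s, s')) (V t'') (z t''))) = _
        rw [hz, ro_ro]
      have e2 : ∀ (s'' : S) (h : W2 (s, s') ≤ W s''),
          fv (taup hP (resF fX h ∘ₗ pr₀ s'') (V t ⊓ V t') g) =
            - ro (le_inf (box_mono h inf_le_left) (box_mono h inf_le_right)) (a (s'', t) (s'', t')) := by
        intro s'' h
        have := res_taup hP (pr₀ s'') h le_rfl g
        rw [resF_self, LinearMap.lTensor_id, LinearMap.id_apply] at this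
        rw [← this]
        show ro _ (fv (taup hP (pr₀ s'') (V t ⊓ V t') g)) = _
        rw [show fv (taup hP (pr₀ s'') (V t ⊓ V t') g) = _ from congrFun hg s'']
        exact (map_neg (P.presheaf.map (homOfLE (box_mono h le_rfl)).op).hom _).trans
          (congrArg Neg.neg (ro_ro _ _ _))
      show fv (taup hP (pr₁ (s, s')) _ _) - fv (taup hP (pr₁ (s, s')) _ _) =
        fv (taup hP (resF fX (inf_le_right : W2 (s, s') ≤ W s') ∘ₗ pr₀ s') _ g) -
          fv (taup hP (resF fX (inf_le_left : W2 (s, s') ≤ W s) ∘ₗ pr₀ s) _ g)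
      rw [e1, e1, e2, e2]
      have c1 := hcoc (s, t) (s', t) (s', t') (box p q (W2 (s, s')) (V t ⊓ V t'))
        (le_inf (box_mono inf_le_left inf_le_left) (box_mono inf_le_right inf_le_left))
        (le_inf (box_mono inf_le_right inf_le_left) (box_mono inf_le_right inf_le_right))
        (le_inf (box_mono inf_le_left inf_le_left) (box_mono inf_le_right inf_le_right))
      have c2 := hcoc (s, t) (s, t') (s', t') (box p q (W2 (s, s')) (V t ⊓ V t'))
        (le_inf (box_mono inf_le_left inf_le_left) (box_mono inf_le_left inf_le_right))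
        (le_inf (box_mono inf_le_left inf_le_right) (box_mono inf_le_right inf_le_right))
        (le_inf (box_mono inf_le_left inf_le_left) (box_mono inf_le_right inf_le_right))
      linear_combination c1 - c2
    · show (Scheme.ΓSpecIso (CommRingCat.of k)).hom (y₀.appLE (V t₀) ⊤ hy₀V 1) = 1
      rw [map_one, map_one]
    · refine ⟨fun s => fn fX (ro hsliceX (bX (s, t₀))), funext fun ss => ?_⟩
      obtain ⟨s, s'⟩ := ss
      have h := appLE_taup hP hy₀ hy₀V hjXp hjXq (pr₁ (s, s')) hsliceX (z t₀)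
      rw [hz, appLE_ro, hbX (s, t₀) (s', t₀) (W2 (s, s'))
        (hsliceX.trans (jX.preimage_mono (box_mono inf_le_left le_rfl)))
        (hsliceX.trans (jX.preimage_mono (box_mono inf_le_right le_rfl)))] at h
      refine h.symm.trans ?_
      show _ = ro inf_le_right (ro _ (bX (s', t₀))) - ro inf_le_left (ro _ (bX (s, t₀)))
      rw [ro_ro, ro_ro]
  choose g hg using step
  let γ : ∀ i : S × T, Γ(P, boxU W V p q i) := fun i => fv (taup hP (pr₀ i.1) (V i.2) (g i.2))
  let A : ∀ (i j : S × T) (O : P.Opens), O ≤ boxU W V p q i → O ≤ boxU W V p q j → Γ(P, O) :=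
    fun i j O hi hj => ro (le_inf hi hj) (a i j) - (ro hj (γ j) - ro hi (γ i))
  have hAres : ∀ i j (O O' : P.Opens) (h : O' ≤ O) hi hj,
      ro h (A i j O hi hj) = A i j O' (h.trans hi) (h.trans hj) := by
    intro i j O O' h hi hj
    simp only [A, ro_sub, ro_ro]
  have hAcoc : ∀ i j l (O : P.Opens) hi hj hl, A j l O hj hl - A i l O hi hl + A i j O hi hj = 0 := by
    intro i j l O hi hj hl
    have := hcoc i j l O (le_inf hi hj) (le_inf hj hl) (le_inf hi hl)
    simp only [A]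
    linear_combination this
  have hA0 : ∀ s s' t (O : P.Opens) hi hj, A (s, t) (s', t) O hi hj = 0 := by
    intro s s' t O hi hj
    have hO : O ≤ box p q (W2 (s, s')) (V t) := by
      show O ≤ p ⁻¹ᵁ (W s ⊓ W s') ⊓ q ⁻¹ᵁ V t
      rw [Scheme.Hom.preimage_inf]
      exact le_inf (le_inf (hi.trans inf_le_left) (hj.trans inf_le_left)) (hi.trans inf_le_right)
    have h := hz t (s, s')
    rw [← hg t, ← taup_comp, show pr₁ (s, s') ∘ₗ δ = resF fX (inf_le_right : W2 (s, s') ≤ W s') ∘ₗ pr₀ s' -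
        resF fX (inf_le_left : W2 (s, s') ≤ W s) ∘ₗ pr₀ s from rfl, taup_sub] at h
    have e2 : ∀ (s'' : S) (hh : W2 (s, s') ≤ W s''),
        fv (taup hP (resF fX hh ∘ₗ pr₀ s'') (V t) (g t)) = ro (box_mono hh le_rfl) (γ (s'', t)) := by
      intro s'' hh
      have := res_taup hP (pr₀ s'') hh le_rfl (g t)
      rw [resF_self, LinearMap.lTensor_id, LinearMap.id_apply] at this
      rw [← this]
      rfl
    replace h : ro (box_mono inf_le_right le_rfl) (γ (s', t)) - ro (box_mono inf_le_left le_rfl) (γ (s, t)) =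
        ro (le_inf (box_mono inf_le_left le_rfl) (box_mono inf_le_right le_rfl)) (a (s, t) (s', t)) := by
      rw [← h, ← e2, ← e2]
      rfl
    replace h := congrArg (ro hO) h
    simp only [ro_sub, ro_ro] at h
    simp only [A]
    exact sub_eq_zero.2 h.symm
  have hglue : ∀ t t', ∃ G : Γ(P, q ⁻¹ᵁ (V t ⊓ V t')), ∀ (s : S) (O : P.Opens)
      (hO : O ≤ box p q (W s) (V t ⊓ V t')), ro (hO.trans inf_le_right) G =
        A (s, t) (s, t') O (hO.trans (box_mono le_rfl inf_le_left)) (hO.trans (box_mono le_rfl inf_le_right)) := by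
    intro t t'
    let OP : TopCat.Sheaf CommRingCat.{u} P.toTopCat := P.sheaf
    obtain ⟨G, hG, -⟩ := OP.existsUnique_gluing' (fun s => box p q (W s) (V t ⊓ V t')) (q ⁻¹ᵁ (V t ⊓ V t'))
      (fun s => homOfLE inf_le_right) (fun x hx => by
        obtain ⟨s, hs⟩ := Opens.mem_iSup.1 (hWc.ge (Opens.mem_top (p x)))
        exact Opens.mem_iSup.2 ⟨s, hs, hx⟩)
      (fun s => A (s, t) (s, t') _ (box_mono le_rfl inf_le_left) (box_mono le_rfl inf_le_right))
      fun s s' => by
        show ro inf_le_left _ = ro inf_le_right _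
        rw [hAres, hAres]
        have h1 := hAcoc (s, t) (s, t') (s', t') (box p q (W s) (V t ⊓ V t') ⊓ box p q (W s') (V t ⊓ V t'))
          (inf_le_left.trans (box_mono le_rfl inf_le_left)) (inf_le_left.trans (box_mono le_rfl inf_le_right))
          (inf_le_right.trans (box_mono le_rfl inf_le_right))
        have h2 := hAcoc (s, t) (s', t) (s', t') (box p q (W s) (V t ⊓ V t') ⊓ box p q (W s') (V t ⊓ V t'))
          (inf_le_left.trans (box_mono le_rfl inf_le_left)) (inf_le_right.trans (box_mono le_rfl inf_le_left))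
          (inf_le_right.trans (box_mono le_rfl inf_le_right))
        rw [hA0] at h1 h2
        linear_combination h1 - h2
    refine ⟨G, fun s O hO => ?_⟩
    have := congrArg (ro hO) (show ro inf_le_right G = _ from hG s)
    rwa [ro_ro, hAres] at this
  choose G hG using hglue
  choose b hb using fun t t' => (bijective_app_snd hΓX (hV2 t t') hP).surjective (G t t')
  have hAb : ∀ (i j : S × T) (O : P.Opens) hi hj (h : O ≤ q ⁻¹ᵁ (V i.2 ⊓ V j.2)),
      A i j O hi hj = q.appLE (V i.2 ⊓ V j.2) O h (b i.2 j.2) := by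
    rintro ⟨s, t⟩ ⟨s', t'⟩ O hi hj h
    have hO : O ≤ box p q (W s') (V t ⊓ V t') := le_inf (hj.trans inf_le_left) h
    have h1 := hAcoc (s, t) (s', t) (s', t') O hi
      (le_inf (hj.trans inf_le_left) (hi.trans inf_le_right)) hj
    rw [hA0, ← hG t t' s' O hO, ← hb, ro_app] at h1
    linear_combination -h1
  let c : ∀ t, Γ(Y, V t) := fun t =>
    ro hsliceY (bY (s₀, t)) - jY.appLE (boxU W V p q (s₀, t)) (V t) hsliceY (γ (s₀, t))
  have hbc : ∀ t t', b t t' = ro inf_le_right (c t') - ro inf_le_left (c t) := by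
    intro t t'
    have hle : box p q (W s₀) (V t ⊓ V t') ≤ boxU W V p q (s₀, t) := box_mono le_rfl inf_le_left
    have hle' : box p q (W s₀) (V t ⊓ V t') ≤ boxU W V p q (s₀, t') := box_mono le_rfl inf_le_right
    have h := congrArg (jY.appLE (box p q (W s₀) (V t ⊓ V t')) (V t ⊓ V t') hsliceY)
      (hAb (s₀, t) (s₀, t') _ hle hle' inf_le_right)
    have h1 : q.appLE (V t ⊓ V t') (box p q (W s₀) (V t ⊓ V t')) inf_le_right ≫
        jY.appLE _ (V t ⊓ V t') hsliceY = 𝟙 _ := by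
      rw [Scheme.Hom.appLE_comp_appLE]
      exact appLE_eq_id hjYq _
    rw [show jY.appLE _ _ hsliceY (q.appLE (V t ⊓ V t') (box p q (W s₀) (V t ⊓ V t')) inf_le_right
      (b t t')) = b t t' from congr($h1 _)] at h
    rw [← h]
    simp only [A, c, map_sub, ro_sub, appLE_ro, ro_ro, ro_appLE]
    rw [hbY (s₀, t) (s₀, t') (V t ⊓ V t') (hsliceY.trans (jY.preimage_mono hle))
      (hsliceY.trans (jY.preimage_mono hle'))]
    ring
  refine ⟨fun i => γ i + q.appLE (V i.2) _ inf_le_right (c i.2), fun i j => ?_⟩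
  have h := hAb i j _ inf_le_left inf_le_right
    ((inf_le_inf inf_le_right inf_le_right).trans_eq (Scheme.Hom.preimage_inf q).symm)
  rw [hbc] at h
  simp only [A, map_sub, ro_self, appLE_ro, ro_add, ro_appLE] at h ⊢
  linear_combination h

end Groth.L08.Cube
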