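import Groth.Agent.L08.Cube.Approx
import Groth.Agent.L08.Cube.Cochain
import Groth.Agent.L08.Cube.Kunneth
import Groth.Agent.L29.DCoh.RelTor
import Groth.Agent.L21.RR.Twist
import Groth.Agent.L21.Extend.Semilocal
import Groth.Agent.L18.AmpleGG
import Groth.Agent.L29.LocFree

/-!
# An invertible module trivial on a fibre and on two slices is trivial near that fibre
-/

set_option autoImplicit false
set_option linter.style.haveILetI false
set_option linter.unusedSectionVars false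
set_option backward.isDefEq.respectTransparency false

universe u

open CategoryTheory AlgebraicGeometry TopologicalSpace Opposite

noncomputable section

namespace Groth.L08.Cube

open Groth.L17.BC (C K dL dL_apply Idx opn Ub preimage_opn Sec resL act Compat isAffineOpen_opn
  compat_of_isPullback isAffineHom_of_isPullback isAffineOpen_iInf_preimage)
open Groth.L18.Frame (rs ro rs_rs rs_self rs_smul ro_ro ro_self ro_mul IsFrame)

section One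

variable {X : Scheme.{u}} {A : Type u} [CommRing A] (ρ : A →+* Coh.Γtop X) {ι : Type u} (U : ι → X.Opens)

/-- The constant cochain one. -/
def oneC : C ρ (Coh.structureModule X) U 0 := fun a => (1 : Γ(X, opn U a.1))

theorem dL_oneC : dL ρ (Coh.structureModule X) U 0 (oneC ρ U) = 0 := by
  funext a
  obtain ⟨j, l, rfl⟩ := exists_eq_i1 a
  have h := dL_i1 ρ (Coh.structureModule X) U (oneC ρ U) j l le_rfl
    ((opn1_le U j l).trans (inf_le_right.trans (le_opn0 U l)))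
    ((opn1_le U j l).trans (inf_le_left.trans (le_opn0 U j)))
  rw [rs_self] at h
  refine h.trans ?_
  show ro _ (1 : Γ(X, opn U (i0 l).1)) - ro _ (1 : Γ(X, opn U (i0 j).1)) = (0 : Γ(X, opn U (i1 j l).1))
  simp [ro]

theorem smul_oneC_apply (r : A) (a : Idx ι 0) : (r • oneC ρ U) a = act ρ (opn U a.1) r :=
  mul_one (act ρ (opn U a.1) r)

end One

theorem EC_eq_zero_of_mem {Q P : Scheme.{u}} {g : Q ⟶ P} {L : P.Modules} {A B : Type u} [CommRing A]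
    [CommRing B] [Algebra A B] {ρ : A →+* Coh.Γtop P} (ρ' : B →+* Coh.Γtop Q) (hc : Compat g ρ ρ')
    {ι : Type u} (U : ι → P.Opens) (t : Triv g L) (i : ℤ) {x : C ρ L U i}
    (hx : x ∈ RingHom.ker (algebraMap A B) • (⊤ : Submodule A (C ρ L U i))) : EC ρ' U t i x = 0 := by
  refine Submodule.smul_induction_on hx (fun r hr y _ => ?_) fun y z hy hz => by rw [map_add, hy, hz, add_zero]
  funext a
  rw [EC_apply]
  show ro _ (t.E _ (act ρ (opn U a.1) r • (show Γ(L, opn U a.1) from y a))) = (0 : Γ(Q, opn (Ub g U) a.1))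
  rw [t.smul, ro_mul, Groth.L17.BC.app_act g ρ ρ' (preimage_opn g U a.1).ge r _ (hc r),
    RingHom.mem_ker.1 hr, map_zero, zero_mul]

/-- A cycle with unit coefficient functions along a morphism gives a frame near its image. -/
theorem exists_frame_of_unit_cycle {Q P : Scheme.{u}} {g : Q ⟶ P} {L : P.Modules} {A B : Type u} [CommRing A]
    [CommRing B] {ι : Type u} (U : ι → P.Opens) (hL : PicF.IsInvertible L) (t : Triv g L)
    (ρ : A →+* Coh.Γtop P) (ρ' : B →+* Coh.Γtop Q) (hcov : ⨆ i, U i = ⊤) (x : C ρ L U 0)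
    (hx : dL ρ L U 0 x = 0) (hx1 : EC ρ' U t 0 x = oneC ρ' (Ub g U)) :
    ∃ (σ : Γ(L, ⊤)) (O : P.Opens), (∀ y : Q, g y ∈ O) ∧ IsFrame L O (rs L le_top σ) := by
  have hcovQ : ⨆ i, Ub g U i = ⊤ := top_unique fun y _ => by
    obtain ⟨i, hi⟩ := Opens.mem_iSup.1 (hcov.ge (Opens.mem_top (g y)))
    exact Opens.mem_iSup.2 ⟨i, hi⟩
  obtain ⟨σ, hσ⟩ := exists_glue _ _ _ x hx hcov
  have hone : t.E ⊤ σ = 1 := by
    let OP : TopCat.Sheaf CommRingCat.{u} Q.toTopCat := Q.sheaf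
    refine OP.eq_of_locally_eq' (fun i => Ub g U i) (g ⁻¹ᵁ ⊤) (fun i => homOfLE (g.preimage_mono le_top))
      (fun y _ => hcovQ.ge (Opens.mem_top y)) _ _ fun i => ?_
    show ro _ (t.E ⊤ σ) = ro _ 1
    have h := congrArg (ro (le_opn0 (Ub g U) i)) (congrFun hx1 (i0 i))
    rw [EC_apply, ← hσ, t.nat, ro_ro, ro_ro] at h
    refine h.trans ?_
    show ro _ (1 : Γ(Q, _)) = _
    simp [ro]
  have key : ∀ y : Q, ∃ O : P.Opens, g y ∈ O ∧ IsFrame L O (rs L le_top σ) := by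
    intro y
    obtain ⟨N, e, hN, he⟩ := Groth.L18.Frame.exists_frame hL (g y)
    obtain ⟨a, ha⟩ := he.exists_coeff le_rfl (rs L le_top σ)
    rw [rs_self] at ha
    have hu : IsUnit (g.app N a) := by
      have h := t.smul N a e
      rw [ha, t.nat, hone] at h
      refine IsUnit.of_mul_eq_one _ (h.symm.trans ?_)
      simp [ro]
    have hmem : g y ∈ P.basicOpen a := by
      show y ∈ g ⁻¹ᵁ P.basicOpen a
      rw [Scheme.preimage_basicOpen, Q.basicOpen_of_isUnit hu]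
      exact hN
    refine ⟨P.basicOpen a, hmem, ?_⟩
    have hua : IsUnit (ro (P.basicOpen_le a) a) := RingedSpace.isUnit_res_basicOpen P.toRingedSpace a
    have := (he.mono (P.basicOpen_le a)).smul_unit hua
    rwa [← rs_smul, ha, rs_rs] at this
  choose O hO hOf using key
  refine ⟨σ, iSup O, fun y => Opens.mem_iSup.2 ⟨y, hO y⟩,
    IsFrame.of_cover O (fun y => le_iSup O y) le_rfl fun y => ?_⟩
  rw [rs_rs]
  exact hOf y


variable {R k : Type u} [CommRing R] [CommRing k] [Algebra R k]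

theorem flat_sections {P : Scheme.{u}} (fP : P ⟶ Spec (CommRingCat.of R)) [Flat fP] {L : P.Modules}
    (hL : PicF.IsInvertible L) (V : P.Opens) (hV : IsAffineOpen V) :
    Module.Flat R (Sec (Coh.toGlobal fP) L V) :=
  haveI := Groth.L21.Extend.isQCoh_of_isInvertible hL
  Groth.L17.BC.flat_sec fP L
    (Groth.L29.DC.RelTor.isFlatOver_of_isFlat fP (Groth.L21.RR.isFlat_of_isInvertible hL)) hV

section Slice

variable {P P₀ Q Z : Scheme.{u}} {fP : P ⟶ Spec (CommRingCat.of R)} {fQ : Q ⟶ Spec (CommRingCat.of R)}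
  {fZ : Z ⟶ Spec (CommRingCat.of k)} {g₀ : P₀ ⟶ P} {s : Q ⟶ P} {gQ : Z ⟶ Q} {j : Z ⟶ P₀}
  {ι : Type u} [Finite ι] (U : ι → P.Opens)

/-- Cycles modulo the kernel on a slice are constants. -/
theorem exists_sub_smul_oneC (hk : Function.Surjective (algebraMap R k))
    (sq : IsPullback gQ fZ fQ (Spec.map (CommRingCat.ofHom (algebraMap R k))))
    (hΓ : Function.Bijective (Coh.toGlobal fZ)) (U : ι → Q.Opens) (hcov : ⨆ i, U i = ⊤)
    (haff : ∀ (n : ℕ) (a : Fin (n + 1) → ι), IsAffineOpen (⨅ k, U (a k)))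
    (c : C (Coh.toGlobal fQ) (Coh.structureModule Q) U 0)
    (hc : dL (Coh.toGlobal fQ) (Coh.structureModule Q) U 0 c ∈
      RingHom.ker (algebraMap R k) • (⊤ : Submodule R (C (Coh.toGlobal fQ) (Coh.structureModule Q) U (0 + 1)))) :
    ∃ e : R, c - e • oneC (Coh.toGlobal fQ) U ∈
      RingHom.ker (algebraMap R k) • (⊤ : Submodule R (C (Coh.toGlobal fQ) (Coh.structureModule Q) U 0)) := by
  have hQ := Groth.L18.Ample.isInvertible_structureModule Q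
  haveI := Groth.L21.Extend.isQCoh_of_isInvertible hQ
  have hcm := compat_of_isPullback fQ fZ gQ sq
  let E := EC (ρ := Coh.toGlobal fQ) (Coh.toGlobal fZ) U (Triv.app gQ)
  have h0 : dL (Coh.toGlobal fZ) (Coh.structureModule Z) (Ub gQ U) 0 (E 0 c) = 0 := by
    rw [← EC_d]
    exact EC_eq_zero_of_mem _ hcm U _ _ hc
  have hcov' : ⨆ i, Ub gQ U i = ⊤ := top_unique fun x _ => by
    obtain ⟨i, hi⟩ := Opens.mem_iSup.1 (hcov.ge (Opens.mem_top (gQ x)))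
    exact Opens.mem_iSup.2 ⟨i, hi⟩
  obtain ⟨σ, hσ⟩ := exists_glue _ _ _ (E 0 c) h0 hcov'
  obtain ⟨r, hr⟩ := hΓ.surjective σ
  obtain ⟨e, rfl⟩ := hk r
  refine ⟨e, mem_smul_of_EC_eq_zero U sq hk haff hQ (Groth.L29.LocFree.pullbackUnitIso gQ) (Triv.app gQ) 0 _ ?_⟩
  rw [map_sub, sub_eq_zero]
  funext a
  rw [← hσ a, EC_apply, smul_oneC_apply, ← hr]
  exact (Groth.L17.BC.app_act gQ _ (Coh.toGlobal fZ) (preimage_opn gQ U a.1).ge e _ (hcm e)).symm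

variable {fP₀ : P₀ ⟶ Spec (CommRingCat.of k)} {L : P.Modules}

/-- A cochain which cobounds on a slice modulo the kernel restricts to a coboundary on the fibre
of the slice. -/
theorem exists_slice_bound (hL : PicF.IsInvertible L)
    (hs : s ≫ fP = fQ) (sq₀ : IsPullback g₀ fP₀ fP (Spec.map (CommRingCat.ofHom (algebraMap R k))))
    (sq : IsPullback gQ fZ fQ (Spec.map (CommRingCat.ofHom (algebraMap R k))))
    (hcomm : gQ ≫ s = j ≫ g₀) (tQ : Triv s L) (t₀ : Triv g₀ L)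
    (a : C (Coh.toGlobal fP) L U (0 + 1)) (b : C (Coh.toGlobal fQ) (Coh.structureModule Q) (Ub s U) 0)
    (hb : ECl U (ρ'' := Coh.toGlobal fQ) (fun r => by rw [← hs]; exact congr($((Scheme.Hom.comp_appTop s fP).symm) _))
        tQ (0 + 1) a - dL (Coh.toGlobal fQ) (Coh.structureModule Q) (Ub s U) 0 b ∈
      RingHom.ker (algebraMap R k) •
        (⊤ : Submodule R (C (Coh.toGlobal fQ) (Coh.structureModule Q) (Ub s U) (0 + 1)))) :
    ∃ β : ∀ i : ι, Γ(Z, j ⁻¹ᵁ (g₀ ⁻¹ᵁ U i)), ∀ (i l : ι) (O : Z.Opens)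
      (hi : O ≤ j ⁻¹ᵁ (g₀ ⁻¹ᵁ U i)) (hl : O ≤ j ⁻¹ᵁ (g₀ ⁻¹ᵁ U l)),
      j.appLE (g₀ ⁻¹ᵁ U i ⊓ g₀ ⁻¹ᵁ U l) O (le_inf hi hl)
        (ro (le_opn1 (Ub g₀ U) i l) (EC (Coh.toGlobal fP₀) U t₀ (0 + 1) a (i1 i l))) =
        ro hl (β l) - ro hi (β i) := by
  have hcm := compat_of_isPullback fQ fZ gQ sq
  let EZ := EC (ρ := Coh.toGlobal fQ) (Coh.toGlobal fZ) (Ub s U) (Triv.app gQ)
  have h0 := EC_eq_zero_of_mem (Coh.toGlobal fZ) hcm (Ub s U) (Triv.app gQ) _ hb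
  rw [map_sub, sub_eq_zero, EC_d] at h0
  obtain ⟨v, hv⟩ := (tQ.comp gQ).exists_mul hcomm hL (t₀.comp j)
  have he : ∀ V : P.Opens, j ⁻¹ᵁ (g₀ ⁻¹ᵁ V) ≤ gQ ⁻¹ᵁ (s ⁻¹ᵁ V) := fun V => by
    rw [← Scheme.Hom.comp_preimage, ← Scheme.Hom.comp_preimage, hcomm]
  refine ⟨fun i => ro le_top v * ro ((he (U i)).trans (le_opn0 (Ub gQ (Ub s U)) i)) (EZ 0 b (i0 i)),
    fun i l O hi hl => ?_⟩
  have hO : O ≤ opn (Ub gQ (Ub s U)) (i1 i l).1 :=
    (le_inf (hi.trans (he _)) (hl.trans (he _))).trans (le_opn1 (Ub gQ (Ub s U)) i l)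
  have hO₀ : O ≤ j ⁻¹ᵁ (g₀ ⁻¹ᵁ opn U (i1 i l).1) :=
    (le_inf hi hl).trans (j.preimage_mono ((le_opn1 (Ub g₀ U) i l).trans (preimage_opn g₀ U _).ge))
  have h1 := dL_i1 _ _ _ (EZ 0 b) i l hO ((hl.trans (he _)).trans (le_opn0 (Ub gQ (Ub s U)) l))
    ((hi.trans (he _)).trans (le_opn0 (Ub gQ (Ub s U)) i))
  rw [← h0] at h1
  change ro hO (ro _ (gQ.app _ (ro _ (tQ.E _ (a (i1 i l)))))) = ro _ _ - ro _ _ at h1
  rw [ro_mul, ro_mul, ro_ro, ro_ro, ro_ro, ro_ro, ← mul_sub, ← h1, EC_apply, ro_ro, appLE_ro, ro_ro,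
    ro_app, appLE_ro, ← ro_app j hO₀,
    show j.app (g₀ ⁻¹ᵁ opn U (i1 i l).1) (t₀.E _ (a (i1 i l))) = _ from hv _ (a (i1 i l)),
    ro_mul, ro_ro, ro_ro]
  congr 1

end Slice

section Main

variable {R k : Type u} [CommRing R] [IsNoetherianRing R] [Field k] [Algebra R k]

variable {X Y P P₀ QX QY : Scheme.{u}} {fX : X ⟶ Spec (CommRingCat.of k)} {fY : Y ⟶ Spec (CommRingCat.of k)}
  {p : P₀ ⟶ X} {q : P₀ ⟶ Y} {fP : P ⟶ Spec (CommRingCat.of R)} {g₀ : P₀ ⟶ P} {π : P ⟶ P₀}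
  {fQX : QX ⟶ Spec (CommRingCat.of R)} {sX : QX ⟶ P} {gX : X ⟶ QX} {jX : X ⟶ P₀}
  {fQY : QY ⟶ Spec (CommRingCat.of R)} {sY : QY ⟶ P} {gY : Y ⟶ QY} {jY : Y ⟶ P₀}

theorem exists_frame_near_fibre [IsProper fP] [Flat fP] [Flat fQX] [Flat fQY] [IsAffineHom π]
    [IsAffineHom sX] [IsAffineHom sY] [X.IsSeparated] [Y.IsSeparated] [CompactSpace X] [CompactSpace Y]
    [P₀.IsSeparated] (hk : Function.Surjective (algebraMap R k))
    (hP₀ : IsPullback p q fX fY)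
    (hΓX : Function.Bijective (Coh.toGlobal fX)) (hΓY : Function.Bijective (Coh.toGlobal fY))
    (sq₀ : IsPullback g₀ (p ≫ fX) fP (Spec.map (CommRingCat.ofHom (algebraMap R k))))
    (hπ : g₀ ≫ π = 𝟙 P₀)
    (x₀ : Spec (CommRingCat.of k) ⟶ X) (y₀ : Spec (CommRingCat.of k) ⟶ Y) (hy₀ : y₀ ≫ fY = 𝟙 _)
    (hjXp : jX ≫ p = 𝟙 X) (hjXq : jX ≫ q = fX ≫ y₀) (hjYq : jY ≫ q = 𝟙 Y) (hjYp : jY ≫ p = fY ≫ x₀)
    (hsX : sX ≫ fP = fQX) (sqX : IsPullback gX fX fQX (Spec.map (CommRingCat.ofHom (algebraMap R k))))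
    (hcX : gX ≫ sX = jX ≫ g₀)
    (hsY : sY ≫ fP = fQY) (sqY : IsPullback gY fY fQY (Spec.map (CommRingCat.ofHom (algebraMap R k))))
    (hcY : gY ≫ sY = jY ≫ g₀)
    (L : P.Modules) (hL : PicF.IsInvertible L)
    (θ : (Scheme.Modules.pullback g₀).obj L ≅ Coh.structureModule P₀)
    (θX : (Scheme.Modules.pullback sX).obj L ≅ Coh.structureModule QX)
    (θY : (Scheme.Modules.pullback sY).obj L ≅ Coh.structureModule QY) :
    ∃ (σ : Γ(L, ⊤)) (O : P.Opens), (∀ y : P₀, g₀ y ∈ O) ∧ IsFrame L O (rs L le_top σ) := by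
  classical
  haveI := Groth.L21.Extend.isQCoh_of_isInvertible hL
  obtain ⟨S, W, hWc, hW⟩ := Groth.L17.BC.exists_affine_cover (X := X)
  obtain ⟨T, V, hVc, hV⟩ := Groth.L17.BC.exists_affine_cover (X := Y)
  let W' : Fin S → X.Opens := fun s => W ⟨s⟩
  let V' : Fin T → Y.Opens := fun t => V ⟨t⟩
  have hW' : ∀ s, IsAffineOpen (W' s) := fun s => by simpa using hW 0 fun _ => ⟨s⟩
  have hV' : ∀ t, IsAffineOpen (V' t) := fun t => by simpa using hV 0 fun _ => ⟨t⟩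
  have hW'c : ⨆ s, W' s = ⊤ := top_unique fun x _ => by
    obtain ⟨i, hi⟩ := Opens.mem_iSup.1 (hWc.ge (Opens.mem_top x))
    exact Opens.mem_iSup.2 ⟨i.down, hi⟩
  have hV'c : ⨆ t, V' t = ⊤ := top_unique fun x _ => by
    obtain ⟨i, hi⟩ := Opens.mem_iSup.1 (hVc.ge (Opens.mem_top x))
    exact Opens.mem_iSup.2 ⟨i.down, hi⟩
  let ι : Type u := ULift.{u} (Fin S × Fin T)
  let bx : ι → P₀.Opens := fun i => boxU W' V' p q i.down
  have hbx : ∀ i, IsAffineOpen (bx i) := fun i => by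
    haveI : IsAffine (W' i.down.1).toScheme := hW' _
    haveI : IsAffine (V' i.down.2).toScheme := hV' _
    haveI : IsAffine (⊤ : (Spec (CommRingCat.of k)).Opens).toScheme := isAffineOpen_top _
    exact .of_isIso (Scheme.Hom.isPullback_resLE hP₀ (US := ⊤) (UX := W' i.down.1) (UT := V' i.down.2)
      le_top le_top rfl).isoPullback.hom
  let U : ι → P.Opens := fun i => π ⁻¹ᵁ bx i
  have hU₀ : ∀ i, g₀ ⁻¹ᵁ U i = bx i := fun i => by
    show g₀ ⁻¹ᵁ (π ⁻¹ᵁ bx i) = bx i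
    rw [← Scheme.Hom.comp_preimage, hπ, Scheme.Hom.id_preimage]
  have haff : ∀ (n : ℕ) (a : Fin (n + 1) → ι), IsAffineOpen (⨅ k, U (a k)) :=
    isAffineOpen_iInf_preimage π bx fun n a => IsAffineOpen.iInf fun k => hbx _
  have hcov : ⨆ i, U i = ⊤ := top_unique fun x _ => by
    obtain ⟨s, hs⟩ := Opens.mem_iSup.1 (hW'c.ge (Opens.mem_top (p (π x))))
    obtain ⟨t, ht⟩ := Opens.mem_iSup.1 (hV'c.ge (Opens.mem_top (q (π x))))
    exact Opens.mem_iSup.2 ⟨⟨(s, t)⟩, hs, ht⟩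
  have hcovc : ∀ {Q : Scheme.{u}} (s : Q ⟶ P), ⨆ i, Ub s U i = ⊤ := fun {Q} s => top_unique fun x _ => by
    obtain ⟨i, hi⟩ := Opens.mem_iSup.1 (hcov.ge (Opens.mem_top (s x)))
    exact Opens.mem_iSup.2 ⟨i, hi⟩
  have hQ : ∀ {Q : Scheme.{u}} (fQ : Q ⟶ Spec (CommRingCat.of R)) [Flat fQ] (s : Q ⟶ P) [IsAffineHom s] (i : ℤ),
      Module.Flat R (C (Coh.toGlobal fQ) (Coh.structureModule Q) (Ub s U) i) := fun {Q} fQ _ s _ i =>
    Groth.L17.BC.flat_K fQ (Ub s U) _ (flat_sections fQ (Groth.L18.Ample.isInvertible_structureModule Q))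
      (isAffineOpen_iInf_preimage s U haff) i
  let m := RingHom.ker (algebraMap R k)
  haveI : m.IsMaximal := RingHom.ker_isMaximal_of_surjective _ hk
  haveI : Module.Flat R (C (Coh.toGlobal fP) L U (0 + 1 + 1)) :=
    Groth.L17.BC.flat_K fP U L (flat_sections fP hL) haff _
  haveI := hQ fQX sX (0 + 1)
  haveI := hQ fQY sY (0 + 1)
  let f₀ := p ≫ fX
  let t₀ := Triv.ofIso g₀ L θ
  let tX := Triv.ofIso sX L θX
  let tY := Triv.ofIso sY L θY
  have hcm := compat_of_isPullback fP f₀ g₀ sq₀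
  have hcomp : ∀ {Q : Scheme.{u}} (fQ : Q ⟶ Spec (CommRingCat.of R)) (s : Q ⟶ P), s ≫ fP = fQ →
      ∀ r, s.appTop (Coh.toGlobal fP r) = Coh.toGlobal fQ r := fun {Q} fQ s hs r => by
    rw [← hs]; exact congr($((Scheme.Hom.comp_appTop s fP).symm) _)
  let d₀ := dL (Coh.toGlobal fP) L U 0
  let πX := fun i => ECl U (ρ'' := Coh.toGlobal fQX) (hcomp fQX sX hsX) tX i
  let πY := fun i => ECl U (ρ'' := Coh.toGlobal fQY) (hcomp fQY sY hsY) tY i
  have hK : ∀ a : C (Coh.toGlobal fP) L U (0 + 1),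
      dL (Coh.toGlobal fP) L U (0 + 1) a ∈ m • (⊤ : Submodule R _) →
      (∃ b, πX (0 + 1) a - dL _ _ _ 0 b ∈ m • (⊤ : Submodule R _)) →
      (∃ b, πY (0 + 1) a - dL _ _ _ 0 b ∈ m • (⊤ : Submodule R _)) →
      ∃ e, a - d₀ e ∈ m • (⊤ : Submodule R (C (Coh.toGlobal fP) L U (0 + 1))) := by
    intro a ha ⟨b, hb⟩ ⟨b', hb'⟩
    obtain ⟨βX, hβX⟩ := exists_slice_bound U hL hsX sq₀ sqX hcX tX t₀ a b hb
    obtain ⟨βY, hβY⟩ := exists_slice_bound U hL hsY sq₀ sqY hcY tY t₀ a b' hb'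
    let a' := EC (Coh.toGlobal f₀) U t₀ (0 + 1) a
    have hz : dL (Coh.toGlobal f₀) (Coh.structureModule P₀) (Ub g₀ U) (0 + 1) a' = 0 := by
      rw [← EC_d]
      exact EC_eq_zero_of_mem _ hcm U _ _ ha
    have hle : ∀ i l : ι, bx i ⊓ bx l ≤ opn (Ub g₀ U) (i1 i l).1 := fun i l =>
      (inf_le_inf (hU₀ i).ge (hU₀ l).ge).trans (le_opn1 (Ub g₀ U) i l)
    refine Exists.elim (kunneth hP₀ W' V' hW' hV' hW'c hV'c hΓX hΓY x₀ y₀ hy₀ jX hjXp hjXq jY hjYq hjYp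
      (fun i l => ro (hle ⟨i⟩ ⟨l⟩) (a' (i1 ⟨i⟩ ⟨l⟩))) (fun i l r O hil hlr hir => ?_)
      (fun i => ro (jX.preimage_mono (hU₀ ⟨i⟩).ge) (βX ⟨i⟩)) (fun i l O hi hl => ?_)
      (fun i => ro (jY.preimage_mono (hU₀ ⟨i⟩).ge) (βY ⟨i⟩)) (fun i l O hi hl => ?_)) fun e he => ?_
    · have hO : O ≤ opn (Ub g₀ U) (i2 (⟨i⟩ : ι) ⟨l⟩ ⟨r⟩).1 :=
        (le_inf (le_inf ((hil.trans inf_le_left).trans (hU₀ ⟨i⟩).ge) ((hlr.trans inf_le_left).trans (hU₀ ⟨l⟩).ge))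
          ((hlr.trans inf_le_right).trans (hU₀ ⟨r⟩).ge)).trans (le_opn2 (Ub g₀ U) ⟨i⟩ ⟨l⟩ ⟨r⟩)
      have h1 := dL_i2 _ _ _ a' (⟨i⟩ : ι) ⟨l⟩ ⟨r⟩ hO (hlr.trans (hle ⟨l⟩ ⟨r⟩)) (hir.trans (hle ⟨i⟩ ⟨r⟩))
        (hil.trans (hle ⟨i⟩ ⟨l⟩))
      rw [hz] at h1
      rw [ro_ro, ro_ro, ro_ro]
      exact h1.symm.trans (map_zero _)
    · have h1 := hβX ⟨i⟩ ⟨l⟩ O (hi.trans (jX.preimage_mono (hU₀ ⟨i⟩).ge))
        (hl.trans (jX.preimage_mono (hU₀ ⟨l⟩).ge))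
      rw [appLE_ro] at h1 ⊢
      rw [ro_ro, ro_ro]
      exact h1
    · have h1 := hβY ⟨i⟩ ⟨l⟩ O (hi.trans (jY.preimage_mono (hU₀ ⟨i⟩).ge))
        (hl.trans (jY.preimage_mono (hU₀ ⟨l⟩).ge))
      rw [appLE_ro] at h1 ⊢
      rw [ro_ro, ro_ro]
      exact h1
    · let y : C (Coh.toGlobal f₀) (Coh.structureModule P₀) (Ub g₀ U) 0 := fun a =>
        ro ((iInf_le (fun k : Fin a.1.length => Ub g₀ U a.1[k.1]) ⟨0, List.length_pos_iff.2 a.2.2⟩).trans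
          (hU₀ _).le) (e (a.1[0]'(List.length_pos_iff.2 a.2.2)).down)
      obtain ⟨x, hx⟩ := EC_surjective U sq₀ hk haff θ 0 y
      refine ⟨x, mem_smul_of_EC_eq_zero U sq₀ hk haff hL θ t₀ (0 + 1) _ ?_⟩
      rw [map_sub, EC_d, sub_eq_zero]
      funext c
      obtain ⟨i, l, rfl⟩ := exists_eq_i1 c
      have h1 := dL_i1 (Coh.toGlobal f₀) (Coh.structureModule P₀) (Ub g₀ U) y i l le_rfl
        ((opn1_le (Ub g₀ U) i l).trans (inf_le_right.trans (le_opn0 (Ub g₀ U) l)))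
        ((opn1_le (Ub g₀ U) i l).trans (inf_le_left.trans (le_opn0 (Ub g₀ U) i)))
      rw [rs_self, ← hx] at h1
      refine Eq.trans ?_ h1.symm
      rw [hx]
      have h2 := congrArg (ro ((opn1_le (Ub g₀ U) i l).trans (inf_le_inf (hU₀ i).le (hU₀ l).le)))
        (he i.down l.down)
      rw [ro_ro, ro_self, ro_sub, ro_ro, ro_ro] at h2
      refine h2.trans ?_
      show _ = ro _ (ro _ (e l.down)) - ro _ (ro _ (e i.down))
      rw [ro_ro, ro_ro]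
  obtain ⟨c₁, hc₁⟩ := EC_surjective U sq₀ hk haff θ 0 (oneC (Coh.toGlobal f₀) (Ub g₀ U))
  have hdc₁ : d₀ c₁ ∈ m • (⊤ : Submodule R (C (Coh.toGlobal fP) L U (0 + 1))) := by
    refine mem_smul_of_EC_eq_zero U sq₀ hk haff hL θ t₀ (0 + 1) _ ?_
    rw [EC_d, hc₁, dL_oneC]
  have happ : ∀ n : ℕ, ∃ c, c - c₁ ∈ m • (⊤ : Submodule R _) ∧ d₀ c ∈ m ^ (n + 1) • (⊤ : Submodule R _) := by
    intro n
    induction n with
    | zero => exact ⟨c₁, by simp, by simpa using hdc₁⟩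
    | succ n ih =>
      obtain ⟨c, hc, hdc⟩ := ih
      obtain ⟨c', hc', hdc'⟩ := exists_lift_succ m d₀ (dL (Coh.toGlobal fP) L U (0 + 1))
        (fun x => Groth.L17.BC.dL_dL (Coh.toGlobal fP) L U 0 x)
        (dL (Coh.toGlobal fQX) (Coh.structureModule QX) (Ub sX U) 0)
        (dL (Coh.toGlobal fQY) (Coh.structureModule QY) (Ub sY U) 0)
        (πX 0) (πX (0 + 1)) (πY 0) (πY (0 + 1))
        (fun x => (EC_d _ U tX 0 x).symm) (fun x => (EC_d _ U tY 0 x).symm)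
        (oneC _ _) (dL_oneC _ _)
        (exists_sub_smul_oneC hk sqX hΓX (Ub sX U) (hcovc sX) (isAffineOpen_iInf_preimage sX U haff))
        (oneC _ _) (dL_oneC _ _)
        (exists_sub_smul_oneC hk sqY hΓY (Ub sY U) (hcovc sY) (isAffineOpen_iInf_preimage sY U haff))
        hK (n + 1) c hdc
      refine ⟨c', ?_, hdc'⟩
      have := Submodule.add_mem _ (Submodule.smul_mono_left (Ideal.pow_le_self n.succ_ne_zero) hc') hc
      rwa [sub_add_sub_cancel] at this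
  have hFcoh : Coh.IsCoh L := Groth.L18.Ample.isCoh_of_isInvertible hL
  obtain ⟨Lc, φ, hfin, hq⟩ := exists_model_of_cover fP L hFcoh (flat_sections fP hL) U hcov haff
  obtain ⟨x, hx, hxc⟩ := exists_cycle_of_approx φ hq
    (Groth.L17.BC.subsingleton_C (Coh.toGlobal fP) L U (by norm_num)) m c₁ fun n => by
      obtain ⟨c, hc, hdc⟩ := happ n
      refine ⟨c, hc, ?_⟩
      rw [Groth.L17.BC.K_d]
      exact Submodule.smul_mono_left (Ideal.pow_le_pow_right n.le_succ) hdc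
  rw [Groth.L17.BC.K_d] at hx
  have hx1 : EC (Coh.toGlobal f₀) U t₀ 0 x = oneC (Coh.toGlobal f₀) (Ub g₀ U) := by
    rw [← hc₁, ← sub_eq_zero, ← map_sub]
    exact EC_eq_zero_of_mem _ hcm U _ _ hxc
  exact exists_frame_of_unit_cycle U hL t₀ (Coh.toGlobal fP) (Coh.toGlobal f₀) hcov x hx hx1

end Main

end Groth.L08.Cube
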