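import Groth.Agent.L17.BC.Change
import Mathlib.AlgebraicGeometry.Morphisms.Flat
import Mathlib.LinearAlgebra.TensorProduct.Pi

/-!
# Functions on products of affine opens over a field
-/

set_option autoImplicit false
set_option linter.style.haveILetI false
set_option linter.unusedSectionVars false
set_option backward.isDefEq.respectTransparency false

universe u

open CategoryTheory AlgebraicGeometry TopologicalSpace Opposite
open scoped TensorProduct

noncomputable section

namespace Groth.L08.Cube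

open Groth.L17.BC (Sec resL act app_act)
open Groth.L18.Frame (rs ro rs_rs rs_self rs_smul ro_ro ro_self ro_mul)

variable {k : Type u} [Field k]

/-- Functions, as a vector space. -/
abbrev Fn {X : Scheme.{u}} (f : X ⟶ Spec (CommRingCat.of k)) (W : X.Opens) : Type u :=
  Sec (Coh.toGlobal f) (Coh.structureModule X) W

/-- A function as a vector. -/
def fn {X : Scheme.{u}} (f : X ⟶ Spec (CommRingCat.of k)) {W : X.Opens} (a : Γ(X, W)) : Fn f W := a

/-- A vector as a function. -/
def fv {X : Scheme.{u}} {f : X ⟶ Spec (CommRingCat.of k)} {W : X.Opens} (a : Fn f W) : Γ(X, W) := a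

/-- Restriction. -/
abbrev resF {X : Scheme.{u}} (f : X ⟶ Spec (CommRingCat.of k)) {W W' : X.Opens} (h : W' ≤ W) :
    Fn f W →ₗ[k] Fn f W' :=
  resL (Coh.toGlobal f) (Coh.structureModule X) h

variable {X Y P : Scheme.{u}} {fX : X ⟶ Spec (CommRingCat.of k)} {fY : Y ⟶ Spec (CommRingCat.of k)}
  {p : P ⟶ X} {q : P ⟶ Y} (hP : IsPullback p q fX fY)

/-- The product of two opens. -/
abbrev box (p : P ⟶ X) (q : P ⟶ Y) (W : X.Opens) (V : Y.Opens) : P.Opens := p ⁻¹ᵁ W ⊓ q ⁻¹ᵁ V

theorem box_mono {W W' : X.Opens} {V V' : Y.Opens} (hW : W' ≤ W) (hV : V' ≤ V) :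
    box p q W' V' ≤ box p q W V := inf_le_inf (p.preimage_mono hW) (q.preimage_mono hV)

theorem appTop_toGlobal {Z Z' : Scheme.{u}} (h : Z' ⟶ Z) (f : Z ⟶ Spec (CommRingCat.of k)) (r : k) :
    h.appTop (Coh.toGlobal f r) = Coh.toGlobal (h ≫ f) r := by
  show (f.appTop ≫ h.appTop) ((Scheme.ΓSpecIso (CommRingCat.of k)).inv r) = _
  rw [← Scheme.Hom.comp_appTop]
  rfl

theorem ro_app {Z Z' : Scheme.{u}} (h : Z' ⟶ Z) {V : Z.Opens} {W : Z'.Opens} (e : W ≤ h ⁻¹ᵁ V)
    (a : Γ(Z, V)) : ro e (h.app V a) = h.appLE V W e a := rfl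

theorem appLE_ro {Z Z' : Scheme.{u}} (h : Z' ⟶ Z) {V V' : Z.Opens} {W : Z'.Opens} (hV : V' ≤ V)
    (e : W ≤ h ⁻¹ᵁ V') (a : Γ(Z, V)) :
    h.appLE V' W e (ro hV a) = h.appLE V W (e.trans (h.preimage_mono hV)) a :=
  congr($(h.map_appLE e (homOfLE hV).op) a)

theorem ro_appLE {Z Z' : Scheme.{u}} (h : Z' ⟶ Z) {V : Z.Opens} {W W' : Z'.Opens} (hW : W' ≤ W)
    (e : W ≤ h ⁻¹ᵁ V) (a : Γ(Z, V)) : ro hW (h.appLE V W e a) = h.appLE V W' (hW.trans e) a :=
  congr($(h.appLE_map e (homOfLE hW).op) a)

/-- The external product of functions. -/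
def tau (W : X.Opens) (V : Y.Opens) : Fn fX W ⊗[k] Fn fY V →ₗ[k] Fn (p ≫ fX) (box p q W V) :=
  TensorProduct.lift (LinearMap.mk₂ k
    (fun a b => fn (p ≫ fX) (p.appLE W _ inf_le_left (fv a) * q.appLE V _ inf_le_right (fv b)))
    (fun a a' b => by
      refine congrArg (fn (p ≫ fX)) ?_
      show p.appLE W _ _ (fv a + fv a') * _ = _
      rw [map_add, add_mul]; rfl)
    (fun r a b => by
      refine congrArg (fn (p ≫ fX)) ?_
      show p.appLE W (box p q W V) inf_le_left (act (Coh.toGlobal fX) W r * fv a) *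
          q.appLE V (box p q W V) inf_le_right (fv b) =
        act (Coh.toGlobal (p ≫ fX)) _ r * (p.appLE W (box p q W V) inf_le_left (fv a) *
          q.appLE V (box p q W V) inf_le_right (fv b))
      rw [map_mul, mul_assoc, ← ro_app p inf_le_left (act (Coh.toGlobal fX) W r),
        app_act p _ (Coh.toGlobal (p ≫ fX)) inf_le_left r r (appTop_toGlobal p fX r)])
    (fun a b b' => by
      refine congrArg (fn (p ≫ fX)) ?_
      show _ * q.appLE V _ _ (fv b + fv b') = _
      rw [map_add, mul_add]; rfl)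
    (fun r a b => by
      refine congrArg (fn (p ≫ fX)) ?_
      show p.appLE W (box p q W V) inf_le_left (fv a) *
          q.appLE V (box p q W V) inf_le_right (act (Coh.toGlobal fY) V r * fv b) =
        act (Coh.toGlobal (p ≫ fX)) _ r * (p.appLE W (box p q W V) inf_le_left (fv a) *
          q.appLE V (box p q W V) inf_le_right (fv b))
      rw [map_mul, mul_left_comm, ← ro_app q inf_le_right (act (Coh.toGlobal fY) V r),
        app_act q _ (Coh.toGlobal (p ≫ fX)) inf_le_right r r (by rw [appTop_toGlobal, hP.w])]))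

theorem tau_tmul {W : X.Opens} {V : Y.Opens} (a : Fn fX W) (b : Fn fY V) :
    tau hP W V (a ⊗ₜ b) = fn (p ≫ fX) (p.appLE W _ inf_le_left (fv a) * q.appLE V _ inf_le_right (fv b)) :=
  rfl

theorem res_tau {W W' : X.Opens} {V V' : Y.Opens} (hW : W' ≤ W) (hV : V' ≤ V)
    (z : Fn fX W ⊗[k] Fn fY V) :
    resF (p ≫ fX) (box_mono hW hV) (tau hP W V z) =
      tau hP W' V' (TensorProduct.map (resF fX hW) (resF fY hV) z) := by
  induction z using TensorProduct.induction_on with
  | zero => simp
  | add z z' hz hz' => simp only [map_add, hz, hz']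
  | tmul a b =>
    rw [TensorProduct.map_tmul, tau_tmul, tau_tmul]
    show ro (box_mono hW hV) (p.appLE W _ _ (fv a) * q.appLE V _ _ (fv b)) =
      p.appLE W' _ _ (ro hW (fv a)) * q.appLE V' _ _ (ro hV (fv b))
    rw [ro_mul, ro_appLE, ro_appLE, appLE_ro, appLE_ro]

include hP in
theorem isPushout_box {W : X.Opens} {V : Y.Opens} (hW : IsAffineOpen W) (hV : IsAffineOpen V) :
    IsPushout (CommRingCat.ofHom (act (Coh.toGlobal fX) W)) (CommRingCat.ofHom (act (Coh.toGlobal fY) V))
      (p.appLE W (box p q W V) inf_le_left) (q.appLE V (box p q W V) inf_le_right) := by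
  have h := (isIso_pushoutSection_iff hP le_top le_top rfl).1
    (isIso_pushoutSection_of_isAffineOpen hP (UY := box p q W V) (US := ⊤) le_top le_top rfl
      (isAffineOpen_top _) hV hW)
  exact h.of_iso (Scheme.ΓSpecIso (CommRingCat.of k)) (Iso.refl _) (Iso.refl _) (Iso.refl _)
    (by rw [Iso.refl_hom, Category.comp_id, ← Iso.inv_comp_eq]; rfl)
    (by rw [Iso.refl_hom, Category.comp_id, ← Iso.inv_comp_eq]; rfl)
    (by simp) (by simp)

include hP in
theorem bijective_tau {W : X.Opens} {V : Y.Opens} (hW : IsAffineOpen W) (hV : IsAffineOpen V) :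
    Function.Bijective (tau hP W V) := by
  letI : Algebra k Γ(X, W) := (act (Coh.toGlobal fX) W).toAlgebra
  letI : Algebra k Γ(Y, V) := (act (Coh.toGlobal fY) V).toAlgebra
  letI : Algebra Γ(X, W) Γ(P, box p q W V) := (p.appLE W _ inf_le_left).hom.toAlgebra
  letI : Algebra Γ(Y, V) Γ(P, box p q W V) := (q.appLE V _ inf_le_right).hom.toAlgebra
  letI : Algebra k Γ(P, box p q W V) :=
    ((p.appLE W (box p q W V) inf_le_left).hom.comp (act (Coh.toGlobal fX) W)).toAlgebra
  haveI : IsScalarTower k Γ(X, W) Γ(P, box p q W V) := IsScalarTower.of_algebraMap_eq fun _ => rfl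
  have hpo := isPushout_box hP hW hV
  haveI : IsScalarTower k Γ(Y, V) Γ(P, box p q W V) :=
    IsScalarTower.of_algebraMap_eq fun r => congr($(hpo.w) r)
  haveI : Algebra.IsPushout k Γ(X, W) Γ(Y, V) Γ(P, box p q W V) :=
    CommRingCat.isPushout_iff_isPushout.1 hpo
  let e := Algebra.IsPushout.equiv k Γ(X, W) Γ(Y, V) Γ(P, box p q W V)
  have h : ∀ z : Fn fX W ⊗[k] Fn fY V, tau hP W V z = e (show Γ(X, W) ⊗[k] Γ(Y, V) from z) := by
    intro z
    induction z using TensorProduct.induction_on with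
    | zero => exact (map_zero _).trans (map_zero e).symm
    | tmul a b => exact (Algebra.IsPushout.equiv_tmul k Γ(X, W) Γ(Y, V) Γ(P, box p q W V) (fv a) (fv b)).symm
    | add z z' hz hz' => rw [map_add, hz, hz']; exact (map_add e _ _).symm
  exact (funext h : ⇑(tau hP W V) = _) ▸ e.bijective

/-- The external product along a linear map into functions. -/
def taup {K : Type u} [AddCommGroup K] [Module k K] {W : X.Opens} (π : K →ₗ[k] Fn fX W) (V : Y.Opens) :
    K ⊗[k] Fn fY V →ₗ[k] Fn (p ≫ fX) (box p q W V) :=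
  tau hP W V ∘ₗ π.rTensor (Fn fY V)

theorem res_taup {K : Type u} [AddCommGroup K] [Module k K] {W W' : X.Opens} {V V' : Y.Opens}
    (π : K →ₗ[k] Fn fX W) (hW : W' ≤ W) (hV : V' ≤ V) (z : K ⊗[k] Fn fY V) :
    resF (p ≫ fX) (box_mono hW hV) (taup hP π V z) =
      taup hP (resF fX hW ∘ₗ π) V' ((resF fY hV).lTensor K z) := by
  induction z using TensorProduct.induction_on with
  | zero => simp
  | add z z' hz hz' => simp only [map_add, hz, hz']
  | tmul a b => exact (res_tau hP hW hV (π a ⊗ₜ b)).trans rfl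

/-- Coordinates of external products for a finite family of opens. -/
theorem bijective_taup_pi {S : Type} [Finite S] (W : S → X.Opens) (hW : ∀ s, IsAffineOpen (W s))
    {V : Y.Opens} (hV : IsAffineOpen V) :
    Function.Bijective fun (z : (∀ s, Fn fX (W s)) ⊗[k] Fn fY V) (s : S) =>
      taup hP (LinearMap.proj (φ := fun s => Fn fX (W s)) s) V z := by
  classical
  let _ : Fintype S := Fintype.ofFinite S
  let e : ((∀ s, Fn fX (W s)) ⊗[k] Fn fY V) ≃ₗ[k] ∀ s, Fn (p ≫ fX) (box p q (W s) V) :=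
    (TensorProduct.piLeft k (Fn fY V) (fun s => Fn fX (W s))).trans
      (LinearEquiv.piCongrRight fun s => LinearEquiv.ofBijective _ (bijective_tau hP (hW s) hV))
  have h : ∀ z, e z = fun s => taup hP (LinearMap.proj (φ := fun s => Fn fX (W s)) s) V z := by
    intro z
    induction z using TensorProduct.induction_on with
    | zero => funext s; simp
    | add z z' hz hz' => funext s; simp only [map_add, Pi.add_apply, hz, hz']
    | tmul a b => funext s; simp [e, taup]
  exact (funext h : ⇑e = _) ▸ e.bijective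

/-- Functions pulled back from one factor, when the other has only constants. -/
theorem bijective_app_snd [CompactSpace X] [QuasiSeparatedSpace X]
    (hΓX : Function.Bijective (Coh.toGlobal fX)) {V : Y.Opens} (hV : IsAffineOpen V)
    (hP : IsPullback p q fX fY) : Function.Bijective (q.app V) := by
  have hUY : q ⁻¹ᵁ V = p ⁻¹ᵁ ⊤ ⊓ q ⁻¹ᵁ V := by rw [Scheme.Hom.preimage_top, top_inf_eq]
  have h := (isIso_pushoutSection_iff hP le_top le_top hUY).1
    (isIso_pushoutSection_of_isQuasiSeparated_of_flat_right hP (US := ⊤) le_top le_top hUY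
      (isAffineOpen_top _) hV isCompact_univ isQuasiSeparated_univ)
  haveI : IsIso (fX.appLE ⊤ ⊤ le_top) := by
    have h1 : Function.Bijective (fX.appTop : _ ⟶ _) := by
      have := hΓX.comp (ConcreteCategory.bijective_of_isIso (Scheme.ΓSpecIso (CommRingCat.of k)).hom)
      have e : ⇑(Coh.toGlobal fX) ∘ ⇑(Scheme.ΓSpecIso (CommRingCat.of k)).hom = ⇑fX.appTop := by
        funext a
        exact congrArg fX.appTop (Iso.hom_inv_id_apply (Scheme.ΓSpecIso (CommRingCat.of k)) a)
      rwa [e] at this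
    have e : fX.appLE ⊤ ⊤ le_top = fX.appTop := fX.app_eq_appLE.symm
    rw [e]
    exact (ConcreteCategory.isIso_iff_bijective _).2 h1
  have h2 := h.isIso_inr_of_isIso
  have e : q.appLE V (q ⁻¹ᵁ V) le_rfl = q.app V := q.app_eq_appLE.symm
  haveI : IsIso (q.app V) := e ▸ h2
  exact ConcreteCategory.bijective_of_isIso (q.app V)

end Groth.L08.Cube
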