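import Groth.Agent.L08.Cube.RelOpen

/-!
# The relative theorem of the cube
-/

set_option autoImplicit false
set_option linter.style.haveILetI false
set_option linter.unusedSectionVars false
set_option backward.isDefEq.respectTransparency false

universe u

open CategoryTheory CategoryTheory.Limits AlgebraicGeometry TopologicalSpace Opposite

noncomputable section

namespace Groth.L08.Cube

namespace Slices

/-- Base change of a pointed product. -/
def baseChange (D : Slices.{u}) {T : Scheme.{u}} (u : T ⟶ D.B) : Slices.{u} where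
  B := T
  QX := pullback D.qX u
  QY := pullback D.qY u
  P := pullback D.f u
  qX := pullback.snd D.qX u
  qY := pullback.snd D.qY u
  pX := D.prX u
  pY := D.prY u
  hP := D.isPullback_pr u
  properX := inferInstance
  flatX := inferInstance
  lfpX := inferInstance
  giX := inferInstance
  properY := inferInstance
  flatY := inferInstance
  lfpY := inferInstance
  giY := inferInstance
  sX := D.slX u
  sY := D.slY u
  x := D.ptX u
  y := D.ptY u
  hx := D.ptX_snd u
  hy := D.ptY_snd u
  sX_pX := pullback.hom_ext (by simp [D.sX_pX]) (by simp)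
  sX_pY := pullback.hom_ext (by simp [D.sX_pY, pullback.condition_assoc]) (by simp)
  sY_pY := pullback.hom_ext (by simp [D.sY_pY]) (by simp)
  sY_pX := pullback.hom_ext (by simp [D.sY_pX, pullback.condition_assoc]) (by simp)

theorem baseChange_f (D : Slices.{u}) {T : Scheme.{u}} (u : T ⟶ D.B) :
    (D.baseChange u).f = pullback.snd D.f u := D.prX_snd u

end Slices

/-- The product of two pointed families over a base. -/
def slicesOf {S X Y : Scheme.{u}} (pX : X ⟶ S) (pY : Y ⟶ S)
    [Flat pX] [IsProper pX] [LocallyOfFinitePresentation pX] [GeometricallyIntegral pX]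
    [Flat pY] [IsProper pY] [LocallyOfFinitePresentation pY] [GeometricallyIntegral pY]
    (x : S ⟶ X) (hx : x ≫ pX = 𝟙 S) (y : S ⟶ Y) (hy : y ≫ pY = 𝟙 S) : Slices.{u} where
  B := S
  QX := X
  QY := Y
  P := pullback pX pY
  qX := pX
  qY := pY
  pX := pullback.fst pX pY
  pY := pullback.snd pX pY
  hP := IsPullback.of_hasPullback pX pY
  properX := ‹_›
  flatX := ‹_›
  lfpX := ‹_›
  giX := ‹_›
  properY := ‹_›
  flatY := ‹_›
  lfpY := ‹_›
  giY := ‹_›
  sX := pullback.lift (𝟙 X) (pX ≫ y) (by rw [Category.assoc, hy, Category.id_comp, Category.comp_id])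
  sY := pullback.lift (pY ≫ x) (𝟙 Y) (by rw [Category.assoc, hx, Category.id_comp, Category.comp_id])
  x := x
  y := y
  hx := hx
  hy := hy
  sX_pX := pullback.lift_fst _ _ _
  sX_pY := pullback.lift_snd _ _ _
  sY_pY := pullback.lift_snd _ _ _
  sY_pX := pullback.lift_fst _ _ _

/-- The relative theorem of the cube. -/
theorem relative_cube {S X Y Z : Scheme.{u}} (pX : X ⟶ S) (pY : Y ⟶ S) (pZ : Z ⟶ S)
    [Flat pX] [IsProper pX] [LocallyOfFinitePresentation pX] [GeometricallyIntegral pX]
    [Flat pY] [IsProper pY] [LocallyOfFinitePresentation pY] [GeometricallyIntegral pY]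
    (x : S ⟶ X) (hx : x ≫ pX = 𝟙 S) (y : S ⟶ Y) (hy : y ≫ pY = 𝟙 S)
    (L : (pullback (pullback.fst pX pY ≫ pX) pZ).Modules) (hL : PicF.IsInvertible L)
    (hsX : Nonempty ((Scheme.Modules.pullback ((slicesOf pX pY x hx y hy).slX pZ)).obj L ≅ Coh.structureModule _))
    (hsY : Nonempty ((Scheme.Modules.pullback ((slicesOf pX pY x hx y hy).slY pZ)).obj L ≅ Coh.structureModule _)) :
    ∃ W : Z.Opens, IsClosed (W : Set Z) ∧
      (∀ z : Z, Nonempty ((Scheme.Modules.pullback ((pullback.snd (pullback.fst pX pY ≫ pX) pZ).fiberι z)).obj L ≅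
        Coh.structureModule _) → z ∈ W) ∧
      Nonempty ((Scheme.Modules.pullback ((pullback.snd (pullback.fst pX pY ≫ pX) pZ) ⁻¹ᵁ W).ι).obj L ≅
        Coh.structureModule _) := by
  let D := (slicesOf pX pY x hx y hy).baseChange pZ
  obtain ⟨W, hW, hmem, hWtriv⟩ := D.exists_clopen_trivial L hL hsX hsY
  refine ⟨W, hW, fun z hz => hmem z ?_, ?_⟩
  · have aux : ∀ {P B : Scheme.{u}} {g g' : P ⟶ B} (_ : g = g') (M : P.Modules) (b : B),
        Nonempty (CohIII.fiberMod g M b ≅ Coh.structureModule (g.fiber b)) →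
        Nonempty (CohIII.fiberMod g' M b ≅ Coh.structureModule (g'.fiber b)) := by
      rintro P B g g' rfl M b h; exact h
    exact aux ((slicesOf pX pY x hx y hy).baseChange_f pZ).symm L z hz
  · have hf : D.f = pullback.snd (pullback.fst pX pY ≫ pX) pZ := (slicesOf pX pY x hx y hy).baseChange_f pZ
    let g := pullback.snd (pullback.fst pX pY ≫ pX) pZ
    have sq : IsPullback (g ⁻¹ᵁ W).ι (g ∣_ W) D.f W.ι := by
      rw [hf]
      exact (isPullback_morphismRestrict g W).flip
    exact trivial_comp sq.isoPullback.hom (pullback.fst D.f W.ι) sq.isoPullback_hom_fst L hWtriv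

end Groth.L08.Cube

namespace Groth.L08.Cube

/-- Triviality does not depend on how the source of a base changed map is presented. -/
theorem trivial_slice_of_map {S P Q Z : Scheme.{u}} (f : P ⟶ S) (pZ : Z ⟶ S) (s : Q ⟶ P) (q : Q ⟶ S)
    (hs : s ≫ f = q) (h' : (s ≫ f) ≫ 𝟙 S = s ≫ f) (h'' : pZ ≫ 𝟙 S = 𝟙 Z ≫ pZ)
    (sl : pullback q pZ ⟶ pullback f pZ) (hfst : sl ≫ pullback.fst f pZ = pullback.fst q pZ ≫ s)
    (hsnd : sl ≫ pullback.snd f pZ = pullback.snd q pZ)
    (L : (pullback f pZ).Modules)
    (h : Nonempty ((Scheme.Modules.pullback (pullback.map (s ≫ f) pZ f pZ s (𝟙 Z) (𝟙 S) h' h'')).obj L ≅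
      Coh.structureModule _)) :
    Nonempty ((Scheme.Modules.pullback sl).obj L ≅ Coh.structureModule _) :=
  trivial_comp (pullback.congrHom hs (rfl : pZ = pZ)).inv (pullback.map (s ≫ f) pZ f pZ s (𝟙 Z) (𝟙 S) h' h'')
    (by apply pullback.hom_ext <;> simp [hfst, hsnd]) L h

end Groth.L08.Cube
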