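import Groth.Agent.L08.Cube.RelSlices
import Groth.Agent.L20.DescLocus.Closure
import Groth.Agent.S7817
import Mathlib.RingTheory.FinitePresentation
import Mathlib.RingTheory.Nakayama

/-!
# The locus of trivial fibres of a module trivial on two slices is open and closed
-/

set_option autoImplicit false
set_option linter.style.haveILetI false
set_option linter.unusedSectionVars false
set_option backward.isDefEq.respectTransparency false

universe u

open CategoryTheory CategoryTheory.Limits AlgebraicGeometry TopologicalSpace Opposite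

noncomputable section

namespace Groth.L08.Cube

section Alg

variable {A : Type u} [CommRing A] (I : Ideal A) (p : Ideal A) [p.IsPrime]

/-- A finitely generated ideal equal to `m` times itself at a prime is killed outside the prime. -/
theorem exists_mul_eq_zero_of_le_smul (hI : I.FG)
    (h : I.map (algebraMap A (Localization.AtPrime p)) ≤
      IsLocalRing.maximalIdeal (Localization.AtPrime p) * I.map (algebraMap A (Localization.AtPrime p))) :
    ∃ s ∉ p, ∀ i ∈ I, s * i = 0 := by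
  classical
  have h0 : I.map (algebraMap A (Localization.AtPrime p)) = ⊥ :=
    Submodule.eq_bot_of_le_smul_of_le_jacobson_bot (IsLocalRing.maximalIdeal _) _ (hI.map _) h
      (IsLocalRing.maximalIdeal_le_jacobson _)
  obtain ⟨G, rfl⟩ := hI
  have hg : ∀ g ∈ G, ∃ s ∉ p, s * g = 0 := fun g hg => by
    have hz : algebraMap A (Localization.AtPrime p) g = 0 :=
      (Ideal.mem_bot).1 (h0 ▸ Ideal.mem_map_of_mem _ (Ideal.subset_span hg))
    obtain ⟨⟨s, hs⟩, hsg⟩ := (IsLocalization.map_eq_zero_iff p.primeCompl _ g).1 hz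
    exact ⟨s, hs, hsg⟩
  choose s hs hsg using hg
  refine ⟨∏ g : G, s g.1 g.2, fun hmem => ?_, fun i hi => ?_⟩
  · obtain ⟨g, -, hg⟩ := (‹p.IsPrime›.prod_mem_iff).1 hmem
    exact hs g.1 g.2 hg
  · induction hi using Submodule.span_induction with
    | mem g hg =>
      obtain ⟨c, hc⟩ := Finset.dvd_prod_of_mem (fun g : G => s g.1 g.2) (Finset.mem_univ ⟨g, hg⟩)
      rw [hc, mul_assoc, mul_comm c, ← mul_assoc, hsg g hg, zero_mul]
    | zero => simp
    | add a b _ _ ha hb => rw [mul_add, ha, hb, add_zero]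
    | smul r a _ ha => rw [smul_eq_mul, mul_comm r, ← mul_assoc, ha, zero_mul]

end Alg

namespace Slices

variable (D : Slices.{u}) (L : D.P.Modules) (hL : PicF.IsInvertible L)
  (hX : Nonempty ((Scheme.Modules.pullback D.sX).obj L ≅ Coh.structureModule D.QX))
  (hY : Nonempty ((Scheme.Modules.pullback D.sY).obj L ≅ Coh.structureModule D.QY))

include hL hX hY

/-- A module coming from the test object is trivial. -/
theorem trivial_of_descends {T : Scheme.{u}} (u : T ⟶ D.B)
    (h : ∃ M : T.Modules, FlatMod.IsFinLocFree M ∧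
      Nonempty ((Scheme.Modules.pullback (pullback.fst D.f u)).obj L ≅ (Scheme.Modules.pullback (pullback.snd D.f u)).obj M)) :
    Nonempty ((Scheme.Modules.pullback (pullback.fst D.f u)).obj L ≅ Coh.structureModule _) := by
  obtain ⟨M, -, ⟨e⟩⟩ := h
  let σ : T ⟶ pullback D.f u := D.ptY u ≫ D.slY u
  have hσ : σ ≫ pullback.snd D.f u = 𝟙 T := by simp [σ]
  obtain ⟨a⟩ := trivial_of_eq σ (pullback.fst D.f u) (k := (u ≫ D.y) ≫ D.sY) (by simp [σ]) L
    (trivial_comp (u ≫ D.y) D.sY rfl L hY)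
  let b : M ≅ Coh.structureModule T :=
    ((Scheme.Modules.pullbackId T).app M).symm ≪≫ ((Scheme.Modules.pullbackCongr hσ).app M).symm ≪≫
      ((Scheme.Modules.pullbackComp σ (pullback.snd D.f u)).app M).symm ≪≫
      (Scheme.Modules.pullback σ).mapIso e.symm ≪≫ a
  exact ⟨e ≪≫ (Scheme.Modules.pullback (pullback.snd D.f u)).mapIso b ≪≫ Groth.L29.LocFree.pullbackUnitIso _⟩

/-- Triviality spreads from a closed subscheme of a local scheme cut out by `I` to that cut out by `mI`. -/
theorem trivial_quotient_maximal_mul {A : Type u} [CommRing A] [IsLocalRing A] (I : Ideal A) (hI : I.FG)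
    (hle : I ≤ IsLocalRing.maximalIdeal A)
    (u : Spec (CommRingCat.of (A ⧸ IsLocalRing.maximalIdeal A * I)) ⟶ D.B)
    (h₁ : Nonempty ((Scheme.Modules.pullback (pullback.fst D.f
      (Spec.map (CommRingCat.ofHom (Ideal.Quotient.factor (Ideal.mul_le_right : IsLocalRing.maximalIdeal A * I ≤ I))) ≫ u))).obj L ≅
        Coh.structureModule _)) :
    Nonempty ((Scheme.Modules.pullback (pullback.fst D.f u)).obj L ≅ Coh.structureModule _) := by
  have hmI : IsLocalRing.maximalIdeal A * I ≤ IsLocalRing.maximalIdeal A := Ideal.mul_le_left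
  letI : Field (A ⧸ IsLocalRing.maximalIdeal A) := Ideal.Quotient.field _
  letI a₁ : Algebra (A ⧸ IsLocalRing.maximalIdeal A * I) (A ⧸ IsLocalRing.maximalIdeal A) :=
    (Ideal.Quotient.factor hmI).toAlgebra
  letI a₂ : Algebra (A ⧸ IsLocalRing.maximalIdeal A * I) (A ⧸ I) :=
    (Ideal.Quotient.factor (Ideal.mul_le_right : IsLocalRing.maximalIdeal A * I ≤ I)).toAlgebra
  refine D.trivial_of_killed L hL hX hY (k := A ⧸ IsLocalRing.maximalIdeal A) (B₁ := A ⧸ I)
    (Ideal.Quotient.factor_surjective hmI) (Ideal.Quotient.factor_surjective Ideal.mul_le_right)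
    (Ideal.Quotient.factor hle) (Ideal.Quotient.factor_comp Ideal.mul_le_right hle) ?_ ?_ u h₁
  · rw [RingHom.algebraMap_toAlgebra, Ideal.Quotient.factor_ker]
    exact hI.map _
  · rw [RingHom.algebraMap_toAlgebra, RingHom.algebraMap_toAlgebra, Ideal.Quotient.factor_ker,
      Ideal.Quotient.factor_ker, ← Ideal.map_mul, Ideal.map_quotient_self]

omit hX hY in
theorem fiber_trivial_iff (b : D.B) :
    Nonempty (CohIII.fiberMod D.f L b ≅ Coh.structureModule (D.f.fiber b)) ↔
      Nonempty ((Scheme.Modules.pullback (pullback.fst D.f (D.B.fromSpecResidueField b))).obj L ≅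
        Coh.structureModule _) := Iff.rfl

/-- The universal subscheme of triviality is open in the base, near each of its points. -/
theorem exists_opens_factor {Z : Scheme.{u}} (ι : Z ⟶ D.B) [IsImmersion ι] [LocallyOfFinitePresentation ι]
    (huniv : ∀ (T : Scheme.{u}) (u : T ⟶ D.B), (∃ u' : T ⟶ Z, u' ≫ ι = u) ↔
      Nonempty ((Scheme.Modules.pullback (pullback.fst D.f u)).obj L ≅ Coh.structureModule _))
    (z : Z) : ∃ W : D.B.Opens, ι z ∈ W ∧ ∃ w : (W : Scheme.{u}) ⟶ Z, w ≫ ι = W.ι := by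
  classical
  let Ω := ι.coborderRange
  let g := ι.liftCoborder
  have hg : g ≫ Ω.ι = ι := ι.liftCoborder_ι
  haveI : LocallyOfFinitePresentation g := by
    have sq : IsPullback (𝟙 Z) g ι Ω.ι := by
      refine ⟨⟨by rw [Category.id_comp, hg]⟩, ⟨PullbackCone.IsLimit.mk _ (fun s => s.fst) (fun s => Category.comp_id _)
        (fun s => ?_) fun s m h₁ _ => by rw [← h₁, Category.comp_id]⟩⟩
      rw [← cancel_mono Ω.ι, Category.assoc, hg]
      exact s.condition
    exact MorphismProperty.of_isPullback sq ‹LocallyOfFinitePresentation ι›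
  obtain ⟨_, ⟨U, hU, rfl⟩, hzU, -⟩ :=
    (Ω : Scheme.{u}).isBasis_affineOpens.exists_subset_of_mem_open (Set.mem_univ (g z)) isOpen_univ
  let V := g ⁻¹ᵁ U
  have hV : IsAffineOpen V := hU.preimage g
  let φ : Γ(Ω, U) ⟶ Γ(Z, V) := g.appLE U V le_rfl
  have hφ : Function.Surjective φ := by
    have := g.app_surjective U hU
    simpa [φ, Scheme.Hom.app_eq_appLE] using this
  have hfp : φ.hom.FinitePresentation := g.finitePresentation_appLE hU hV le_rfl
  have hI : (RingHom.ker φ.hom).FG := by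
    letI := φ.hom.toAlgebra
    haveI : Algebra.FinitePresentation Γ(Ω, U) Γ(Z, V) := hfp
    exact Algebra.FinitePresentation.ker_fG_of_surjective (R := Γ(Ω, U)) (Algebra.ofId Γ(Ω, U) Γ(Z, V))
      hφ
  let I := RingHom.ker φ.hom
  let p : PrimeSpectrum Γ(Ω, U) := hU.isoSpec.hom ⟨g z, hzU⟩
  let Ap := Localization.AtPrime p.asIdeal
  let Ip : Ideal Ap := I.map (algebraMap _ Ap)
  let mI : Ideal Ap := IsLocalRing.maximalIdeal Ap * Ip
  have hIp : Ip ≤ IsLocalRing.maximalIdeal Ap := by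
    refine Ideal.map_le_iff_le_comap.2 fun a ha => ?_
    rw [Ideal.mem_comap, IsLocalization.AtPrime.to_map_mem_maximal_iff Ap p.asIdeal a]
    by_contra hap
    have hz : hV.fromSpec (hV.isoSpec.hom ⟨z, hzU⟩) = z := by
      rw [← Scheme.Hom.comp_apply, hV.isoSpec_hom_fromSpec]; rfl
    have hp : Spec.map φ (hV.isoSpec.hom ⟨z, hzU⟩) = p := by
      refine hU.fromSpec.isOpenEmbedding.injective ?_
      rw [← Scheme.Hom.comp_apply, IsAffineOpen.SpecMap_appLE_fromSpec g hU hV le_rfl, Scheme.Hom.comp_apply, hz,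
        show p = hU.isoSpec.hom ⟨g z, hzU⟩ from rfl, ← Scheme.Hom.comp_apply, hU.isoSpec_hom_fromSpec]
      rfl
    apply hap
    rw [← hp]
    show φ.hom a ∈ (hV.isoSpec.hom ⟨z, hzU⟩).asIdeal
    rw [RingHom.mem_ker.1 ha]
    exact zero_mem _
  let ρ : Γ(Ω, U) →+* Ap ⧸ mI := (Ideal.Quotient.mk mI).comp (algebraMap _ Ap)
  let u₀ : Spec (CommRingCat.of (Ap ⧸ mI)) ⟶ D.B := Spec.map (CommRingCat.ofHom ρ) ≫ hU.fromSpec ≫ Ω.ι
  let χ : Γ(Z, V) →+* Ap ⧸ Ip := φ.hom.liftOfSurjective hφ ⟨(Ideal.Quotient.mk Ip).comp (algebraMap _ Ap),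
    fun a ha => Ideal.Quotient.eq_zero_iff_mem.2 (Ideal.mem_map_of_mem _ ha)⟩
  have hχ : χ.comp φ.hom = (Ideal.Quotient.mk Ip).comp (algebraMap _ Ap) :=
    RingHom.liftOfRightInverse_comp _ _ _ _
  have h₁ : Nonempty ((Scheme.Modules.pullback (pullback.fst D.f
      (Spec.map (CommRingCat.ofHom (Ideal.Quotient.factor (Ideal.mul_le_right : mI ≤ Ip))) ≫ u₀))).obj L ≅
        Coh.structureModule _) := by
    refine (huniv _ _).1 ⟨Spec.map (CommRingCat.ofHom χ) ≫ hV.fromSpec, ?_⟩
    rw [← hg, Category.assoc, ← reassoc_of% IsAffineOpen.SpecMap_appLE_fromSpec g hU hV le_rfl,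
      ← Spec.map_comp_assoc]
    simp only [u₀, ← Spec.map_comp_assoc]
    congr 2
    refine CommRingCat.hom_ext ?_
    exact hχ
  obtain ⟨u', hu'⟩ := (huniv _ _).2 (D.trivial_quotient_maximal_mul L hL hX hY Ip (hI.map _) hIp u₀ h₁)
  have hu'' : u' ≫ g = Spec.map (CommRingCat.ofHom ρ) ≫ hU.fromSpec := by
    rw [← cancel_mono Ω.ι, Category.assoc, hg, hu', Category.assoc]
  have hrange : Set.range u' ⊆ Set.range hV.fromSpec := by
    rw [IsAffineOpen.range_fromSpec]
    rintro _ ⟨t, rfl⟩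
    show g (u' t) ∈ U
    rw [← Scheme.Hom.comp_apply, hu'', Scheme.Hom.comp_apply, ← SetLike.mem_coe, ← IsAffineOpen.range_fromSpec hU]
    exact ⟨_, rfl⟩
  let ψ : Γ(Z, V) ⟶ CommRingCat.of (Ap ⧸ mI) := Spec.preimage (IsOpenImmersion.lift hV.fromSpec u' hrange)
  have hψ : φ ≫ ψ = CommRingCat.ofHom ρ := by
    refine Spec.map_injective ?_
    rw [← cancel_mono hU.fromSpec, ← hu'', Spec.map_comp, Category.assoc,
      IsAffineOpen.SpecMap_appLE_fromSpec g hU hV le_rfl, Spec.map_preimage, IsOpenImmersion.lift_fac_assoc]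
  have hkill : Ip ≤ mI := Ideal.map_le_iff_le_comap.2 fun a ha => by
    refine Ideal.mem_comap.2 (Ideal.Quotient.eq_zero_iff_mem.1 ?_)
    show ρ a = 0
    have := congr($hψ a)
    simp only [CommRingCat.hom_comp, RingHom.comp_apply, CommRingCat.hom_ofHom] at this
    rw [← this, RingHom.mem_ker.1 ha, map_zero]
  obtain ⟨s, hs, hsI⟩ := exists_mul_eq_zero_of_le_smul I p.asIdeal hI hkill
  let U' := (Ω : Scheme.{u}).basicOpen s
  have hU' : IsAffineOpen U' := hU.basicOpen s
  have hzU' : g z ∈ U' := by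
    have h1 : hU.fromSpec p = g z := by
      show hU.fromSpec (hU.isoSpec.hom ⟨g z, hzU⟩) = _
      rw [← Scheme.Hom.comp_apply, hU.isoSpec_hom_fromSpec]; rfl
    have h2 : p ∈ hU.fromSpec ⁻¹ᵁ (Ω : Scheme.{u}).basicOpen s := by
      rw [hU.fromSpec_preimage_basicOpen]; exact hs
    exact h1 ▸ h2
  let res : Γ(Ω, U) ⟶ Γ(Ω, U') := (Ω : Scheme.{u}).presheaf.map (homOfLE ((Ω : Scheme.{u}).basicOpen_le s)).op
  have hres : RingHom.ker φ.hom ≤ RingHom.ker res.hom := fun a ha => by
    rw [RingHom.mem_ker]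
    have hu : IsUnit (res.hom s) := RingedSpace.isUnit_res_basicOpen (Ω : Scheme.{u}).toRingedSpace s
    refine (hu.mul_right_eq_zero).1 ?_
    rw [← map_mul, hsI a ha, map_zero]
  let χ' : Γ(Z, V) →+* Γ(Ω, U') := φ.hom.liftOfSurjective hφ ⟨res.hom, hres⟩
  have hχ' : CommRingCat.ofHom (χ'.comp φ.hom) = res :=
    CommRingCat.hom_ext (RingHom.liftOfRightInverse_comp _ _ _ _)
  refine ⟨Ω.ι ''ᵁ U', ⟨g z, hzU', congr(($hg : Z ⟶ D.B) z)⟩,
    (Ω.ι.isoImage U').inv ≫ hU'.isoSpec.hom ≫ Spec.map (CommRingCat.ofHom χ') ≫ hV.fromSpec, ?_⟩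
  rw [Category.assoc, Category.assoc, Category.assoc, ← hg,
    ← reassoc_of% IsAffineOpen.SpecMap_appLE_fromSpec g hU hV le_rfl, ← Spec.map_comp_assoc]
  rw [show φ ≫ CommRingCat.ofHom χ' = res from hχ', ← Category.assoc (Spec.map res), hU.map_fromSpec hU',
    hU'.isoSpec_hom_fromSpec_assoc, ← Scheme.Hom.isoImage_hom_ι, Iso.inv_hom_id_assoc]

/-- The main theorem: a clopen of the base over which the module is trivial, containing every point with
trivial fibre. -/
theorem exists_clopen_trivial :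
    ∃ W : D.B.Opens, IsClosed (W : Set D.B) ∧
      (∀ b : D.B, Nonempty (CohIII.fiberMod D.f L b ≅ Coh.structureModule (D.f.fiber b)) → b ∈ W) ∧
      Nonempty ((Scheme.Modules.pullback (pullback.fst D.f W.ι)).obj L ≅ Coh.structureModule _) := by
  classical
  haveI : GeometricallyConnected D.f := inferInstance
  obtain ⟨Z, ι, hι, hι', -, hdesc, -⟩ := Groth.Agent.S7817.result D.f L
    (Groth.L16.Existence.isFinLocFree_of_isInvertible hL)
  haveI := hι; haveI := hι'
  have huniv : ∀ (T : Scheme.{u}) (u : T ⟶ D.B), (∃ u' : T ⟶ Z, u' ≫ ι = u) ↔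
      Nonempty ((Scheme.Modules.pullback (pullback.fst D.f u)).obj L ≅ Coh.structureModule _) := fun T u =>
    (hdesc T u).trans ⟨D.trivial_of_descends L hL hX hY u, fun ⟨e⟩ =>
      ⟨Coh.structureModule T, Groth.L16.Existence.isFinLocFree_of_isInvertible (Groth.L18.Ample.isInvertible_structureModule _),
        ⟨e ≪≫ (Groth.L29.LocFree.pullbackUnitIso _).symm⟩⟩⟩
  choose W hzW w hw using D.exists_opens_factor L hL hX hY ι huniv
  let O : D.B.Opens := ⨆ z, W z
  have hmem : ∀ b, b ∈ O ↔ Nonempty (CohIII.fiberMod D.f L b ≅ Coh.structureModule (D.f.fiber b)) := by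
    intro b
    rw [fiber_trivial_iff D L hL, ← huniv]
    constructor
    · intro hb
      obtain ⟨z, hz⟩ := Opens.mem_iSup.1 hb
      have hr : Set.range (D.B.fromSpecResidueField b) ⊆ Set.range (W z).ι := by
        rw [Scheme.range_fromSpecResidueField, Scheme.Opens.range_ι]
        exact Set.singleton_subset_iff.2 hz
      exact ⟨IsOpenImmersion.lift (W z).ι (D.B.fromSpecResidueField b) hr ≫ w z,
        by rw [Category.assoc, hw, IsOpenImmersion.lift_fac]⟩
    · rintro ⟨u', hu'⟩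
      refine Opens.mem_iSup.2 ⟨u' (IsLocalRing.closedPoint _), ?_⟩
      have h := congr(($hu' : _ ⟶ D.B) (IsLocalRing.closedPoint _))
      rw [Scheme.fromSpecResidueField_apply] at h
      have h' := hzW (u' (IsLocalRing.closedPoint _))
      rwa [← Scheme.Hom.comp_apply, h] at h'
  refine ⟨O, ?_, fun b hb => (hmem b).2 hb, (huniv _ _).1 ⟨(Scheme.Opens.iSupOpenCover W).glueMorphisms w ?_, ?_⟩⟩
  · refine closure_subset_iff_isClosed.1 fun b hb => (hmem b).2 ?_
    exact Groth.L20.DescLocus.trivial_on_fibres_of_closure D.f L hL (fun v hv => (hmem v).1 hv) b hb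
  · intro i j
    rw [← cancel_mono ι, Category.assoc, Category.assoc, hw, hw]
    have h := pullback.condition (f := (Scheme.Opens.iSupOpenCover W).f i) (g := (Scheme.Opens.iSupOpenCover W).f j)
    have h' := congrArg (· ≫ (⨆ z, W z).ι) h
    simpa [Scheme.Opens.iSupOpenCover] using h'
  · refine (Scheme.Opens.iSupOpenCover W).hom_ext _ _ fun i => ?_
    rw [Scheme.Cover.ι_glueMorphisms_assoc, hw]
    simp [O, Scheme.Opens.iSupOpenCover]

end Slices

end Groth.L08.Cube
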